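import Cfsg.Agent.Held.Sub

/-! Classes of involutions and generation of the coded group. -/

set_option autoImplicit false
set_option maxRecDepth 100000

namespace CF.Held

open CF.Comp Matrix Subgroup CF.Loc CF.Even CF.LX

namespace HM

/-- classes and conjugating elements -/
noncomputable def tabC : BT ℕ := (BT.node (nat_lit 17111105) (BT.node (nat_lit 17044417) (BT.node (nat_lit 17041537) (BT.node (nat_lit 16916945) (BT.node (nat_lit 16863505) (BT.node (nat_lit 16857351) (BT.node (nat_lit 16847121) (BT.node (nat_lit 16847115) (BT.node (nat_lit 16847109) (BT.leaf (nat_lit 269554709)) (BT.leaf (nat_lit 269554711))) (BT.node (nat_lit 16847119) (BT.leaf (nat_lit 269554741)) (BT.leaf (nat_lit 269554743)))) (BT.node (nat_lit 16847131) (BT.node (nat_lit 16847125) (BT.leaf (nat_lit 269554710)) (BT.leaf (nat_lit 269816855))) (BT.node (nat_lit 16847135) (BT.leaf (nat_lit 269554742)) (BT.node (nat_lit 16857345) (BT.leaf (nat_lit 269816887)) (BT.leaf (nat_lit 269587477)))))) (BT.node (nat_lit 16857367) (BT.node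 (nat_lit 16857357) (BT.node (nat_lit 16857355) (BT.leaf (nat_lit 269587511)) (BT.leaf (nat_lit 269587509))) (BT.node (nat_lit 16857361) (BT.leaf (nat_lit 269587479)) (BT.leaf (nat_lit 269587478)))) (BT.node (nat_lit 16857373) (BT.node (nat_lit 16857371) (BT.leaf (nat_lit 269849655)) (BT.leaf (nat_lit 269587510))) (BT.node (nat_lit 16863489) (BT.leaf (nat_lit 269849623)) (BT.node (nat_lit 16863499) (BT.leaf (nat_lit 269554712)) (BT.leaf (nat_lit 269554744))))))) (BT.node (nat_lit 16916559) (BT.node (nat_lit 16873745) (BT.node (nat_lit 16873729) (BT.node (nat_lit 16863515) (BT.leaf (nat_lit 269554776)) (BT.leaf (nat_lit 269554808))) (BT.node (nat_lit 16873739) (BT.leaf (nat_lit 269587480)) (BT.leaf (nat_lit 269587512)))) (BT.node (nat_lit 16916545) (BT.node (nat_lit 16873755) (BT.leaf (nat_lit 269587544)) (BT.leaf (nat_lit 269587576))) (BT.node (nat_lit 16916547) (BT.leaf (nat_lit 269649941)) (BT.node (nat_lit 16916557) (BT.leaf (nat_lit 269649943)) (BT.leaf (nat_lit 269649973)))))) (BT.node (nat_lit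 16916575) (BT.node (nat_lit 16916563) (BT.node (nat_lit 16916561) (BT.leaf (nat_lit 269649975)) (BT.leaf (nat_lit 269649942))) (BT.node (nat_lit 16916573) (BT.leaf (nat_lit 269658135)) (BT.leaf (nat_lit 269649974)))) (BT.node (nat_lit 16916935) (BT.node (nat_lit 16916929) (BT.leaf (nat_lit 269658167)) (BT.leaf (nat_lit 269650965))) (BT.node (nat_lit 16916939) (BT.leaf (nat_lit 269650999)) (BT.node (nat_lit 16916941) (BT.leaf (nat_lit 269650967)) (BT.leaf (nat_lit 269650997)))))))) (BT.node (nat_lit 16978331) (BT.node (nat_lit 16917453) (BT.node (nat_lit 16917057) (BT.node (nat_lit 16916955) (BT.node (nat_lit 16916951) (BT.leaf (nat_lit 269650966)) (BT.leaf (nat_lit 269659191))) (BT.node (nat_lit 16916957) (BT.leaf (nat_lit 269659159)) (BT.leaf (nat_lit 269650998)))) (BT.node (nat_lit 16917073) (BT.node (nat_lit 16917069) (BT.leaf (nat_lit 269649944)) (BT.leaf (nat_lit 269649976))) (BT.node (nat_lit 16917085) (BT.leaf (nat_lit 269650008)) (BT.node (nat_lit 16917441) (BT.leaf (nat_lit 269650040))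 (BT.leaf (nat_lit 269650968)))))) (BT.node (nat_lit 16978309) (BT.node (nat_lit 16917469) (BT.node (nat_lit 16917457) (BT.leaf (nat_lit 269651000)) (BT.leaf (nat_lit 269651032))) (BT.node (nat_lit 16978305) (BT.leaf (nat_lit 269651064)) (BT.leaf (nat_lit 269556757)))) (BT.node (nat_lit 16978319) (BT.node (nat_lit 16978315) (BT.leaf (nat_lit 269556759)) (BT.leaf (nat_lit 269556791))) (BT.node (nat_lit 16978321) (BT.leaf (nat_lit 269556789)) (BT.node (nat_lit 16978325) (BT.leaf (nat_lit 269556758)) (BT.leaf (nat_lit 269827095))))))) (BT.node (nat_lit 16984159) (BT.node (nat_lit 16984141) (BT.node (nat_lit 16984129) (BT.node (nat_lit 16978335) (BT.leaf (nat_lit 269827127)) (BT.leaf (nat_lit 269556790))) (BT.node (nat_lit 16984131) (BT.leaf (nat_lit 269588501)) (BT.leaf (nat_lit 269588535)))) (BT.node (nat_lit 16984145) (BT.node (nat_lit 16984143) (BT.leaf (nat_lit 269588503)) (BT.leaf (nat_lit 269588533))) (BT.node (nat_lit 16984147) (BT.leaf (nat_lit 269588502)) (BT.node (nat_lit 16984157) (BT.leaf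 (nat_lit 269858871)) (BT.leaf (nat_lit 269858839)))))) (BT.node (nat_lit 16995231) (BT.node (nat_lit 16995215) (BT.node (nat_lit 16995201) (BT.leaf (nat_lit 269588534)) (BT.leaf (nat_lit 269556760))) (BT.node (nat_lit 16995217) (BT.leaf (nat_lit 269556792)) (BT.leaf (nat_lit 269556824)))) (BT.node (nat_lit 17001039) (BT.node (nat_lit 17001025) (BT.leaf (nat_lit 269556856)) (BT.leaf (nat_lit 269588504))) (BT.node (nat_lit 17001041) (BT.leaf (nat_lit 269588536)) (BT.node (nat_lit 17001055) (BT.leaf (nat_lit 269588568)) (BT.leaf (nat_lit 269588600))))))))) (BT.node (nat_lit 17043793) (BT.node (nat_lit 17043541) (BT.node (nat_lit 17043523) (BT.node (nat_lit 17041553) (BT.node (nat_lit 17041545) (BT.node (nat_lit 17041543) (BT.leaf (nat_lit 270570517)) (BT.leaf (nat_lit 270570549))) (BT.node (nat_lit 17041551) (BT.leaf (nat_lit 270570519)) (BT.leaf (nat_lit 270570551)))) (BT.node (nat_lit 17041561) (BT.node (nat_lit 17041559) (BT.leaf (nat_lit 270570518)) (BT.leaf (nat_lit 270570550))) (BT.node (nat_lit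 17041567) (BT.leaf (nat_lit 278959127)) (BT.node (nat_lit 17043521) (BT.leaf (nat_lit 278959159)) (BT.leaf (nat_lit 272696336)))))) (BT.node (nat_lit 17043531) (BT.node (nat_lit 17043527) (BT.node (nat_lit 17043525) (BT.leaf (nat_lit 269553682)) (BT.leaf (nat_lit 269617170))) (BT.node (nat_lit 17043529) (BT.leaf (nat_lit 269555730)) (BT.leaf (nat_lit 272696338)))) (BT.node (nat_lit 17043535) (BT.node (nat_lit 17043533) (BT.leaf (nat_lit 269554706)) (BT.leaf (nat_lit 269649938))) (BT.node (nat_lit 17043537) (BT.leaf (nat_lit 269556754)) (BT.node (nat_lit 17043539) (BT.leaf (nat_lit 272696337)) (BT.leaf (nat_lit 269561874))))))) (BT.node (nat_lit 17043661) (BT.node (nat_lit 17043549) (BT.node (nat_lit 17043545) (BT.node (nat_lit 17043543) (BT.leaf (nat_lit 269879314)) (BT.leaf (nat_lit 269563922))) (BT.node (nat_lit 17043547) (BT.leaf (nat_lit 281084946)) (BT.leaf (nat_lit 269562898)))) (BT.node (nat_lit 17043649) (BT.node (nat_lit 17043551) (BT.leaf (nat_lit 269912082)) (BT.leaf (nat_lit 269564946)))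 (BT.node (nat_lit 17043653) (BT.leaf (nat_lit 270664725)) (BT.node (nat_lit 17043657) (BT.leaf (nat_lit 270664757)) (BT.leaf (nat_lit 270664727)))))) (BT.node (nat_lit 17043677) (BT.node (nat_lit 17043669) (BT.node (nat_lit 17043665) (BT.leaf (nat_lit 270664759)) (BT.leaf (nat_lit 270664726))) (BT.node (nat_lit 17043673) (BT.leaf (nat_lit 270664758)) (BT.leaf (nat_lit 279053335)))) (BT.node (nat_lit 17043781) (BT.node (nat_lit 17043777) (BT.leaf (nat_lit 279053367)) (BT.leaf (nat_lit 272696341))) (BT.node (nat_lit 17043785) (BT.leaf (nat_lit 272696343)) (BT.node (nat_lit 17043789) (BT.leaf (nat_lit 272696373)) (BT.leaf (nat_lit 272696375)))))))) (BT.node (nat_lit 17044057) (BT.node (nat_lit 17043925) (BT.node (nat_lit 17043905) (BT.node (nat_lit 17043801) (BT.node (nat_lit 17043797) (BT.leaf (nat_lit 272696342)) (BT.leaf (nat_lit 272958487))) (BT.node (nat_lit 17043805) (BT.leaf (nat_lit 272696374)) (BT.leaf (nat_lit 272958519)))) (BT.node (nat_lit 17043913) (BT.node (nat_lit 17043909) (BT.leaf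 (nat_lit 270730261)) (BT.leaf (nat_lit 270730295))) (BT.node (nat_lit 17043917) (BT.leaf (nat_lit 270730263)) (BT.node (nat_lit 17043921) (BT.leaf (nat_lit 270730293)) (BT.leaf (nat_lit 270730262)))))) (BT.node (nat_lit 17044037) (BT.node (nat_lit 17043933) (BT.node (nat_lit 17043929) (BT.leaf (nat_lit 279381047)) (BT.leaf (nat_lit 279381015))) (BT.node (nat_lit 17044033) (BT.leaf (nat_lit 270730294)) (BT.leaf (nat_lit 272696339)))) (BT.node (nat_lit 17044045) (BT.node (nat_lit 17044041) (BT.leaf (nat_lit 270664724)) (BT.leaf (nat_lit 272696340))) (BT.node (nat_lit 17044049) (BT.leaf (nat_lit 270730260)) (BT.node (nat_lit 17044053) (BT.leaf (nat_lit 272696371)) (BT.leaf (nat_lit 270664756))))))) (BT.node (nat_lit 17044189) (BT.node (nat_lit 17044169) (BT.node (nat_lit 17044161) (BT.node (nat_lit 17044061) (BT.leaf (nat_lit 272696372)) (BT.leaf (nat_lit 270730292))) (BT.node (nat_lit 17044165) (BT.leaf (nat_lit 270926869)) (BT.leaf (nat_lit 270926902)))) (BT.node (nat_lit 17044177) (BT.node (nat_lit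 17044173) (BT.leaf (nat_lit 270926871)) (BT.leaf (nat_lit 279315511))) (BT.node (nat_lit 17044181) (BT.leaf (nat_lit 270926870)) (BT.node (nat_lit 17044185) (BT.leaf (nat_lit 270926901)) (BT.leaf (nat_lit 279315479)))))) (BT.node (nat_lit 17044301) (BT.node (nat_lit 17044293) (BT.node (nat_lit 17044289) (BT.leaf (nat_lit 270926903)) (BT.leaf (nat_lit 281084949))) (BT.node (nat_lit 17044297) (BT.leaf (nat_lit 281084951)) (BT.leaf (nat_lit 281084982)))) (BT.node (nat_lit 17044309) (BT.node (nat_lit 17044305) (BT.leaf (nat_lit 281347127)) (BT.leaf (nat_lit 281084950))) (BT.node (nat_lit 17044313) (BT.leaf (nat_lit 281347095)) (BT.node (nat_lit 17044317) (BT.leaf (nat_lit 281084981)) (BT.leaf (nat_lit 281084983)))))))))) (BT.node (nat_lit 17060161) (BT.node (nat_lit 17051985) (BT.node (nat_lit 17049993) (BT.node (nat_lit 17045571) (BT.node (nat_lit 17044433) (BT.node (nat_lit 17044425) (BT.node (nat_lit 17044421) (BT.leaf (nat_lit 270992405)) (BT.leaf (nat_lit 279118903))) (BT.node (nat_lit 17044429)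 (BT.leaf (nat_lit 270992407)) (BT.leaf (nat_lit 270992438)))) (BT.node (nat_lit 17044441) (BT.node (nat_lit 17044437) (BT.leaf (nat_lit 270992406)) (BT.leaf (nat_lit 270992439))) (BT.node (nat_lit 17044445) (BT.leaf (nat_lit 279118871)) (BT.node (nat_lit 17045569) (BT.leaf (nat_lit 270992437)) (BT.leaf (nat_lit 270569493)))))) (BT.node (nat_lit 17045587) (BT.node (nat_lit 17045579) (BT.node (nat_lit 17045577) (BT.leaf (nat_lit 270569525)) (BT.leaf (nat_lit 270569495))) (BT.node (nat_lit 17045585) (BT.leaf (nat_lit 270569527)) (BT.leaf (nat_lit 270569494)))) (BT.node (nat_lit 17045595) (BT.node (nat_lit 17045593) (BT.leaf (nat_lit 270569526)) (BT.leaf (nat_lit 278958103))) (BT.node (nat_lit 17049985) (BT.leaf (nat_lit 278958135)) (BT.node (nat_lit 17049991) (BT.leaf (nat_lit 270572565)) (BT.leaf (nat_lit 270572599))))))) (BT.node (nat_lit 17051723) (BT.node (nat_lit 17050009) (BT.node (nat_lit 17050001) (BT.node (nat_lit 17049999) (BT.leaf (nat_lit 270572567)) (BT.leaf (nat_lit 270572597))) (BT.node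 (nat_lit 17050007) (BT.leaf (nat_lit 270572566)) (BT.leaf (nat_lit 278969399)))) (BT.node (nat_lit 17051713) (BT.node (nat_lit 17050015) (BT.leaf (nat_lit 278969367)) (BT.leaf (nat_lit 270572598))) (BT.node (nat_lit 17051715) (BT.leaf (nat_lit 272664597)) (BT.node (nat_lit 17051721) (BT.leaf (nat_lit 272664599)) (BT.leaf (nat_lit 272664629)))))) (BT.node (nat_lit 17051739) (BT.node (nat_lit 17051731) (BT.node (nat_lit 17051729) (BT.leaf (nat_lit 272664631)) (BT.leaf (nat_lit 272664598))) (BT.node (nat_lit 17051737) (BT.leaf (nat_lit 272672791)) (BT.leaf (nat_lit 272664630)))) (BT.node (nat_lit 17051975) (BT.node (nat_lit 17051969) (BT.leaf (nat_lit 272672823)) (BT.leaf (nat_lit 272665621))) (BT.node (nat_lit 17051977) (BT.leaf (nat_lit 272665623)) (BT.node (nat_lit 17051983) (BT.leaf (nat_lit 272665653)) (BT.leaf (nat_lit 272665655)))))))) (BT.node (nat_lit 17053785) (BT.node (nat_lit 17052489) (BT.node (nat_lit 17052225) (BT.node (nat_lit 17051993) (BT.node (nat_lit 17051991) (BT.leaf (nat_lit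 272665622)) (BT.leaf (nat_lit 272673815))) (BT.node (nat_lit 17051999) (BT.leaf (nat_lit 272665654)) (BT.leaf (nat_lit 272673847)))) (BT.node (nat_lit 17052241) (BT.node (nat_lit 17052233) (BT.leaf (nat_lit 272664600)) (BT.leaf (nat_lit 272664632))) (BT.node (nat_lit 17052249) (BT.leaf (nat_lit 272664664)) (BT.node (nat_lit 17052481) (BT.leaf (nat_lit 272664696)) (BT.leaf (nat_lit 272665624)))))) (BT.node (nat_lit 17053763) (BT.node (nat_lit 17052505) (BT.node (nat_lit 17052497) (BT.leaf (nat_lit 272665656)) (BT.leaf (nat_lit 272665688))) (BT.node (nat_lit 17053761) (BT.leaf (nat_lit 272665720)) (BT.leaf (nat_lit 270571541)))) (BT.node (nat_lit 17053771) (BT.node (nat_lit 17053769) (BT.leaf (nat_lit 270571575)) (BT.leaf (nat_lit 270571543))) (BT.node (nat_lit 17053777) (BT.leaf (nat_lit 270571573)) (BT.node (nat_lit 17053779) (BT.leaf (nat_lit 270571542)) (BT.leaf (nat_lit 278968375))))))) (BT.node (nat_lit 17058463) (BT.node (nat_lit 17058441) (BT.node (nat_lit 17058433) (BT.node (nat_lit 17053787)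 (BT.leaf (nat_lit 278968343)) (BT.leaf (nat_lit 270571574))) (BT.node (nat_lit 17058439) (BT.leaf (nat_lit 270578709)) (BT.leaf (nat_lit 270578742)))) (BT.node (nat_lit 17058449) (BT.node (nat_lit 17058447) (BT.leaf (nat_lit 270578711)) (BT.leaf (nat_lit 278967351))) (BT.node (nat_lit 17058455) (BT.leaf (nat_lit 270578710)) (BT.node (nat_lit 17058457) (BT.leaf (nat_lit 270578741)) (BT.leaf (nat_lit 278967319)))))) (BT.node (nat_lit 17059915) (BT.node (nat_lit 17059907) (BT.node (nat_lit 17059905) (BT.leaf (nat_lit 270578743)) (BT.leaf (nat_lit 270569491))) (BT.node (nat_lit 17059913) (BT.leaf (nat_lit 270569492)) (BT.leaf (nat_lit 272664596)))) (BT.node (nat_lit 17059923) (BT.node (nat_lit 17059921) (BT.leaf (nat_lit 270571540)) (BT.leaf (nat_lit 270569523))) (BT.node (nat_lit 17059929) (BT.leaf (nat_lit 270569524)) (BT.node (nat_lit 17059931) (BT.leaf (nat_lit 272664628)) (BT.leaf (nat_lit 270571572))))))))) (BT.node (nat_lit 17068113) (BT.node (nat_lit 17061961) (BT.node (nat_lit 17060439) (BT.node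 (nat_lit 17060417) (BT.node (nat_lit 17060177) (BT.node (nat_lit 17060169) (BT.leaf (nat_lit 272696344)) (BT.leaf (nat_lit 272696376))) (BT.node (nat_lit 17060185) (BT.leaf (nat_lit 272696408)) (BT.leaf (nat_lit 272696440)))) (BT.node (nat_lit 17060425) (BT.node (nat_lit 17060423) (BT.leaf (nat_lit 270570515)) (BT.leaf (nat_lit 270570516))) (BT.node (nat_lit 17060431) (BT.leaf (nat_lit 272665620)) (BT.node (nat_lit 17060433) (BT.leaf (nat_lit 270572564)) (BT.leaf (nat_lit 270570547)))))) (BT.node (nat_lit 17060681) (BT.node (nat_lit 17060447) (BT.node (nat_lit 17060441) (BT.leaf (nat_lit 270570548)) (BT.leaf (nat_lit 272665652))) (BT.node (nat_lit 17060673) (BT.leaf (nat_lit 270572596)) (BT.leaf (nat_lit 272698392)))) (BT.node (nat_lit 17060697) (BT.node (nat_lit 17060689) (BT.leaf (nat_lit 272698424)) (BT.leaf (nat_lit 272698456))) (BT.node (nat_lit 17061953) (BT.leaf (nat_lit 272698488)) (BT.node (nat_lit 17061955) (BT.leaf (nat_lit 270577685)) (BT.leaf (nat_lit 270577718))))))) (BT.node (nat_lit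 17066895) (BT.node (nat_lit 17061977) (BT.node (nat_lit 17061969) (BT.node (nat_lit 17061963) (BT.leaf (nat_lit 270577687)) (BT.leaf (nat_lit 278966327))) (BT.node (nat_lit 17061971) (BT.leaf (nat_lit 270577686)) (BT.leaf (nat_lit 270577717)))) (BT.node (nat_lit 17066881) (BT.node (nat_lit 17061979) (BT.leaf (nat_lit 278966295)) (BT.leaf (nat_lit 270577719))) (BT.node (nat_lit 17066887) (BT.leaf (nat_lit 270580757)) (BT.node (nat_lit 17066889) (BT.leaf (nat_lit 278961207)) (BT.leaf (nat_lit 270580759)))))) (BT.node (nat_lit 17066911) (BT.node (nat_lit 17066903) (BT.node (nat_lit 17066897) (BT.leaf (nat_lit 270580790)) (BT.leaf (nat_lit 270580758))) (BT.node (nat_lit 17066905) (BT.leaf (nat_lit 270580791)) (BT.leaf (nat_lit 278961175)))) (BT.node (nat_lit 17068099) (BT.node (nat_lit 17068097) (BT.leaf (nat_lit 270580789)) (BT.leaf (nat_lit 281053205))) (BT.node (nat_lit 17068105) (BT.leaf (nat_lit 281053207)) (BT.node (nat_lit 17068107) (BT.leaf (nat_lit 281053238)) (BT.leaf (nat_lit 281061431))))))))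 (BT.node (nat_lit 17068889) (BT.node (nat_lit 17068617) (BT.node (nat_lit 17068353) (BT.node (nat_lit 17068121) (BT.node (nat_lit 17068115) (BT.leaf (nat_lit 281053206)) (BT.leaf (nat_lit 281061399))) (BT.node (nat_lit 17068123) (BT.leaf (nat_lit 281053237)) (BT.leaf (nat_lit 281053239)))) (BT.node (nat_lit 17068369) (BT.node (nat_lit 17068361) (BT.leaf (nat_lit 272729112)) (BT.leaf (nat_lit 272729144))) (BT.node (nat_lit 17068377) (BT.leaf (nat_lit 272729176)) (BT.node (nat_lit 17068609) (BT.leaf (nat_lit 272729208)) (BT.leaf (nat_lit 272730136)))))) (BT.node (nat_lit 17068871) (BT.node (nat_lit 17068633) (BT.node (nat_lit 17068625) (BT.leaf (nat_lit 272730168)) (BT.leaf (nat_lit 272730200))) (BT.node (nat_lit 17068865) (BT.leaf (nat_lit 272730232)) (BT.leaf (nat_lit 281054229)))) (BT.node (nat_lit 17068879) (BT.node (nat_lit 17068873) (BT.leaf (nat_lit 281054231)) (BT.leaf (nat_lit 281054262))) (BT.node (nat_lit 17068881) (BT.leaf (nat_lit 281062455)) (BT.node (nat_lit 17068887) (BT.leaf (nat_lit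 281054230)) (BT.leaf (nat_lit 281062423))))))) (BT.node (nat_lit 17070171) (BT.node (nat_lit 17070153) (BT.node (nat_lit 17070145) (BT.node (nat_lit 17068895) (BT.leaf (nat_lit 281054261)) (BT.leaf (nat_lit 281054263))) (BT.node (nat_lit 17070147) (BT.leaf (nat_lit 270579733)) (BT.leaf (nat_lit 278960183)))) (BT.node (nat_lit 17070161) (BT.node (nat_lit 17070155) (BT.leaf (nat_lit 270579735)) (BT.leaf (nat_lit 270579766))) (BT.node (nat_lit 17070163) (BT.leaf (nat_lit 270579734)) (BT.node (nat_lit 17070169) (BT.leaf (nat_lit 270579767)) (BT.leaf (nat_lit 278960151)))))) (BT.node (nat_lit 17109063) (BT.node (nat_lit 17109059) (BT.node (nat_lit 17109057) (BT.leaf (nat_lit 270579765)) (BT.leaf (nat_lit 269553685))) (BT.node (nat_lit 17109061) (BT.leaf (nat_lit 269553717)) (BT.leaf (nat_lit 269553687)))) (BT.node (nat_lit 17109075) (BT.node (nat_lit 17109073) (BT.leaf (nat_lit 269553719)) (BT.leaf (nat_lit 269553686))) (BT.node (nat_lit 17109077) (BT.leaf (nat_lit 269553718)) (BT.node (nat_lit 17109079)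 (BT.leaf (nat_lit 269815831)) (BT.leaf (nat_lit 269815863))))))))))) (BT.node (nat_lit 17567825) (BT.node (nat_lit 17382145) (BT.node (nat_lit 17175233) (BT.node (nat_lit 17174597) (BT.node (nat_lit 17125443) (BT.node (nat_lit 17111121) (BT.node (nat_lit 17111117) (BT.node (nat_lit 17111107) (BT.leaf (nat_lit 269586453)) (BT.leaf (nat_lit 269586485))) (BT.node (nat_lit 17111119) (BT.leaf (nat_lit 269586455)) (BT.leaf (nat_lit 269586487)))) (BT.node (nat_lit 17111133) (BT.node (nat_lit 17111123) (BT.leaf (nat_lit 269586454)) (BT.leaf (nat_lit 269586486))) (BT.node (nat_lit 17111135) (BT.leaf (nat_lit 269848599)) (BT.node (nat_lit 17125441) (BT.leaf (nat_lit 269848631)) (BT.leaf (nat_lit 269553688)))))) (BT.node (nat_lit 17127491) (BT.node (nat_lit 17125459) (BT.node (nat_lit 17125457) (BT.leaf (nat_lit 269553720)) (BT.leaf (nat_lit 269553752))) (BT.node (nat_lit 17127489) (BT.leaf (nat_lit 269553784)) (BT.leaf (nat_lit 269586456)))) (BT.node (nat_lit 17127507) (BT.node (nat_lit 17127505) (BT.leaf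 (nat_lit 269586488)) (BT.leaf (nat_lit 269586520))) (BT.node (nat_lit 17174593) (BT.leaf (nat_lit 269586552)) (BT.node (nat_lit 17174595) (BT.leaf (nat_lit 269617173)) (BT.leaf (nat_lit 269617175))))))) (BT.node (nat_lit 17174735) (BT.node (nat_lit 17174613) (BT.node (nat_lit 17174609) (BT.node (nat_lit 17174599) (BT.leaf (nat_lit 269617205)) (BT.leaf (nat_lit 269617207))) (BT.node (nat_lit 17174611) (BT.leaf (nat_lit 269617174)) (BT.leaf (nat_lit 269625367)))) (BT.node (nat_lit 17174721) (BT.node (nat_lit 17174615) (BT.leaf (nat_lit 269617206)) (BT.leaf (nat_lit 269625399))) (BT.node (nat_lit 17174725) (BT.leaf (nat_lit 269618197)) (BT.node (nat_lit 17174731) (BT.leaf (nat_lit 269618229)) (BT.leaf (nat_lit 269618199)))))) (BT.node (nat_lit 17174751) (BT.node (nat_lit 17174741) (BT.node (nat_lit 17174737) (BT.leaf (nat_lit 269618231)) (BT.leaf (nat_lit 269618198))) (BT.node (nat_lit 17174747) (BT.leaf (nat_lit 269618230)) (BT.leaf (nat_lit 269626391)))) (BT.node (nat_lit 17175109) (BT.node (nat_lit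 17175105) (BT.leaf (nat_lit 269626423)) (BT.leaf (nat_lit 269617176))) (BT.node (nat_lit 17175121) (BT.leaf (nat_lit 269617208)) (BT.node (nat_lit 17175125) (BT.leaf (nat_lit 269617240)) (BT.leaf (nat_lit 269617272)))))))) (BT.node (nat_lit 17240149) (BT.node (nat_lit 17238167) (BT.node (nat_lit 17238145) (BT.node (nat_lit 17175249) (BT.node (nat_lit 17175237) (BT.leaf (nat_lit 269618200)) (BT.leaf (nat_lit 269618232))) (BT.node (nat_lit 17175253) (BT.leaf (nat_lit 269618264)) (BT.leaf (nat_lit 269618296)))) (BT.node (nat_lit 17238155) (BT.node (nat_lit 17238151) (BT.leaf (nat_lit 269589525)) (BT.leaf (nat_lit 269589557))) (BT.node (nat_lit 17238157) (BT.leaf (nat_lit 269589559)) (BT.node (nat_lit 17238161) (BT.leaf (nat_lit 269589527)) (BT.leaf (nat_lit 269589526)))))) (BT.node (nat_lit 17240131) (BT.node (nat_lit 17238173) (BT.node (nat_lit 17238171) (BT.leaf (nat_lit 269589558)) (BT.leaf (nat_lit 269859895))) (BT.node (nat_lit 17240129) (BT.leaf (nat_lit 269859863)) (BT.leaf (nat_lit 269555733))))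 (BT.node (nat_lit 17240135) (BT.node (nat_lit 17240133) (BT.leaf (nat_lit 269555767)) (BT.leaf (nat_lit 269555735))) (BT.node (nat_lit 17240145) (BT.leaf (nat_lit 269555765)) (BT.node (nat_lit 17240147) (BT.leaf (nat_lit 269555734)) (BT.leaf (nat_lit 269826103))))))) (BT.node (nat_lit 17257047) (BT.node (nat_lit 17255057) (BT.node (nat_lit 17255041) (BT.node (nat_lit 17240151) (BT.leaf (nat_lit 269826071)) (BT.leaf (nat_lit 269555766))) (BT.node (nat_lit 17255047) (BT.leaf (nat_lit 269589528)) (BT.leaf (nat_lit 269589560)))) (BT.node (nat_lit 17257025) (BT.node (nat_lit 17255063) (BT.leaf (nat_lit 269589592)) (BT.leaf (nat_lit 269589624))) (BT.node (nat_lit 17257031) (BT.leaf (nat_lit 269555736)) (BT.node (nat_lit 17257041) (BT.leaf (nat_lit 269555768)) (BT.leaf (nat_lit 269555800)))))) (BT.node (nat_lit 17371919) (BT.node (nat_lit 17371909) (BT.node (nat_lit 17371905) (BT.leaf (nat_lit 269555832)) (BT.leaf (nat_lit 269562901))) (BT.node (nat_lit 17371915) (BT.leaf (nat_lit 269562903)) (BT.leaf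 (nat_lit 269562934)))) (BT.node (nat_lit 17371925) (BT.node (nat_lit 17371921) (BT.leaf (nat_lit 269825079)) (BT.leaf (nat_lit 269562902))) (BT.node (nat_lit 17371931) (BT.leaf (nat_lit 269825047)) (BT.node (nat_lit 17371935) (BT.leaf (nat_lit 269562933)) (BT.leaf (nat_lit 269562935))))))))) (BT.node (nat_lit 17458129) (BT.node (nat_lit 17457229) (BT.node (nat_lit 17398535) (BT.node (nat_lit 17388289) (BT.node (nat_lit 17382161) (BT.node (nat_lit 17382155) (BT.leaf (nat_lit 269595672)) (BT.leaf (nat_lit 269595768))) (BT.node (nat_lit 17382171) (BT.leaf (nat_lit 269595736)) (BT.leaf (nat_lit 269595704)))) (BT.node (nat_lit 17388305) (BT.node (nat_lit 17388299) (BT.leaf (nat_lit 269562904)) (BT.leaf (nat_lit 269563000))) (BT.node (nat_lit 17388315) (BT.leaf (nat_lit 269562968)) (BT.node (nat_lit 17398529) (BT.leaf (nat_lit 269562936)) (BT.leaf (nat_lit 269595669)))))) (BT.node (nat_lit 17398551) (BT.node (nat_lit 17398541) (BT.node (nat_lit 17398539) (BT.leaf (nat_lit 269857847)) (BT.leaf (nat_lit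 269595702))) (BT.node (nat_lit 17398545) (BT.leaf (nat_lit 269595671)) (BT.leaf (nat_lit 269595670)))) (BT.node (nat_lit 17398557) (BT.node (nat_lit 17398555) (BT.leaf (nat_lit 269595703)) (BT.leaf (nat_lit 269595701))) (BT.node (nat_lit 17457217) (BT.leaf (nat_lit 269857815)) (BT.node (nat_lit 17457219) (BT.leaf (nat_lit 269912085)) (BT.leaf (nat_lit 269912087))))))) (BT.node (nat_lit 17457629) (BT.node (nat_lit 17457245) (BT.node (nat_lit 17457233) (BT.node (nat_lit 17457231) (BT.leaf (nat_lit 269912118)) (BT.leaf (nat_lit 269920311))) (BT.node (nat_lit 17457235) (BT.leaf (nat_lit 269912086)) (BT.leaf (nat_lit 269920279)))) (BT.node (nat_lit 17457601) (BT.node (nat_lit 17457247) (BT.leaf (nat_lit 269912117)) (BT.leaf (nat_lit 269912119))) (BT.node (nat_lit 17457613) (BT.leaf (nat_lit 269913112)) (BT.node (nat_lit 17457617) (BT.leaf (nat_lit 269913208)) (BT.leaf (nat_lit 269913176)))))) (BT.node (nat_lit 17457757) (BT.node (nat_lit 17457741) (BT.node (nat_lit 17457729) (BT.leaf (nat_lit 269913144))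 (BT.leaf (nat_lit 269912088))) (BT.node (nat_lit 17457745) (BT.leaf (nat_lit 269912184)) (BT.leaf (nat_lit 269912152)))) (BT.node (nat_lit 17458119) (BT.node (nat_lit 17458113) (BT.leaf (nat_lit 269912120)) (BT.leaf (nat_lit 269913109))) (BT.node (nat_lit 17458123) (BT.leaf (nat_lit 269921335)) (BT.node (nat_lit 17458125) (BT.leaf (nat_lit 269913111)) (BT.leaf (nat_lit 269913142)))))))) (BT.node (nat_lit 17518993) (BT.node (nat_lit 17503125) (BT.node (nat_lit 17503105) (BT.node (nat_lit 17458139) (BT.node (nat_lit 17458135) (BT.leaf (nat_lit 269913110)) (BT.leaf (nat_lit 269913143))) (BT.node (nat_lit 17458141) (BT.leaf (nat_lit 269921303)) (BT.leaf (nat_lit 269913141)))) (BT.node (nat_lit 17503115) (BT.node (nat_lit 17503109) (BT.leaf (nat_lit 269564949)) (BT.leaf (nat_lit 269564951))) (BT.node (nat_lit 17503119) (BT.leaf (nat_lit 269818935)) (BT.node (nat_lit 17503121) (BT.leaf (nat_lit 269564982)) (BT.leaf (nat_lit 269564950)))))) (BT.node (nat_lit 17508943) (BT.node (nat_lit 17503135) (BT.node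 (nat_lit 17503131) (BT.leaf (nat_lit 269818903)) (BT.leaf (nat_lit 269564983))) (BT.node (nat_lit 17508929) (BT.leaf (nat_lit 269564981)) (BT.leaf (nat_lit 269596696)))) (BT.node (nat_lit 17508959) (BT.node (nat_lit 17508945) (BT.leaf (nat_lit 269596792)) (BT.leaf (nat_lit 269596760))) (BT.node (nat_lit 17518977) (BT.leaf (nat_lit 269596728)) (BT.node (nat_lit 17518991) (BT.leaf (nat_lit 269564952)) (BT.leaf (nat_lit 269565048))))))) (BT.node (nat_lit 17524831) (BT.node (nat_lit 17524813) (BT.node (nat_lit 17524801) (BT.node (nat_lit 17519007) (BT.leaf (nat_lit 269565016)) (BT.leaf (nat_lit 269564984))) (BT.node (nat_lit 17524803) (BT.leaf (nat_lit 269596693)) (BT.leaf (nat_lit 269850679)))) (BT.node (nat_lit 17524817) (BT.node (nat_lit 17524815) (BT.leaf (nat_lit 269596695)) (BT.leaf (nat_lit 269596726))) (BT.node (nat_lit 17524819) (BT.leaf (nat_lit 269596694)) (BT.node (nat_lit 17524829) (BT.leaf (nat_lit 269596727)) (BT.leaf (nat_lit 269850647)))))) (BT.node (nat_lit 17565847) (BT.node (nat_lit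 17565831) (BT.node (nat_lit 17565825) (BT.leaf (nat_lit 269596725)) (BT.leaf (nat_lit 270570520))) (BT.node (nat_lit 17565841) (BT.leaf (nat_lit 270570552)) (BT.leaf (nat_lit 270570584)))) (BT.node (nat_lit 17567811) (BT.node (nat_lit 17567809) (BT.leaf (nat_lit 270570616)) (BT.leaf (nat_lit 269553683))) (BT.node (nat_lit 17567813) (BT.leaf (nat_lit 269553684)) (BT.node (nat_lit 17567815) (BT.leaf (nat_lit 269617172)) (BT.leaf (nat_lit 269555732)))))))))) (BT.node (nat_lit 17633345) (BT.node (nat_lit 17584193) (BT.node (nat_lit 17568465) (BT.node (nat_lit 17568325) (BT.node (nat_lit 17567937) (BT.node (nat_lit 17567829) (BT.node (nat_lit 17567827) (BT.leaf (nat_lit 269553715)) (BT.leaf (nat_lit 269553716))) (BT.node (nat_lit 17567831) (BT.leaf (nat_lit 269617204)) (BT.leaf (nat_lit 269555764)))) (BT.node (nat_lit 17567953) (BT.node (nat_lit 17567941) (BT.leaf (nat_lit 270664728)) (BT.leaf (nat_lit 270664760))) (BT.node (nat_lit 17567957) (BT.leaf (nat_lit 270664792)) (BT.node (nat_lit 17568321)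 (BT.leaf (nat_lit 270664824)) (BT.leaf (nat_lit 269554707)))))) (BT.node (nat_lit 17568341) (BT.node (nat_lit 17568335) (BT.node (nat_lit 17568331) (BT.leaf (nat_lit 269618196)) (BT.leaf (nat_lit 269554708))) (BT.node (nat_lit 17568337) (BT.leaf (nat_lit 269556756)) (BT.leaf (nat_lit 269554739)))) (BT.node (nat_lit 17568351) (BT.node (nat_lit 17568347) (BT.leaf (nat_lit 269618228)) (BT.leaf (nat_lit 269554740))) (BT.node (nat_lit 17568449) (BT.leaf (nat_lit 269556788)) (BT.node (nat_lit 17568453) (BT.leaf (nat_lit 270666776)) (BT.leaf (nat_lit 270666808))))))) (BT.node (nat_lit 17574815) (BT.node (nat_lit 17569873) (BT.node (nat_lit 17569857) (BT.node (nat_lit 17568469) (BT.leaf (nat_lit 270666840)) (BT.leaf (nat_lit 270666872))) (BT.node (nat_lit 17569859) (BT.leaf (nat_lit 270569496)) (BT.leaf (nat_lit 270569528)))) (BT.node (nat_lit 17574785) (BT.node (nat_lit 17569875) (BT.leaf (nat_lit 270569560)) (BT.leaf (nat_lit 270569592))) (BT.node (nat_lit 17574799) (BT.leaf (nat_lit 270572568)) (BT.node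 (nat_lit 17574801) (BT.leaf (nat_lit 270572600)) (BT.leaf (nat_lit 270572632)))))) (BT.node (nat_lit 17578587) (BT.node (nat_lit 17578571) (BT.node (nat_lit 17578561) (BT.leaf (nat_lit 270572664)) (BT.leaf (nat_lit 270571544))) (BT.node (nat_lit 17578577) (BT.leaf (nat_lit 270571576)) (BT.leaf (nat_lit 270571608)))) (BT.node (nat_lit 17582727) (BT.node (nat_lit 17582721) (BT.leaf (nat_lit 270571640)) (BT.leaf (nat_lit 270578712))) (BT.node (nat_lit 17582737) (BT.leaf (nat_lit 270578808)) (BT.node (nat_lit 17582743) (BT.leaf (nat_lit 270578776)) (BT.leaf (nat_lit 270578744)))))))) (BT.node (nat_lit 17584731) (BT.node (nat_lit 17584589) (BT.node (nat_lit 17584209) (BT.node (nat_lit 17584205) (BT.node (nat_lit 17584195) (BT.leaf (nat_lit 269586451)) (BT.leaf (nat_lit 269586452))) (BT.node (nat_lit 17584207) (BT.leaf (nat_lit 269649940)) (BT.leaf (nat_lit 269588500)))) (BT.node (nat_lit 17584221) (BT.node (nat_lit 17584211) (BT.leaf (nat_lit 269586483)) (BT.leaf (nat_lit 269586484))) (BT.node (nat_lit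 17584223) (BT.leaf (nat_lit 269649972)) (BT.node (nat_lit 17584577) (BT.leaf (nat_lit 269588532)) (BT.leaf (nat_lit 270730264)))))) (BT.node (nat_lit 17584711) (BT.node (nat_lit 17584605) (BT.node (nat_lit 17584593) (BT.leaf (nat_lit 270730296)) (BT.leaf (nat_lit 270730328))) (BT.node (nat_lit 17584705) (BT.leaf (nat_lit 270730360)) (BT.leaf (nat_lit 269587475)))) (BT.node (nat_lit 17584717) (BT.node (nat_lit 17584715) (BT.leaf (nat_lit 269589524)) (BT.leaf (nat_lit 269587476))) (BT.node (nat_lit 17584721) (BT.leaf (nat_lit 269650964)) (BT.node (nat_lit 17584727) (BT.leaf (nat_lit 269587507)) (BT.leaf (nat_lit 269589556))))))) (BT.node (nat_lit 17586259) (BT.node (nat_lit 17585105) (BT.node (nat_lit 17585089) (BT.node (nat_lit 17584733) (BT.leaf (nat_lit 269587508)) (BT.leaf (nat_lit 269650996))) (BT.node (nat_lit 17585101) (BT.leaf (nat_lit 270732312)) (BT.leaf (nat_lit 270732344)))) (BT.node (nat_lit 17586241) (BT.node (nat_lit 17585117) (BT.leaf (nat_lit 270732376)) (BT.leaf (nat_lit 270732408)))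 (BT.node (nat_lit 17586243) (BT.leaf (nat_lit 270577688)) (BT.node (nat_lit 17586257) (BT.leaf (nat_lit 270577784)) (BT.leaf (nat_lit 270577752)))))) (BT.node (nat_lit 17590687) (BT.node (nat_lit 17590671) (BT.node (nat_lit 17590657) (BT.leaf (nat_lit 270577720)) (BT.leaf (nat_lit 270580760))) (BT.node (nat_lit 17590673) (BT.leaf (nat_lit 270580856)) (BT.leaf (nat_lit 270580824)))) (BT.node (nat_lit 17594955) (BT.node (nat_lit 17594945) (BT.leaf (nat_lit 270580792)) (BT.leaf (nat_lit 270579736))) (BT.node (nat_lit 17594961) (BT.leaf (nat_lit 270579832)) (BT.node (nat_lit 17594971) (BT.leaf (nat_lit 270579800)) (BT.leaf (nat_lit 270579768))))))))) (BT.node (nat_lit 17699393) (BT.node (nat_lit 17651789) (BT.node (nat_lit 17635395) (BT.node (nat_lit 17633361) (BT.node (nat_lit 17633349) (BT.node (nat_lit 17633347) (BT.leaf (nat_lit 269561877)) (BT.leaf (nat_lit 269561910))) (BT.node (nat_lit 17633351) (BT.leaf (nat_lit 269561879)) (BT.leaf (nat_lit 269824055)))) (BT.node (nat_lit 17633365) (BT.node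 (nat_lit 17633363) (BT.leaf (nat_lit 269561878)) (BT.leaf (nat_lit 269561909))) (BT.node (nat_lit 17633367) (BT.leaf (nat_lit 269824023)) (BT.node (nat_lit 17635393) (BT.leaf (nat_lit 269561911)) (BT.leaf (nat_lit 269594648)))))) (BT.node (nat_lit 17649731) (BT.node (nat_lit 17635411) (BT.node (nat_lit 17635409) (BT.leaf (nat_lit 269594744)) (BT.leaf (nat_lit 269594712))) (BT.node (nat_lit 17649729) (BT.leaf (nat_lit 269594680)) (BT.leaf (nat_lit 269561880)))) (BT.node (nat_lit 17649747) (BT.node (nat_lit 17649745) (BT.leaf (nat_lit 269561976)) (BT.leaf (nat_lit 269561944))) (BT.node (nat_lit 17651777) (BT.leaf (nat_lit 269561912)) (BT.node (nat_lit 17651779) (BT.leaf (nat_lit 269594645)) (BT.leaf (nat_lit 269594678))))))) (BT.node (nat_lit 17698887) (BT.node (nat_lit 17651805) (BT.node (nat_lit 17651793) (BT.node (nat_lit 17651791) (BT.leaf (nat_lit 269594647)) (BT.leaf (nat_lit 269856823))) (BT.node (nat_lit 17651795) (BT.leaf (nat_lit 269594646)) (BT.leaf (nat_lit 269594677)))) (BT.node (nat_lit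 17698881) (BT.node (nat_lit 17651807) (BT.leaf (nat_lit 269856791)) (BT.leaf (nat_lit 269594679))) (BT.node (nat_lit 17698883) (BT.leaf (nat_lit 269879317)) (BT.node (nat_lit 17698885) (BT.leaf (nat_lit 269879319)) (BT.leaf (nat_lit 269879350)))))) (BT.node (nat_lit 17698903) (BT.node (nat_lit 17698899) (BT.node (nat_lit 17698897) (BT.leaf (nat_lit 269887543)) (BT.leaf (nat_lit 269879318))) (BT.node (nat_lit 17698901) (BT.leaf (nat_lit 269887511)) (BT.leaf (nat_lit 269879349)))) (BT.node (nat_lit 17699013) (BT.node (nat_lit 17699009) (BT.leaf (nat_lit 269879351)) (BT.leaf (nat_lit 269880344))) (BT.node (nat_lit 17699025) (BT.leaf (nat_lit 269880440)) (BT.node (nat_lit 17699029) (BT.leaf (nat_lit 269880408)) (BT.leaf (nat_lit 269880376)))))))) (BT.node (nat_lit 17764421) (BT.node (nat_lit 17699541) (BT.node (nat_lit 17699521) (BT.node (nat_lit 17699409) (BT.node (nat_lit 17699397) (BT.leaf (nat_lit 269879320)) (BT.leaf (nat_lit 269879416))) (BT.node (nat_lit 17699413) (BT.leaf (nat_lit 269879384))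 (BT.leaf (nat_lit 269879352)))) (BT.node (nat_lit 17699531) (BT.node (nat_lit 17699525) (BT.leaf (nat_lit 269880341)) (BT.leaf (nat_lit 269880374))) (BT.node (nat_lit 17699535) (BT.leaf (nat_lit 269880343)) (BT.node (nat_lit 17699537) (BT.leaf (nat_lit 269888567)) (BT.leaf (nat_lit 269880342)))))) (BT.node (nat_lit 17762439) (BT.node (nat_lit 17699551) (BT.node (nat_lit 17699547) (BT.leaf (nat_lit 269880373)) (BT.leaf (nat_lit 269888535))) (BT.node (nat_lit 17762433) (BT.leaf (nat_lit 269880375)) (BT.leaf (nat_lit 269597720)))) (BT.node (nat_lit 17762455) (BT.node (nat_lit 17762449) (BT.leaf (nat_lit 269597816)) (BT.leaf (nat_lit 269597784))) (BT.node (nat_lit 17764417) (BT.leaf (nat_lit 269597752)) (BT.node (nat_lit 17764419) (BT.leaf (nat_lit 269563925)) (BT.leaf (nat_lit 269817911))))))) (BT.node (nat_lit 17779341) (BT.node (nat_lit 17764437) (BT.node (nat_lit 17764433) (BT.node (nat_lit 17764423) (BT.leaf (nat_lit 269563927)) (BT.leaf (nat_lit 269563958))) (BT.node (nat_lit 17764435) (BT.leaf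 (nat_lit 269563926)) (BT.leaf (nat_lit 269563959)))) (BT.node (nat_lit 17779329) (BT.node (nat_lit 17764439) (BT.leaf (nat_lit 269817879)) (BT.leaf (nat_lit 269563957))) (BT.node (nat_lit 17779335) (BT.leaf (nat_lit 269597717)) (BT.node (nat_lit 17779339) (BT.leaf (nat_lit 269597750)) (BT.leaf (nat_lit 269851703)))))) (BT.node (nat_lit 17779357) (BT.node (nat_lit 17779351) (BT.node (nat_lit 17779345) (BT.leaf (nat_lit 269597719)) (BT.leaf (nat_lit 269597718))) (BT.node (nat_lit 17779355) (BT.leaf (nat_lit 269597749)) (BT.leaf (nat_lit 269597751)))) (BT.node (nat_lit 17781319) (BT.node (nat_lit 17781313) (BT.leaf (nat_lit 269851671)) (BT.leaf (nat_lit 269563928))) (BT.node (nat_lit 17781329) (BT.leaf (nat_lit 269564024)) (BT.node (nat_lit 17781335) (BT.leaf (nat_lit 269563992)) (BT.leaf (nat_lit 269563960))))))))))))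

/-- the class number of an involution -/
noncomputable def cls (a : HM) : ℕ := force a.v fun v => Nat.land (tabC.get v) (nat_lit 15)

/-- a conjugating element -/
noncomputable def wit (a : HM) : HM := force a.v fun v => mk' (Nat.shiftRight (tabC.get v) (nat_lit 4))

/-- class representatives -/
noncomputable def rep (i : ℕ) : HM := nth 1 [1, z, e14, e25, t, e24, r6, r7, r8] i

theorem cls_spec : ∀ a : HM, a * a = 1 → wit a * rep (cls a) * (wit a)⁻¹ = a ∧ cls a ≤ 8 := by
  decide +kernel

/-- the involutions of the Sylow subgroup -/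
noncomputable def invT : List ℕ := [(nat_lit 17043521), (nat_lit 17043523), (nat_lit 17043525), (nat_lit 17043527), (nat_lit 17043529), (nat_lit 17043531), (nat_lit 17043533), (nat_lit 17043535), (nat_lit 17043537), (nat_lit 17043539), (nat_lit 17043541), (nat_lit 17043543), (nat_lit 17043545), (nat_lit 17043547), (nat_lit 17043549), (nat_lit 17043551), (nat_lit 17043649), (nat_lit 17043653), (nat_lit 17043657), (nat_lit 17043661), (nat_lit 17043665), (nat_lit 17043669), (nat_lit 17043673), (nat_lit 17043677), (nat_lit 17043777), (nat_lit 17043781), (nat_lit 17043785), (nat_lit 17043789), (nat_lit 17043793), (nat_lit 17043797), (nat_lit 17043801), (nat_lit 17043805), (nat_lit 17043905), (nat_lit 17043909), (nat_lit 17043913), (nat_lit 17043917), (nat_lit 17043921), (nat_lit 17043925), (nat_lit 17043929), (nat_lit 17043933), (nat_lit 17044033), (nat_lit 17044037), (nat_lit 17044041), (nat_lit 17044045), (nat_lit 17044049), (nat_lit 17044053), (nat_lit 17044057), (nat_lit 17044061), (nat_lit 17044161),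 (nat_lit 17044165), (nat_lit 17044169), (nat_lit 17044173), (nat_lit 17044177), (nat_lit 17044181), (nat_lit 17044185), (nat_lit 17044189), (nat_lit 17044289), (nat_lit 17044293), (nat_lit 17044297), (nat_lit 17044301), (nat_lit 17044305), (nat_lit 17044309), (nat_lit 17044313), (nat_lit 17044317), (nat_lit 17044417), (nat_lit 17044421), (nat_lit 17044425), (nat_lit 17044429), (nat_lit 17044433), (nat_lit 17044437), (nat_lit 17044441), (nat_lit 17044445), (nat_lit 17051713), (nat_lit 17051715), (nat_lit 17051721), (nat_lit 17051723), (nat_lit 17051729), (nat_lit 17051731), (nat_lit 17051737), (nat_lit 17051739), (nat_lit 17051969), (nat_lit 17051975), (nat_lit 17051977), (nat_lit 17051983), (nat_lit 17051985), (nat_lit 17051991), (nat_lit 17051993), (nat_lit 17051999), (nat_lit 17052225), (nat_lit 17052233), (nat_lit 17052241), (nat_lit 17052249), (nat_lit 17052481), (nat_lit 17052489), (nat_lit 17052497), (nat_lit 17052505), (nat_lit 17059905), (nat_lit 17059907), (nat_lit 17059913), (nat_lit 17059915),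 (nat_lit 17059921), (nat_lit 17059923), (nat_lit 17059929), (nat_lit 17059931), (nat_lit 17060161), (nat_lit 17060169), (nat_lit 17060177), (nat_lit 17060185), (nat_lit 17060417), (nat_lit 17060423), (nat_lit 17060425), (nat_lit 17060431), (nat_lit 17060433), (nat_lit 17060439), (nat_lit 17060441), (nat_lit 17060447), (nat_lit 17060673), (nat_lit 17060681), (nat_lit 17060689), (nat_lit 17060697), (nat_lit 17068097), (nat_lit 17068099), (nat_lit 17068105), (nat_lit 17068107), (nat_lit 17068113), (nat_lit 17068115), (nat_lit 17068121), (nat_lit 17068123), (nat_lit 17068353), (nat_lit 17068361), (nat_lit 17068369), (nat_lit 17068377), (nat_lit 17068609), (nat_lit 17068617), (nat_lit 17068625), (nat_lit 17068633), (nat_lit 17068865), (nat_lit 17068871), (nat_lit 17068873), (nat_lit 17068879), (nat_lit 17068881), (nat_lit 17068887), (nat_lit 17068889), (nat_lit 17068895), (nat_lit 17567809), (nat_lit 17567811), (nat_lit 17567813), (nat_lit 17567815), (nat_lit 17567825), (nat_lit 17567827), (nat_lit 17567829),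 (nat_lit 17567831), (nat_lit 17567937), (nat_lit 17567941), (nat_lit 17567953), (nat_lit 17567957), (nat_lit 17568321), (nat_lit 17568325), (nat_lit 17568331), (nat_lit 17568335), (nat_lit 17568337), (nat_lit 17568341), (nat_lit 17568347), (nat_lit 17568351), (nat_lit 17568449), (nat_lit 17568453), (nat_lit 17568465), (nat_lit 17568469), (nat_lit 17584193), (nat_lit 17584195), (nat_lit 17584205), (nat_lit 17584207), (nat_lit 17584209), (nat_lit 17584211), (nat_lit 17584221), (nat_lit 17584223), (nat_lit 17584577), (nat_lit 17584589), (nat_lit 17584593), (nat_lit 17584605), (nat_lit 17584705), (nat_lit 17584711), (nat_lit 17584715), (nat_lit 17584717), (nat_lit 17584721), (nat_lit 17584727), (nat_lit 17584731), (nat_lit 17584733), (nat_lit 17585089), (nat_lit 17585101), (nat_lit 17585105), (nat_lit 17585117)]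

/-- coset numbers -/
noncomputable def tabR : ℕ := nat_lit 0x1348480003813601e0035000350001c8001c800481480120001f3638000000000000000d152c0000000000003001102d40280a0280a05001102cc010040100400015132c00000000000003813781804801404a00000000000043400434007801303980048144820021c0021c00000000000000c2000c20000000000008c0008c00000000000000c2000c20000000000008c0008c00000000000001c8001c80800140492060013039e0035000350000000000008493400000639f300000000000000002c11500c0100401004002c1130140280a0280a052cd100000000000000032d51000000000000000001937b800002144c80021c0021c0043400434007b993000004ca14000000000000000000000000000000000000000000000000000000000000000000000000000000000000000000000000000000000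

/-- inverses of coset representatives -/
noncomputable def cosR : List ℕ := [(nat_lit 17043521), (nat_lit 17045569), (nat_lit 17174593), (nat_lit 17041601), (nat_lit 17176641), (nat_lit 16920641), (nat_lit 17242177), (nat_lit 17172673), (nat_lit 16922689), (nat_lit 17240129), (nat_lit 16988225), (nat_lit 17107137), (nat_lit 17111105), (nat_lit 16910785), (nat_lit 17238145), (nat_lit 16986177), (nat_lit 17109185), (nat_lit 16853185), (nat_lit 16976257), (nat_lit 16855233), (nat_lit 16849281)]

/-- the same as products -/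
noncomputable def cosE : List HM := [1, e32, e43, e32 * e23, e32 * e43, e43 * e34, e43 * e32, e32 * e23 * e43, e32 * e43 * e34, e32 * e43 * e32, e43 * e34 * e32, e43 * e32 * e23, e43 * e32 * e43, e32 * e23 * e43 * e34, e32 * e23 * e43 * e32, e32 * e43 * e34 * e32, e32 * e43 * e32 * e23, e43 * e34 * e32 * e23, e32 * e23 * e43 * e34 * e32, e32 * e43 * e34 * e32 * e23, e32 * e23 * e43 * e34 * e32 * e23]

/-- the product of those elements whose bit is set -/
noncomputable def lin (gs : List HM) (ps : List ℕ) (v : ℕ) : HM := force v fun v =>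
  List.rec (motive := fun _ => List ℕ → HM) (fun _ => 1)
    (fun g _ ih ps => Bool.rec (ih ps.tail) (g * ih ps.tail) (tb v (ps.headD (nat_lit 0)))) gs ps

theorem lin_nil (ps : List ℕ) (v : ℕ) : lin [] ps v = 1 := force_eq ..

theorem lin_cons (g : HM) (gs : List HM) (ps : List ℕ) (v : ℕ) : lin (g :: gs) ps v =
    Bool.rec (lin gs ps.tail v) (g * lin gs ps.tail v) (tb v (ps.headD 0)) := by
  rw [lin, lin, force_eq, force_eq]

theorem lin_mem {K : Subgroup HM} {gs : List HM} (h : ∀ g ∈ gs, g ∈ K) (ps : List ℕ) (v : ℕ) :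
    lin gs ps v ∈ K := by
  induction gs generalizing ps with
  | nil => exact lin_nil ps v ▸ K.one_mem
  | cons g gs ih =>
    have := ih (fun x hx => h x (List.mem_cons_of_mem _ hx)) ps.tail
    rw [lin_cons]
    cases tb v (ps.headD 0)
    exacts [this, K.mul_mem (h g List.mem_cons_self) this]

theorem lin1 : ∀ a, In σ1 a → lin [e13, e14, z, e23, e24, e25] σ1.l a.v = a := by decide +kernel

theorem lin2 : ∀ a, In σ2 a → lin [e14, z, e24, e25, e34, e35] σ2.l a.v = a := by decide +kernel

theorem linU : ∀ a, In σU a → lin [z, e25, e35, e45] σU.l a.v = a := by decide +kernel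

theorem linT : ∀ a, In σT a → lin [e45, e34, e35, e23, e24, e25, e12, e13, e14, z]
    [nat_lit 19, nat_lit 13, nat_lit 14, nat_lit 7, nat_lit 8, nat_lit 9, nat_lit 1, nat_lit 2, nat_lit 3,
      nat_lit 4] a.v = a := by decide +kernel

theorem T_le {K : Subgroup HM} (h1 : e12 ∈ K) (h2 : e23 ∈ K) (h3 : e34 ∈ K) (h4 : e45 ∈ K) : T ≤ K := by
  have c : ∀ {a b c : HM}, a ∈ K → b ∈ K → a * b * a * b = c → c ∈ K := fun ha hb e =>
    e ▸ K.mul_mem (K.mul_mem (K.mul_mem ha hb) ha) hb
  have h5 : e13 ∈ K := c h1 h2 (by decide +kernel)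
  have h6 : e24 ∈ K := c h2 h3 (by decide +kernel)
  have h7 : e35 ∈ K := c h3 h4 (by decide +kernel)
  have h8 : e14 ∈ K := c h5 h3 (by decide +kernel)
  have h9 : e25 ∈ K := c h6 h4 (by decide +kernel)
  have h0 : z ∈ K := c h8 h4 (by decide +kernel)
  intro a ha
  rw [← linT a (mem_T.1 ha)]
  exact lin_mem (by simp [*]) ..

theorem cos_fact : ∀ a : HM, σT.has (mm (nth (nat_lit 17043521) cosR (Nat.land
    (Nat.shiftRight tabR (Nat.mul (nat_lit 5) (bidx a.v))) (nat_lit 31))) a.v) = true := by
  decide +kernel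

theorem cos_eq : cosR = lmap HM.v cosE := by decide +kernel

theorem eq_top {K : Subgroup HM} (h1 : e12 ∈ K) (h2 : e23 ∈ K) (h3 : e34 ∈ K) (h4 : e45 ∈ K)
    (h5 : e32 ∈ K) (h6 : e43 ∈ K) : K = ⊤ := by
  refine top_unique fun a _ => ?_
  have h := cos_fact a
  generalize Nat.land _ _ = i at h
  have e : nth (nat_lit 17043521) cosR i = (nth 1 cosE i).v := by
    rw [cos_eq, nth_eq_getD, nth_eq_getD, lmap_eq]; exact List.getD_map _ (1 : HM) HM.v
  rw [e] at h
  have k : ∀ g ∈ cosE, g ∈ K := by
    simp only [cosE, List.forall_mem_cons, List.not_mem_nil, false_imp_iff, implies_true]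
    repeat' first | assumption | exact K.one_mem | apply And.intro | apply K.mul_mem | trivial
  refine (K.mul_mem_cancel_left ?_).1 (T_le h1 h2 h3 h4 (mem_T.2 h))
  exact (nth_mem_or 1 cosE i).elim (k _) fun e => by rw [e]; exact K.one_mem

theorem invT_spec : ∀ a, In σT a → a * a = 1 → lany (Nat.beq a.v) invT = true := by decide +kernel

theorem few_comm : ∀ a, In σT a → a * a = 1 → In σ1 a ∨ In σ2 a ∨
    cnt (fun b => Nat.beq (mm a.v b) (mm b a.v)) invT 0 ≤ 56 := by decide +kernel

theorem le_W_or {A : Subgroup HM} (hA : A ≤ T) (sq : ∀ a ∈ A, a * a = 1) (hc : Nat.card A = 64) :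
    A = W1 ∨ A = W2 := by
  have cm : ∀ a ∈ A, ∀ b ∈ A, a * b = b * a := fun a ha b hb => by
    rw [← inv_eq_of_mul_eq_one_left (sq _ (A.mul_mem ha hb)), _root_.mul_inv_rev,
      inv_eq_of_mul_eq_one_left (sq a ha), inv_eq_of_mul_eq_one_left (sq b hb)]
  have h : ∀ a ∈ A, a ∈ W1 ∨ a ∈ W2 := fun a ha => by
    rw [mem_W1, mem_W2]
    refine (few_comm a (mem_T.1 (hA ha)) (sq a ha)).imp_right fun h => h.resolve_right fun h => ?_
    rw [cnt_eq, zero_add, List.countP_eq_length_filter] at h
    have := (List.toFinset_card_le _).trans h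
    rw [← Fintype.card_coe, ← Nat.card_eq_fintype_card] at this
    have k : ∀ b : A, b.1.v ∈ (invT.filter fun b => Nat.beq (mm a.v b) (mm b a.v)).toFinset := by
      intro b
      obtain ⟨x, hx, e⟩ := lany_iff.1 (invT_spec b (mem_T.1 (hA b.2)) (sq _ b.2))
      rw [List.mem_toFinset, List.mem_filter, beq_iff.1 e]
      exact ⟨hx, beq_iff.2 (beq_iff.1 e ▸ congrArg HM.v (cm a ha b b.2))⟩
    exact absurd (hc ▸ (Nat.card_le_card_of_injective (fun b : A => Subtype.mk b.1.v (k b))
      fun a b e => Subtype.ext (ext (Subtype.mk.inj e))).trans this) (by decide)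
  have h' : A ≤ W1 ∨ A ≤ W2 := by
    by_contra hh
    simp only [not_or, SetLike.not_le_iff_exists] at hh
    obtain ⟨⟨a, ha, a1⟩, b, hb, b2⟩ := hh
    rcases h _ (A.mul_mem ha hb) with k | k
    · exact a1 ((W1.mul_mem_cancel_right ((h b hb).resolve_right b2)).1 k)
    · exact b2 ((W2.mul_mem_cancel_left ((h a ha).resolve_left a1)).1 k)
  exact h'.imp (fun k => eq_of_le_of_card_ge k (by rw [hc, card_W1]))
    fun k => eq_of_le_of_card_ge k (by rw [hc, card_W2])

theorem not_W2 : ∀ h, In σT h → ¬ In σ2 (h * e13 * h⁻¹) := by decide +kernel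

theorem norm_of {σ : Sh} {W : Subgroup HM} (hW : ∀ a, a ∈ W ↔ In σ a) {gs : List HM}
    (hl : ∀ a, In σ a → lin gs σ.l a.v = a) {h : HM} (hh : ∀ g ∈ gs, In σ (h * g * h⁻¹)) : h ∈ 𝐍(W) := by
  refine mem_normalizer_of_cj_le (cj_le_iff.2 fun a ha => ?_)
  rw [← hl a ((hW a).1 ha)]
  exact lin_mem (fun g hg => mem_cj.2 ((hW _).2 (by simpa using hh g hg))) ..

theorem P_norm' : ∀ h, In σP h → ∀ g ∈ [e13, e14, z, e23, e24, e25], In σ1 (h * g * h⁻¹) := by
  have : ∀ h, In σP h → In σ1 (h * e13 * h⁻¹) ∧ In σ1 (h * e14 * h⁻¹) ∧ In σ1 (h * e23 * h⁻¹) ∧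
      In σ1 (h * e24 * h⁻¹) ∧ In σ1 (h * e25 * h⁻¹) := by decide +kernel
  intro h hh
  have k : In σ1 z := by decide +kernel
  simp [this h hh, z_conj, k]

theorem P_norm {h : HM} (hh : In σP h) : h ∈ 𝐍(W1) := norm_of (fun _ => mem_W1) lin1 (P_norm' h hh)

theorem T_norm1 : T ≤ 𝐍(W1) := fun h hh => P_norm (T_le_P h (mem_T.1 hh))

theorem T_norm2 : T ≤ 𝐍(W2) := by
  rw [← map_γ_W1, ← map_γ_T]
  exact (map_mono T_norm1).trans (le_normalizer_map γ)

theorem norm_U : ⊤ ≤ 𝐍(U) := by
  have : ∀ h ∈ [e12, e23, e34, e45, e32, e43], ∀ g ∈ [z, e25, e35, e45], In σU (h * g * h⁻¹) := by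
    simp only [List.forall_mem_cons, List.not_mem_nil, false_imp_iff, implies_true]
    decide +kernel
  have k := fun h hh => norm_of (fun _ => mem_U) linU (this h hh)
  refine (eq_top ?_ ?_ ?_ ?_ ?_ ?_).ge <;> exact k _ (by simp)

end HM

end CF.Held
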