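import Cfsg.Agent.Comp.TCDefs

set_option autoImplicit false
set_option maxRecDepth 1000000
set_option maxHeartbeats 0
set_option Elab.async false

namespace CF.Held

open CF.Comp

/-- relators of the Sylow subgroup -/
noncomputable def RT : List (List Nat) := [[(nat_lit 1), (nat_lit 1)],
  [(nat_lit 3), (nat_lit 3)],
  [(nat_lit 5), (nat_lit 5)],
  [(nat_lit 7), (nat_lit 7)],
  [(nat_lit 1), (nat_lit 5), (nat_lit 1), (nat_lit 5)],
  [(nat_lit 1), (nat_lit 7), (nat_lit 1), (nat_lit 7)],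
  [(nat_lit 3), (nat_lit 7), (nat_lit 3), (nat_lit 7)],
  [(nat_lit 1), (nat_lit 3), (nat_lit 1), (nat_lit 3), (nat_lit 1), (nat_lit 3), (nat_lit 1), (nat_lit 3)],
  [(nat_lit 3), (nat_lit 5), (nat_lit 3), (nat_lit 5), (nat_lit 3), (nat_lit 5), (nat_lit 3), (nat_lit 5)],
  [(nat_lit 5), (nat_lit 7), (nat_lit 5), (nat_lit 7), (nat_lit 5), (nat_lit 7), (nat_lit 5), (nat_lit 7)],
  [(nat_lit 1), (nat_lit 3), (nat_lit 5), (nat_lit 1), (nat_lit 3), (nat_lit 5), (nat_lit 1), (nat_lit 3), (nat_lit 5), (nat_lit 1), (nat_lit 3), (nat_lit 5)],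
  [(nat_lit 3), (nat_lit 5), (nat_lit 7), (nat_lit 3), (nat_lit 5), (nat_lit 7), (nat_lit 3), (nat_lit 5), (nat_lit 7), (nat_lit 3), (nat_lit 5), (nat_lit 7)]]

/-- its generators -/
noncomputable def GT : List (List Nat) := [[(nat_lit 1)],
  [(nat_lit 3)],
  [(nat_lit 5)],
  [(nat_lit 7)]]

/-- generators of a maximal subgroup -/
noncomputable def GM1 : List (List Nat) := [[(nat_lit 1)],
  [(nat_lit 3)],
  [(nat_lit 5)],
  [(nat_lit 7)],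
  [(nat_lit 11)],
  [(nat_lit 13)],
  [(nat_lit 15)]]

/-- generators of a maximal subgroup -/
noncomputable def GM2 : List (List Nat) := [[(nat_lit 1)],
  [(nat_lit 3)],
  [(nat_lit 5)],
  [(nat_lit 7)],
  [(nat_lit 9)],
  [(nat_lit 13)],
  [(nat_lit 15)]]

/-- relators -/
noncomputable def RL : List (List Nat) := [[(nat_lit 1), (nat_lit 1)],
  [(nat_lit 3), (nat_lit 3)],
  [(nat_lit 5), (nat_lit 5)],
  [(nat_lit 7), (nat_lit 7)],
  [(nat_lit 9), (nat_lit 9)],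
  [(nat_lit 11), (nat_lit 11)],
  [(nat_lit 13), (nat_lit 13)],
  [(nat_lit 15), (nat_lit 15)],
  [(nat_lit 1), (nat_lit 5), (nat_lit 1), (nat_lit 5)],
  [(nat_lit 1), (nat_lit 7), (nat_lit 1), (nat_lit 7)],
  [(nat_lit 1), (nat_lit 9), (nat_lit 1), (nat_lit 9)],
  [(nat_lit 1), (nat_lit 11), (nat_lit 1), (nat_lit 11)],
  [(nat_lit 1), (nat_lit 15), (nat_lit 1), (nat_lit 15)],
  [(nat_lit 3), (nat_lit 7), (nat_lit 3), (nat_lit 7)],
  [(nat_lit 3), (nat_lit 11), (nat_lit 3), (nat_lit 11)],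
  [(nat_lit 3), (nat_lit 13), (nat_lit 3), (nat_lit 13)],
  [(nat_lit 3), (nat_lit 15), (nat_lit 3), (nat_lit 15)],
  [(nat_lit 5), (nat_lit 9), (nat_lit 5), (nat_lit 9)],
  [(nat_lit 5), (nat_lit 13), (nat_lit 5), (nat_lit 13)],
  [(nat_lit 5), (nat_lit 15), (nat_lit 5), (nat_lit 15)],
  [(nat_lit 7), (nat_lit 9), (nat_lit 7), (nat_lit 9)],
  [(nat_lit 7), (nat_lit 11), (nat_lit 7), (nat_lit 11)],
  [(nat_lit 7), (nat_lit 13), (nat_lit 7), (nat_lit 13)],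
  [(nat_lit 9), (nat_lit 15), (nat_lit 9), (nat_lit 15)],
  [(nat_lit 11), (nat_lit 13), (nat_lit 11), (nat_lit 13)],
  [(nat_lit 13), (nat_lit 15), (nat_lit 13), (nat_lit 15)],
  [(nat_lit 1), (nat_lit 13), (nat_lit 1), (nat_lit 13), (nat_lit 1), (nat_lit 13)],
  [(nat_lit 3), (nat_lit 9), (nat_lit 3), (nat_lit 9), (nat_lit 3), (nat_lit 9)],
  [(nat_lit 5), (nat_lit 11), (nat_lit 5), (nat_lit 11), (nat_lit 5), (nat_lit 11)],
  [(nat_lit 7), (nat_lit 15), (nat_lit 7), (nat_lit 15), (nat_lit 7), (nat_lit 15)],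
  [(nat_lit 1), (nat_lit 3), (nat_lit 1), (nat_lit 3), (nat_lit 1), (nat_lit 3), (nat_lit 1), (nat_lit 3)],
  [(nat_lit 3), (nat_lit 5), (nat_lit 3), (nat_lit 5), (nat_lit 3), (nat_lit 5), (nat_lit 3), (nat_lit 5)],
  [(nat_lit 5), (nat_lit 7), (nat_lit 5), (nat_lit 7), (nat_lit 5), (nat_lit 7), (nat_lit 5), (nat_lit 7)],
  [(nat_lit 9), (nat_lit 11), (nat_lit 9), (nat_lit 11), (nat_lit 9), (nat_lit 11), (nat_lit 9), (nat_lit 11)],
  [(nat_lit 9), (nat_lit 13), (nat_lit 9), (nat_lit 13), (nat_lit 9), (nat_lit 13), (nat_lit 9), (nat_lit 13)],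
  [(nat_lit 11), (nat_lit 15), (nat_lit 11), (nat_lit 15), (nat_lit 11), (nat_lit 15), (nat_lit 11), (nat_lit 15)],
  [(nat_lit 1), (nat_lit 3), (nat_lit 1), (nat_lit 3), (nat_lit 9), (nat_lit 3), (nat_lit 1), (nat_lit 3), (nat_lit 9)],
  [(nat_lit 1), (nat_lit 3), (nat_lit 1), (nat_lit 3), (nat_lit 13), (nat_lit 1), (nat_lit 3), (nat_lit 1), (nat_lit 13)],
  [(nat_lit 1), (nat_lit 3), (nat_lit 1), (nat_lit 9), (nat_lit 3), (nat_lit 1), (nat_lit 9), (nat_lit 3), (nat_lit 9)],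
  [(nat_lit 1), (nat_lit 3), (nat_lit 13), (nat_lit 1), (nat_lit 3), (nat_lit 13), (nat_lit 1), (nat_lit 3), (nat_lit 13)],
  [(nat_lit 1), (nat_lit 3), (nat_lit 13), (nat_lit 1), (nat_lit 3), (nat_lit 13), (nat_lit 1), (nat_lit 13), (nat_lit 3)],
  [(nat_lit 1), (nat_lit 9), (nat_lit 13), (nat_lit 1), (nat_lit 9), (nat_lit 13), (nat_lit 1), (nat_lit 9), (nat_lit 13)],
  [(nat_lit 1), (nat_lit 9), (nat_lit 13), (nat_lit 1), (nat_lit 9), (nat_lit 13), (nat_lit 9), (nat_lit 1), (nat_lit 13)],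
  [(nat_lit 1), (nat_lit 9), (nat_lit 13), (nat_lit 9), (nat_lit 13), (nat_lit 1), (nat_lit 13), (nat_lit 9), (nat_lit 13)],
  [(nat_lit 3), (nat_lit 5), (nat_lit 3), (nat_lit 5), (nat_lit 9), (nat_lit 3), (nat_lit 5), (nat_lit 3), (nat_lit 9)],
  [(nat_lit 3), (nat_lit 5), (nat_lit 3), (nat_lit 5), (nat_lit 11), (nat_lit 5), (nat_lit 3), (nat_lit 5), (nat_lit 11)],
  [(nat_lit 3), (nat_lit 5), (nat_lit 3), (nat_lit 11), (nat_lit 5), (nat_lit 3), (nat_lit 11), (nat_lit 5), (nat_lit 11)],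
  [(nat_lit 3), (nat_lit 5), (nat_lit 9), (nat_lit 3), (nat_lit 5), (nat_lit 9), (nat_lit 3), (nat_lit 5), (nat_lit 9)],
  [(nat_lit 3), (nat_lit 5), (nat_lit 9), (nat_lit 3), (nat_lit 5), (nat_lit 9), (nat_lit 3), (nat_lit 9), (nat_lit 5)],
  [(nat_lit 3), (nat_lit 9), (nat_lit 3), (nat_lit 11), (nat_lit 9), (nat_lit 3), (nat_lit 11), (nat_lit 9), (nat_lit 11)],
  [(nat_lit 3), (nat_lit 9), (nat_lit 3), (nat_lit 13), (nat_lit 9), (nat_lit 3), (nat_lit 13), (nat_lit 9), (nat_lit 13)],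
  [(nat_lit 3), (nat_lit 9), (nat_lit 11), (nat_lit 9), (nat_lit 3), (nat_lit 9), (nat_lit 11), (nat_lit 9), (nat_lit 11)],
  [(nat_lit 3), (nat_lit 9), (nat_lit 13), (nat_lit 9), (nat_lit 3), (nat_lit 9), (nat_lit 13), (nat_lit 9), (nat_lit 13)],
  [(nat_lit 5), (nat_lit 7), (nat_lit 5), (nat_lit 7), (nat_lit 11), (nat_lit 5), (nat_lit 7), (nat_lit 5), (nat_lit 11)],
  [(nat_lit 5), (nat_lit 7), (nat_lit 5), (nat_lit 7), (nat_lit 15), (nat_lit 7), (nat_lit 5), (nat_lit 7), (nat_lit 15)],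
  [(nat_lit 5), (nat_lit 7), (nat_lit 5), (nat_lit 15), (nat_lit 7), (nat_lit 5), (nat_lit 15), (nat_lit 7), (nat_lit 15)],
  [(nat_lit 5), (nat_lit 7), (nat_lit 11), (nat_lit 5), (nat_lit 7), (nat_lit 11), (nat_lit 5), (nat_lit 7), (nat_lit 11)],
  [(nat_lit 5), (nat_lit 11), (nat_lit 5), (nat_lit 15), (nat_lit 11), (nat_lit 5), (nat_lit 15), (nat_lit 11), (nat_lit 15)],
  [(nat_lit 1), (nat_lit 3), (nat_lit 5), (nat_lit 1), (nat_lit 3), (nat_lit 5), (nat_lit 1), (nat_lit 3), (nat_lit 5), (nat_lit 1), (nat_lit 3), (nat_lit 5)],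
  [(nat_lit 3), (nat_lit 5), (nat_lit 7), (nat_lit 3), (nat_lit 5), (nat_lit 7), (nat_lit 3), (nat_lit 5), (nat_lit 7), (nat_lit 3), (nat_lit 5), (nat_lit 7)]]

/-- relators of the maximal subgroup -/
noncomputable def RLs : List (List Nat) := [[(nat_lit 1), (nat_lit 1)],
  [(nat_lit 3), (nat_lit 3)],
  [(nat_lit 5), (nat_lit 5)],
  [(nat_lit 7), (nat_lit 7)],
  [(nat_lit 11), (nat_lit 11)],
  [(nat_lit 13), (nat_lit 13)],
  [(nat_lit 15), (nat_lit 15)],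
  [(nat_lit 1), (nat_lit 5), (nat_lit 1), (nat_lit 5)],
  [(nat_lit 1), (nat_lit 7), (nat_lit 1), (nat_lit 7)],
  [(nat_lit 1), (nat_lit 11), (nat_lit 1), (nat_lit 11)],
  [(nat_lit 1), (nat_lit 15), (nat_lit 1), (nat_lit 15)],
  [(nat_lit 3), (nat_lit 7), (nat_lit 3), (nat_lit 7)],
  [(nat_lit 3), (nat_lit 11), (nat_lit 3), (nat_lit 11)],
  [(nat_lit 3), (nat_lit 13), (nat_lit 3), (nat_lit 13)],
  [(nat_lit 3), (nat_lit 15), (nat_lit 3), (nat_lit 15)],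
  [(nat_lit 5), (nat_lit 13), (nat_lit 5), (nat_lit 13)],
  [(nat_lit 5), (nat_lit 15), (nat_lit 5), (nat_lit 15)],
  [(nat_lit 7), (nat_lit 11), (nat_lit 7), (nat_lit 11)],
  [(nat_lit 7), (nat_lit 13), (nat_lit 7), (nat_lit 13)],
  [(nat_lit 11), (nat_lit 13), (nat_lit 11), (nat_lit 13)],
  [(nat_lit 13), (nat_lit 15), (nat_lit 13), (nat_lit 15)],
  [(nat_lit 1), (nat_lit 13), (nat_lit 1), (nat_lit 13), (nat_lit 1), (nat_lit 13)],
  [(nat_lit 5), (nat_lit 11), (nat_lit 5), (nat_lit 11), (nat_lit 5), (nat_lit 11)],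
  [(nat_lit 7), (nat_lit 15), (nat_lit 7), (nat_lit 15), (nat_lit 7), (nat_lit 15)],
  [(nat_lit 1), (nat_lit 3), (nat_lit 1), (nat_lit 3), (nat_lit 1), (nat_lit 3), (nat_lit 1), (nat_lit 3)],
  [(nat_lit 3), (nat_lit 5), (nat_lit 3), (nat_lit 5), (nat_lit 3), (nat_lit 5), (nat_lit 3), (nat_lit 5)],
  [(nat_lit 5), (nat_lit 7), (nat_lit 5), (nat_lit 7), (nat_lit 5), (nat_lit 7), (nat_lit 5), (nat_lit 7)],
  [(nat_lit 11), (nat_lit 15), (nat_lit 11), (nat_lit 15), (nat_lit 11), (nat_lit 15), (nat_lit 11), (nat_lit 15)],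
  [(nat_lit 1), (nat_lit 3), (nat_lit 1), (nat_lit 3), (nat_lit 13), (nat_lit 1), (nat_lit 3), (nat_lit 1), (nat_lit 13)],
  [(nat_lit 1), (nat_lit 3), (nat_lit 13), (nat_lit 1), (nat_lit 3), (nat_lit 13), (nat_lit 1), (nat_lit 3), (nat_lit 13)],
  [(nat_lit 1), (nat_lit 3), (nat_lit 13), (nat_lit 1), (nat_lit 3), (nat_lit 13), (nat_lit 1), (nat_lit 13), (nat_lit 3)],
  [(nat_lit 3), (nat_lit 5), (nat_lit 3), (nat_lit 5), (nat_lit 11), (nat_lit 5), (nat_lit 3), (nat_lit 5), (nat_lit 11)],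
  [(nat_lit 3), (nat_lit 5), (nat_lit 3), (nat_lit 11), (nat_lit 5), (nat_lit 3), (nat_lit 11), (nat_lit 5), (nat_lit 11)],
  [(nat_lit 5), (nat_lit 7), (nat_lit 5), (nat_lit 7), (nat_lit 11), (nat_lit 5), (nat_lit 7), (nat_lit 5), (nat_lit 11)],
  [(nat_lit 5), (nat_lit 7), (nat_lit 5), (nat_lit 7), (nat_lit 15), (nat_lit 7), (nat_lit 5), (nat_lit 7), (nat_lit 15)],
  [(nat_lit 5), (nat_lit 7), (nat_lit 5), (nat_lit 15), (nat_lit 7), (nat_lit 5), (nat_lit 15), (nat_lit 7), (nat_lit 15)],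
  [(nat_lit 5), (nat_lit 7), (nat_lit 11), (nat_lit 5), (nat_lit 7), (nat_lit 11), (nat_lit 5), (nat_lit 7), (nat_lit 11)],
  [(nat_lit 5), (nat_lit 11), (nat_lit 5), (nat_lit 15), (nat_lit 11), (nat_lit 5), (nat_lit 15), (nat_lit 11), (nat_lit 15)],
  [(nat_lit 1), (nat_lit 3), (nat_lit 5), (nat_lit 1), (nat_lit 3), (nat_lit 5), (nat_lit 1), (nat_lit 3), (nat_lit 5), (nat_lit 1), (nat_lit 3), (nat_lit 5)],
  [(nat_lit 3), (nat_lit 5), (nat_lit 7), (nat_lit 3), (nat_lit 5), (nat_lit 7), (nat_lit 3), (nat_lit 5), (nat_lit 7), (nat_lit 3), (nat_lit 5), (nat_lit 7)]]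

/-- relators -/
noncomputable def RM : List (List Nat) := [[(nat_lit 1), (nat_lit 1)],
  [(nat_lit 3), (nat_lit 3)],
  [(nat_lit 5), (nat_lit 5)],
  [(nat_lit 7), (nat_lit 7)],
  [(nat_lit 9), (nat_lit 9)],
  [(nat_lit 11), (nat_lit 11)],
  [(nat_lit 13), (nat_lit 13)],
  [(nat_lit 15), (nat_lit 15)],
  [(nat_lit 1), (nat_lit 5), (nat_lit 1), (nat_lit 5)],
  [(nat_lit 1), (nat_lit 7), (nat_lit 1), (nat_lit 7)],
  [(nat_lit 1), (nat_lit 9), (nat_lit 1), (nat_lit 9)],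
  [(nat_lit 1), (nat_lit 11), (nat_lit 1), (nat_lit 11)],
  [(nat_lit 1), (nat_lit 15), (nat_lit 1), (nat_lit 15)],
  [(nat_lit 3), (nat_lit 7), (nat_lit 3), (nat_lit 7)],
  [(nat_lit 3), (nat_lit 11), (nat_lit 3), (nat_lit 11)],
  [(nat_lit 3), (nat_lit 13), (nat_lit 3), (nat_lit 13)],
  [(nat_lit 3), (nat_lit 15), (nat_lit 3), (nat_lit 15)],
  [(nat_lit 5), (nat_lit 9), (nat_lit 5), (nat_lit 9)],
  [(nat_lit 5), (nat_lit 15), (nat_lit 5), (nat_lit 15)],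
  [(nat_lit 7), (nat_lit 9), (nat_lit 7), (nat_lit 9)],
  [(nat_lit 7), (nat_lit 11), (nat_lit 7), (nat_lit 11)],
  [(nat_lit 9), (nat_lit 15), (nat_lit 9), (nat_lit 15)],
  [(nat_lit 3), (nat_lit 7), (nat_lit 13), (nat_lit 7), (nat_lit 13)],
  [(nat_lit 3), (nat_lit 13), (nat_lit 15), (nat_lit 13), (nat_lit 15)],
  [(nat_lit 1), (nat_lit 13), (nat_lit 1), (nat_lit 13), (nat_lit 1), (nat_lit 13)],
  [(nat_lit 3), (nat_lit 9), (nat_lit 3), (nat_lit 9), (nat_lit 3), (nat_lit 9)],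
  [(nat_lit 5), (nat_lit 11), (nat_lit 5), (nat_lit 11), (nat_lit 5), (nat_lit 11)],
  [(nat_lit 7), (nat_lit 13), (nat_lit 7), (nat_lit 15), (nat_lit 13), (nat_lit 15)],
  [(nat_lit 7), (nat_lit 15), (nat_lit 7), (nat_lit 15), (nat_lit 7), (nat_lit 15)],
  [(nat_lit 3), (nat_lit 5), (nat_lit 13), (nat_lit 5), (nat_lit 11), (nat_lit 13), (nat_lit 11)],
  [(nat_lit 3), (nat_lit 7), (nat_lit 11), (nat_lit 13), (nat_lit 7), (nat_lit 13), (nat_lit 11)],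
  [(nat_lit 3), (nat_lit 11), (nat_lit 5), (nat_lit 13), (nat_lit 5), (nat_lit 11), (nat_lit 13)],
  [(nat_lit 1), (nat_lit 3), (nat_lit 1), (nat_lit 3), (nat_lit 1), (nat_lit 3), (nat_lit 1), (nat_lit 3)],
  [(nat_lit 3), (nat_lit 5), (nat_lit 3), (nat_lit 5), (nat_lit 3), (nat_lit 5), (nat_lit 3), (nat_lit 5)],
  [(nat_lit 3), (nat_lit 5), (nat_lit 13), (nat_lit 5), (nat_lit 3), (nat_lit 5), (nat_lit 13), (nat_lit 5)],
  [(nat_lit 5), (nat_lit 7), (nat_lit 5), (nat_lit 7), (nat_lit 5), (nat_lit 7), (nat_lit 5), (nat_lit 7)],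
  [(nat_lit 5), (nat_lit 7), (nat_lit 11), (nat_lit 13), (nat_lit 7), (nat_lit 11), (nat_lit 5), (nat_lit 13)],
  [(nat_lit 5), (nat_lit 7), (nat_lit 11), (nat_lit 13), (nat_lit 11), (nat_lit 7), (nat_lit 5), (nat_lit 13)],
  [(nat_lit 5), (nat_lit 11), (nat_lit 15), (nat_lit 13), (nat_lit 15), (nat_lit 11), (nat_lit 5), (nat_lit 13)],
  [(nat_lit 5), (nat_lit 13), (nat_lit 5), (nat_lit 13), (nat_lit 5), (nat_lit 13), (nat_lit 5), (nat_lit 13)],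
  [(nat_lit 7), (nat_lit 13), (nat_lit 15), (nat_lit 7), (nat_lit 13), (nat_lit 15), (nat_lit 7), (nat_lit 15)],
  [(nat_lit 9), (nat_lit 11), (nat_lit 9), (nat_lit 11), (nat_lit 9), (nat_lit 11), (nat_lit 9), (nat_lit 11)],
  [(nat_lit 11), (nat_lit 13), (nat_lit 11), (nat_lit 13), (nat_lit 11), (nat_lit 13), (nat_lit 11), (nat_lit 13)],
  [(nat_lit 11), (nat_lit 15), (nat_lit 11), (nat_lit 15), (nat_lit 11), (nat_lit 15), (nat_lit 11), (nat_lit 15)],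
  [(nat_lit 1), (nat_lit 3), (nat_lit 1), (nat_lit 3), (nat_lit 9), (nat_lit 3), (nat_lit 1), (nat_lit 3), (nat_lit 9)],
  [(nat_lit 1), (nat_lit 3), (nat_lit 1), (nat_lit 3), (nat_lit 13), (nat_lit 1), (nat_lit 3), (nat_lit 1), (nat_lit 13)],
  [(nat_lit 1), (nat_lit 3), (nat_lit 1), (nat_lit 9), (nat_lit 3), (nat_lit 1), (nat_lit 9), (nat_lit 3), (nat_lit 9)],
  [(nat_lit 1), (nat_lit 3), (nat_lit 13), (nat_lit 1), (nat_lit 3), (nat_lit 13), (nat_lit 1), (nat_lit 3), (nat_lit 13)],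
  [(nat_lit 1), (nat_lit 3), (nat_lit 13), (nat_lit 1), (nat_lit 3), (nat_lit 13), (nat_lit 1), (nat_lit 13), (nat_lit 3)],
  [(nat_lit 1), (nat_lit 3), (nat_lit 13), (nat_lit 1), (nat_lit 7), (nat_lit 13), (nat_lit 1), (nat_lit 13), (nat_lit 7)],
  [(nat_lit 1), (nat_lit 3), (nat_lit 13), (nat_lit 1), (nat_lit 15), (nat_lit 13), (nat_lit 1), (nat_lit 13), (nat_lit 15)],
  [(nat_lit 1), (nat_lit 5), (nat_lit 11), (nat_lit 1), (nat_lit 13), (nat_lit 3), (nat_lit 11), (nat_lit 5), (nat_lit 13)],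
  [(nat_lit 1), (nat_lit 5), (nat_lit 11), (nat_lit 1), (nat_lit 13), (nat_lit 11), (nat_lit 3), (nat_lit 5), (nat_lit 13)],
  [(nat_lit 3), (nat_lit 5), (nat_lit 3), (nat_lit 5), (nat_lit 9), (nat_lit 3), (nat_lit 5), (nat_lit 3), (nat_lit 9)],
  [(nat_lit 3), (nat_lit 5), (nat_lit 3), (nat_lit 5), (nat_lit 11), (nat_lit 5), (nat_lit 3), (nat_lit 5), (nat_lit 11)],
  [(nat_lit 3), (nat_lit 5), (nat_lit 3), (nat_lit 11), (nat_lit 5), (nat_lit 3), (nat_lit 11), (nat_lit 5), (nat_lit 11)],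
  [(nat_lit 3), (nat_lit 5), (nat_lit 9), (nat_lit 3), (nat_lit 5), (nat_lit 9), (nat_lit 3), (nat_lit 5), (nat_lit 9)],
  [(nat_lit 3), (nat_lit 5), (nat_lit 9), (nat_lit 3), (nat_lit 5), (nat_lit 9), (nat_lit 3), (nat_lit 9), (nat_lit 5)],
  [(nat_lit 3), (nat_lit 5), (nat_lit 11), (nat_lit 5), (nat_lit 11), (nat_lit 13), (nat_lit 5), (nat_lit 11), (nat_lit 13)],
  [(nat_lit 3), (nat_lit 5), (nat_lit 13), (nat_lit 5), (nat_lit 7), (nat_lit 5), (nat_lit 13), (nat_lit 5), (nat_lit 7)],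
  [(nat_lit 3), (nat_lit 5), (nat_lit 13), (nat_lit 5), (nat_lit 13), (nat_lit 11), (nat_lit 13), (nat_lit 11), (nat_lit 13)],
  [(nat_lit 3), (nat_lit 5), (nat_lit 13), (nat_lit 11), (nat_lit 5), (nat_lit 11), (nat_lit 5), (nat_lit 13), (nat_lit 11)],
  [(nat_lit 3), (nat_lit 5), (nat_lit 15), (nat_lit 13), (nat_lit 5), (nat_lit 11), (nat_lit 13), (nat_lit 11), (nat_lit 15)],
  [(nat_lit 3), (nat_lit 9), (nat_lit 3), (nat_lit 11), (nat_lit 9), (nat_lit 3), (nat_lit 11), (nat_lit 9), (nat_lit 11)],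
  [(nat_lit 3), (nat_lit 9), (nat_lit 11), (nat_lit 9), (nat_lit 3), (nat_lit 9), (nat_lit 11), (nat_lit 9), (nat_lit 11)],
  [(nat_lit 3), (nat_lit 9), (nat_lit 13), (nat_lit 15), (nat_lit 13), (nat_lit 9), (nat_lit 3), (nat_lit 9), (nat_lit 15)],
  [(nat_lit 3), (nat_lit 11), (nat_lit 13), (nat_lit 5), (nat_lit 13), (nat_lit 5), (nat_lit 13), (nat_lit 11), (nat_lit 13)],
  [(nat_lit 5), (nat_lit 7), (nat_lit 5), (nat_lit 7), (nat_lit 11), (nat_lit 5), (nat_lit 7), (nat_lit 5), (nat_lit 11)],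
  [(nat_lit 5), (nat_lit 7), (nat_lit 5), (nat_lit 7), (nat_lit 15), (nat_lit 7), (nat_lit 5), (nat_lit 7), (nat_lit 15)],
  [(nat_lit 5), (nat_lit 7), (nat_lit 5), (nat_lit 15), (nat_lit 7), (nat_lit 5), (nat_lit 15), (nat_lit 7), (nat_lit 15)],
  [(nat_lit 5), (nat_lit 7), (nat_lit 11), (nat_lit 5), (nat_lit 7), (nat_lit 11), (nat_lit 5), (nat_lit 7), (nat_lit 11)],
  [(nat_lit 5), (nat_lit 7), (nat_lit 11), (nat_lit 5), (nat_lit 7), (nat_lit 11), (nat_lit 5), (nat_lit 11), (nat_lit 7)],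
  [(nat_lit 5), (nat_lit 11), (nat_lit 5), (nat_lit 15), (nat_lit 11), (nat_lit 5), (nat_lit 15), (nat_lit 11), (nat_lit 15)],
  [(nat_lit 1), (nat_lit 3), (nat_lit 1), (nat_lit 3), (nat_lit 7), (nat_lit 1), (nat_lit 3), (nat_lit 1), (nat_lit 3), (nat_lit 7)],
  [(nat_lit 1), (nat_lit 3), (nat_lit 1), (nat_lit 3), (nat_lit 15), (nat_lit 1), (nat_lit 3), (nat_lit 1), (nat_lit 3), (nat_lit 15)],
  [(nat_lit 1), (nat_lit 3), (nat_lit 1), (nat_lit 7), (nat_lit 13), (nat_lit 1), (nat_lit 3), (nat_lit 1), (nat_lit 7), (nat_lit 13)],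
  [(nat_lit 1), (nat_lit 3), (nat_lit 1), (nat_lit 7), (nat_lit 13), (nat_lit 1), (nat_lit 3), (nat_lit 7), (nat_lit 1), (nat_lit 13)],
  [(nat_lit 1), (nat_lit 3), (nat_lit 1), (nat_lit 13), (nat_lit 1), (nat_lit 3), (nat_lit 1), (nat_lit 15), (nat_lit 13), (nat_lit 15)],
  [(nat_lit 1), (nat_lit 3), (nat_lit 1), (nat_lit 13), (nat_lit 9), (nat_lit 3), (nat_lit 1), (nat_lit 3), (nat_lit 9), (nat_lit 13)],
  [(nat_lit 1), (nat_lit 3), (nat_lit 7), (nat_lit 15), (nat_lit 3), (nat_lit 1), (nat_lit 13), (nat_lit 15), (nat_lit 7), (nat_lit 13)],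
  [(nat_lit 1), (nat_lit 5), (nat_lit 7), (nat_lit 5), (nat_lit 7), (nat_lit 1), (nat_lit 5), (nat_lit 7), (nat_lit 5), (nat_lit 7)],
  [(nat_lit 3), (nat_lit 5), (nat_lit 3), (nat_lit 5), (nat_lit 3), (nat_lit 13), (nat_lit 5), (nat_lit 3), (nat_lit 5), (nat_lit 13)],
  [(nat_lit 3), (nat_lit 5), (nat_lit 3), (nat_lit 5), (nat_lit 13), (nat_lit 3), (nat_lit 5), (nat_lit 3), (nat_lit 5), (nat_lit 13)],
  [(nat_lit 3), (nat_lit 5), (nat_lit 3), (nat_lit 5), (nat_lit 15), (nat_lit 3), (nat_lit 5), (nat_lit 3), (nat_lit 5), (nat_lit 15)],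
  [(nat_lit 3), (nat_lit 5), (nat_lit 7), (nat_lit 5), (nat_lit 3), (nat_lit 5), (nat_lit 7), (nat_lit 13), (nat_lit 5), (nat_lit 13)],
  [(nat_lit 3), (nat_lit 5), (nat_lit 7), (nat_lit 5), (nat_lit 13), (nat_lit 3), (nat_lit 5), (nat_lit 13), (nat_lit 7), (nat_lit 5)],
  [(nat_lit 3), (nat_lit 5), (nat_lit 13), (nat_lit 5), (nat_lit 3), (nat_lit 13), (nat_lit 5), (nat_lit 13), (nat_lit 5), (nat_lit 13)],
  [(nat_lit 3), (nat_lit 5), (nat_lit 13), (nat_lit 5), (nat_lit 13), (nat_lit 3), (nat_lit 5), (nat_lit 13), (nat_lit 5), (nat_lit 13)],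
  [(nat_lit 3), (nat_lit 5), (nat_lit 13), (nat_lit 15), (nat_lit 5), (nat_lit 3), (nat_lit 5), (nat_lit 15), (nat_lit 13), (nat_lit 5)],
  [(nat_lit 5), (nat_lit 7), (nat_lit 5), (nat_lit 13), (nat_lit 5), (nat_lit 13), (nat_lit 7), (nat_lit 13), (nat_lit 5), (nat_lit 13)],
  [(nat_lit 5), (nat_lit 7), (nat_lit 13), (nat_lit 5), (nat_lit 13), (nat_lit 5), (nat_lit 7), (nat_lit 13), (nat_lit 5), (nat_lit 13)],
  [(nat_lit 5), (nat_lit 13), (nat_lit 7), (nat_lit 9), (nat_lit 13), (nat_lit 5), (nat_lit 13), (nat_lit 7), (nat_lit 9), (nat_lit 13)],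
  [(nat_lit 5), (nat_lit 13), (nat_lit 7), (nat_lit 9), (nat_lit 13), (nat_lit 5), (nat_lit 13), (nat_lit 9), (nat_lit 7), (nat_lit 13)],
  [(nat_lit 7), (nat_lit 9), (nat_lit 15), (nat_lit 7), (nat_lit 15), (nat_lit 9), (nat_lit 13), (nat_lit 7), (nat_lit 15), (nat_lit 13)],
  [(nat_lit 7), (nat_lit 13), (nat_lit 9), (nat_lit 13), (nat_lit 7), (nat_lit 15), (nat_lit 13), (nat_lit 9), (nat_lit 13), (nat_lit 15)],
  [(nat_lit 9), (nat_lit 13), (nat_lit 9), (nat_lit 13), (nat_lit 9), (nat_lit 13), (nat_lit 9), (nat_lit 13), (nat_lit 9), (nat_lit 13)],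
  [(nat_lit 1), (nat_lit 3), (nat_lit 5), (nat_lit 1), (nat_lit 3), (nat_lit 5), (nat_lit 1), (nat_lit 3), (nat_lit 5), (nat_lit 1), (nat_lit 3), (nat_lit 5)],
  [(nat_lit 1), (nat_lit 5), (nat_lit 7), (nat_lit 1), (nat_lit 5), (nat_lit 7), (nat_lit 1), (nat_lit 5), (nat_lit 7), (nat_lit 1), (nat_lit 5), (nat_lit 7)],
  [(nat_lit 1), (nat_lit 7), (nat_lit 15), (nat_lit 13), (nat_lit 1), (nat_lit 7), (nat_lit 15), (nat_lit 13), (nat_lit 1), (nat_lit 7), (nat_lit 15), (nat_lit 13)],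
  [(nat_lit 3), (nat_lit 5), (nat_lit 7), (nat_lit 3), (nat_lit 5), (nat_lit 7), (nat_lit 3), (nat_lit 5), (nat_lit 7), (nat_lit 3), (nat_lit 5), (nat_lit 7)],
  [(nat_lit 3), (nat_lit 5), (nat_lit 13), (nat_lit 3), (nat_lit 5), (nat_lit 13), (nat_lit 3), (nat_lit 5), (nat_lit 13), (nat_lit 3), (nat_lit 5), (nat_lit 13)],
  [(nat_lit 1), (nat_lit 3), (nat_lit 13), (nat_lit 9), (nat_lit 13), (nat_lit 1), (nat_lit 7), (nat_lit 9), (nat_lit 13), (nat_lit 15), (nat_lit 9), (nat_lit 13), (nat_lit 9)]]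

/-- relators of the maximal subgroup -/
noncomputable def RMs : List (List Nat) := [[(nat_lit 1), (nat_lit 1)],
  [(nat_lit 3), (nat_lit 3)],
  [(nat_lit 5), (nat_lit 5)],
  [(nat_lit 7), (nat_lit 7)],
  [(nat_lit 9), (nat_lit 9)],
  [(nat_lit 13), (nat_lit 13)],
  [(nat_lit 15), (nat_lit 15)],
  [(nat_lit 1), (nat_lit 5), (nat_lit 1), (nat_lit 5)],
  [(nat_lit 1), (nat_lit 7), (nat_lit 1), (nat_lit 7)],
  [(nat_lit 1), (nat_lit 9), (nat_lit 1), (nat_lit 9)],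
  [(nat_lit 1), (nat_lit 15), (nat_lit 1), (nat_lit 15)],
  [(nat_lit 3), (nat_lit 7), (nat_lit 3), (nat_lit 7)],
  [(nat_lit 3), (nat_lit 13), (nat_lit 3), (nat_lit 13)],
  [(nat_lit 3), (nat_lit 15), (nat_lit 3), (nat_lit 15)],
  [(nat_lit 5), (nat_lit 9), (nat_lit 5), (nat_lit 9)],
  [(nat_lit 5), (nat_lit 15), (nat_lit 5), (nat_lit 15)],
  [(nat_lit 7), (nat_lit 9), (nat_lit 7), (nat_lit 9)],
  [(nat_lit 9), (nat_lit 15), (nat_lit 9), (nat_lit 15)],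
  [(nat_lit 3), (nat_lit 7), (nat_lit 13), (nat_lit 7), (nat_lit 13)],
  [(nat_lit 3), (nat_lit 13), (nat_lit 15), (nat_lit 13), (nat_lit 15)],
  [(nat_lit 1), (nat_lit 13), (nat_lit 1), (nat_lit 13), (nat_lit 1), (nat_lit 13)],
  [(nat_lit 3), (nat_lit 9), (nat_lit 3), (nat_lit 9), (nat_lit 3), (nat_lit 9)],
  [(nat_lit 7), (nat_lit 13), (nat_lit 7), (nat_lit 15), (nat_lit 13), (nat_lit 15)],
  [(nat_lit 7), (nat_lit 15), (nat_lit 7), (nat_lit 15), (nat_lit 7), (nat_lit 15)],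
  [(nat_lit 1), (nat_lit 3), (nat_lit 1), (nat_lit 3), (nat_lit 1), (nat_lit 3), (nat_lit 1), (nat_lit 3)],
  [(nat_lit 3), (nat_lit 5), (nat_lit 3), (nat_lit 5), (nat_lit 3), (nat_lit 5), (nat_lit 3), (nat_lit 5)],
  [(nat_lit 3), (nat_lit 5), (nat_lit 13), (nat_lit 5), (nat_lit 3), (nat_lit 5), (nat_lit 13), (nat_lit 5)],
  [(nat_lit 5), (nat_lit 7), (nat_lit 5), (nat_lit 7), (nat_lit 5), (nat_lit 7), (nat_lit 5), (nat_lit 7)],
  [(nat_lit 5), (nat_lit 13), (nat_lit 5), (nat_lit 13), (nat_lit 5), (nat_lit 13), (nat_lit 5), (nat_lit 13)],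
  [(nat_lit 7), (nat_lit 13), (nat_lit 15), (nat_lit 7), (nat_lit 13), (nat_lit 15), (nat_lit 7), (nat_lit 15)],
  [(nat_lit 1), (nat_lit 3), (nat_lit 1), (nat_lit 3), (nat_lit 9), (nat_lit 3), (nat_lit 1), (nat_lit 3), (nat_lit 9)],
  [(nat_lit 1), (nat_lit 3), (nat_lit 1), (nat_lit 3), (nat_lit 13), (nat_lit 1), (nat_lit 3), (nat_lit 1), (nat_lit 13)],
  [(nat_lit 1), (nat_lit 3), (nat_lit 1), (nat_lit 9), (nat_lit 3), (nat_lit 1), (nat_lit 9), (nat_lit 3), (nat_lit 9)],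
  [(nat_lit 1), (nat_lit 3), (nat_lit 13), (nat_lit 1), (nat_lit 3), (nat_lit 13), (nat_lit 1), (nat_lit 3), (nat_lit 13)],
  [(nat_lit 1), (nat_lit 3), (nat_lit 13), (nat_lit 1), (nat_lit 3), (nat_lit 13), (nat_lit 1), (nat_lit 13), (nat_lit 3)],
  [(nat_lit 1), (nat_lit 3), (nat_lit 13), (nat_lit 1), (nat_lit 7), (nat_lit 13), (nat_lit 1), (nat_lit 13), (nat_lit 7)],
  [(nat_lit 1), (nat_lit 3), (nat_lit 13), (nat_lit 1), (nat_lit 15), (nat_lit 13), (nat_lit 1), (nat_lit 13), (nat_lit 15)],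
  [(nat_lit 3), (nat_lit 5), (nat_lit 3), (nat_lit 5), (nat_lit 9), (nat_lit 3), (nat_lit 5), (nat_lit 3), (nat_lit 9)],
  [(nat_lit 3), (nat_lit 5), (nat_lit 9), (nat_lit 3), (nat_lit 5), (nat_lit 9), (nat_lit 3), (nat_lit 5), (nat_lit 9)],
  [(nat_lit 3), (nat_lit 5), (nat_lit 9), (nat_lit 3), (nat_lit 5), (nat_lit 9), (nat_lit 3), (nat_lit 9), (nat_lit 5)],
  [(nat_lit 3), (nat_lit 5), (nat_lit 13), (nat_lit 5), (nat_lit 7), (nat_lit 5), (nat_lit 13), (nat_lit 5), (nat_lit 7)],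
  [(nat_lit 3), (nat_lit 9), (nat_lit 13), (nat_lit 15), (nat_lit 13), (nat_lit 9), (nat_lit 3), (nat_lit 9), (nat_lit 15)],
  [(nat_lit 5), (nat_lit 7), (nat_lit 5), (nat_lit 7), (nat_lit 15), (nat_lit 7), (nat_lit 5), (nat_lit 7), (nat_lit 15)],
  [(nat_lit 5), (nat_lit 7), (nat_lit 5), (nat_lit 15), (nat_lit 7), (nat_lit 5), (nat_lit 15), (nat_lit 7), (nat_lit 15)],
  [(nat_lit 1), (nat_lit 3), (nat_lit 1), (nat_lit 3), (nat_lit 7), (nat_lit 1), (nat_lit 3), (nat_lit 1), (nat_lit 3), (nat_lit 7)],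
  [(nat_lit 1), (nat_lit 3), (nat_lit 1), (nat_lit 3), (nat_lit 15), (nat_lit 1), (nat_lit 3), (nat_lit 1), (nat_lit 3), (nat_lit 15)],
  [(nat_lit 1), (nat_lit 3), (nat_lit 1), (nat_lit 7), (nat_lit 13), (nat_lit 1), (nat_lit 3), (nat_lit 1), (nat_lit 7), (nat_lit 13)],
  [(nat_lit 1), (nat_lit 3), (nat_lit 1), (nat_lit 7), (nat_lit 13), (nat_lit 1), (nat_lit 3), (nat_lit 7), (nat_lit 1), (nat_lit 13)],
  [(nat_lit 1), (nat_lit 3), (nat_lit 1), (nat_lit 13), (nat_lit 1), (nat_lit 3), (nat_lit 1), (nat_lit 15), (nat_lit 13), (nat_lit 15)],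
  [(nat_lit 1), (nat_lit 3), (nat_lit 1), (nat_lit 13), (nat_lit 9), (nat_lit 3), (nat_lit 1), (nat_lit 3), (nat_lit 9), (nat_lit 13)],
  [(nat_lit 1), (nat_lit 3), (nat_lit 7), (nat_lit 15), (nat_lit 3), (nat_lit 1), (nat_lit 13), (nat_lit 15), (nat_lit 7), (nat_lit 13)],
  [(nat_lit 1), (nat_lit 5), (nat_lit 7), (nat_lit 5), (nat_lit 7), (nat_lit 1), (nat_lit 5), (nat_lit 7), (nat_lit 5), (nat_lit 7)],
  [(nat_lit 3), (nat_lit 5), (nat_lit 3), (nat_lit 5), (nat_lit 3), (nat_lit 13), (nat_lit 5), (nat_lit 3), (nat_lit 5), (nat_lit 13)],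
  [(nat_lit 3), (nat_lit 5), (nat_lit 3), (nat_lit 5), (nat_lit 13), (nat_lit 3), (nat_lit 5), (nat_lit 3), (nat_lit 5), (nat_lit 13)],
  [(nat_lit 3), (nat_lit 5), (nat_lit 3), (nat_lit 5), (nat_lit 15), (nat_lit 3), (nat_lit 5), (nat_lit 3), (nat_lit 5), (nat_lit 15)],
  [(nat_lit 3), (nat_lit 5), (nat_lit 7), (nat_lit 5), (nat_lit 3), (nat_lit 5), (nat_lit 7), (nat_lit 13), (nat_lit 5), (nat_lit 13)],
  [(nat_lit 3), (nat_lit 5), (nat_lit 7), (nat_lit 5), (nat_lit 13), (nat_lit 3), (nat_lit 5), (nat_lit 13), (nat_lit 7), (nat_lit 5)],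
  [(nat_lit 3), (nat_lit 5), (nat_lit 13), (nat_lit 5), (nat_lit 3), (nat_lit 13), (nat_lit 5), (nat_lit 13), (nat_lit 5), (nat_lit 13)],
  [(nat_lit 3), (nat_lit 5), (nat_lit 13), (nat_lit 5), (nat_lit 13), (nat_lit 3), (nat_lit 5), (nat_lit 13), (nat_lit 5), (nat_lit 13)],
  [(nat_lit 3), (nat_lit 5), (nat_lit 13), (nat_lit 15), (nat_lit 5), (nat_lit 3), (nat_lit 5), (nat_lit 15), (nat_lit 13), (nat_lit 5)],
  [(nat_lit 5), (nat_lit 7), (nat_lit 5), (nat_lit 13), (nat_lit 5), (nat_lit 13), (nat_lit 7), (nat_lit 13), (nat_lit 5), (nat_lit 13)],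
  [(nat_lit 5), (nat_lit 7), (nat_lit 13), (nat_lit 5), (nat_lit 13), (nat_lit 5), (nat_lit 7), (nat_lit 13), (nat_lit 5), (nat_lit 13)],
  [(nat_lit 5), (nat_lit 13), (nat_lit 7), (nat_lit 9), (nat_lit 13), (nat_lit 5), (nat_lit 13), (nat_lit 7), (nat_lit 9), (nat_lit 13)],
  [(nat_lit 5), (nat_lit 13), (nat_lit 7), (nat_lit 9), (nat_lit 13), (nat_lit 5), (nat_lit 13), (nat_lit 9), (nat_lit 7), (nat_lit 13)],
  [(nat_lit 7), (nat_lit 9), (nat_lit 15), (nat_lit 7), (nat_lit 15), (nat_lit 9), (nat_lit 13), (nat_lit 7), (nat_lit 15), (nat_lit 13)],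
  [(nat_lit 7), (nat_lit 13), (nat_lit 9), (nat_lit 13), (nat_lit 7), (nat_lit 15), (nat_lit 13), (nat_lit 9), (nat_lit 13), (nat_lit 15)],
  [(nat_lit 9), (nat_lit 13), (nat_lit 9), (nat_lit 13), (nat_lit 9), (nat_lit 13), (nat_lit 9), (nat_lit 13), (nat_lit 9), (nat_lit 13)],
  [(nat_lit 1), (nat_lit 3), (nat_lit 5), (nat_lit 1), (nat_lit 3), (nat_lit 5), (nat_lit 1), (nat_lit 3), (nat_lit 5), (nat_lit 1), (nat_lit 3), (nat_lit 5)],
  [(nat_lit 1), (nat_lit 5), (nat_lit 7), (nat_lit 1), (nat_lit 5), (nat_lit 7), (nat_lit 1), (nat_lit 5), (nat_lit 7), (nat_lit 1), (nat_lit 5), (nat_lit 7)],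
  [(nat_lit 1), (nat_lit 7), (nat_lit 15), (nat_lit 13), (nat_lit 1), (nat_lit 7), (nat_lit 15), (nat_lit 13), (nat_lit 1), (nat_lit 7), (nat_lit 15), (nat_lit 13)],
  [(nat_lit 3), (nat_lit 5), (nat_lit 7), (nat_lit 3), (nat_lit 5), (nat_lit 7), (nat_lit 3), (nat_lit 5), (nat_lit 7), (nat_lit 3), (nat_lit 5), (nat_lit 7)],
  [(nat_lit 3), (nat_lit 5), (nat_lit 13), (nat_lit 3), (nat_lit 5), (nat_lit 13), (nat_lit 3), (nat_lit 5), (nat_lit 13), (nat_lit 3), (nat_lit 5), (nat_lit 13)],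
  [(nat_lit 1), (nat_lit 3), (nat_lit 13), (nat_lit 9), (nat_lit 13), (nat_lit 1), (nat_lit 7), (nat_lit 9), (nat_lit 13), (nat_lit 15), (nat_lit 9), (nat_lit 13), (nat_lit 9)]]

/-- relators -/
noncomputable def RH : List (List Nat) := [[(nat_lit 1), (nat_lit 1)],
  [(nat_lit 3), (nat_lit 3)],
  [(nat_lit 5), (nat_lit 5)],
  [(nat_lit 7), (nat_lit 7)],
  [(nat_lit 9), (nat_lit 9)],
  [(nat_lit 11), (nat_lit 11)],
  [(nat_lit 13), (nat_lit 13)],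
  [(nat_lit 15), (nat_lit 15)],
  [(nat_lit 1), (nat_lit 5), (nat_lit 1), (nat_lit 5)],
  [(nat_lit 1), (nat_lit 7), (nat_lit 1), (nat_lit 7)],
  [(nat_lit 1), (nat_lit 9), (nat_lit 1), (nat_lit 9)],
  [(nat_lit 1), (nat_lit 11), (nat_lit 1), (nat_lit 11)],
  [(nat_lit 3), (nat_lit 7), (nat_lit 3), (nat_lit 7)],
  [(nat_lit 3), (nat_lit 11), (nat_lit 3), (nat_lit 11)],
  [(nat_lit 3), (nat_lit 13), (nat_lit 3), (nat_lit 13)],
  [(nat_lit 5), (nat_lit 9), (nat_lit 5), (nat_lit 9)],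
  [(nat_lit 5), (nat_lit 15), (nat_lit 5), (nat_lit 15)],
  [(nat_lit 7), (nat_lit 9), (nat_lit 7), (nat_lit 9)],
  [(nat_lit 7), (nat_lit 11), (nat_lit 7), (nat_lit 11)],
  [(nat_lit 1), (nat_lit 13), (nat_lit 1), (nat_lit 13), (nat_lit 1), (nat_lit 13)],
  [(nat_lit 3), (nat_lit 9), (nat_lit 3), (nat_lit 9), (nat_lit 3), (nat_lit 9)],
  [(nat_lit 3), (nat_lit 9), (nat_lit 15), (nat_lit 9), (nat_lit 3), (nat_lit 15)],
  [(nat_lit 5), (nat_lit 11), (nat_lit 5), (nat_lit 11), (nat_lit 5), (nat_lit 11)],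
  [(nat_lit 5), (nat_lit 11), (nat_lit 13), (nat_lit 11), (nat_lit 5), (nat_lit 13)],
  [(nat_lit 7), (nat_lit 15), (nat_lit 7), (nat_lit 15), (nat_lit 7), (nat_lit 15)],
  [(nat_lit 1), (nat_lit 3), (nat_lit 15), (nat_lit 3), (nat_lit 1), (nat_lit 5), (nat_lit 15)],
  [(nat_lit 1), (nat_lit 3), (nat_lit 15), (nat_lit 3), (nat_lit 5), (nat_lit 1), (nat_lit 15)],
  [(nat_lit 1), (nat_lit 5), (nat_lit 9), (nat_lit 15), (nat_lit 1), (nat_lit 9), (nat_lit 15)],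
  [(nat_lit 1), (nat_lit 5), (nat_lit 9), (nat_lit 15), (nat_lit 9), (nat_lit 1), (nat_lit 15)],
  [(nat_lit 1), (nat_lit 5), (nat_lit 15), (nat_lit 1), (nat_lit 9), (nat_lit 15), (nat_lit 9)],
  [(nat_lit 1), (nat_lit 9), (nat_lit 5), (nat_lit 15), (nat_lit 9), (nat_lit 1), (nat_lit 15)],
  [(nat_lit 3), (nat_lit 5), (nat_lit 13), (nat_lit 5), (nat_lit 7), (nat_lit 13), (nat_lit 7)],
  [(nat_lit 3), (nat_lit 7), (nat_lit 5), (nat_lit 13), (nat_lit 5), (nat_lit 7), (nat_lit 13)],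
  [(nat_lit 3), (nat_lit 7), (nat_lit 11), (nat_lit 13), (nat_lit 7), (nat_lit 11), (nat_lit 13)],
  [(nat_lit 3), (nat_lit 7), (nat_lit 11), (nat_lit 13), (nat_lit 11), (nat_lit 7), (nat_lit 13)],
  [(nat_lit 3), (nat_lit 7), (nat_lit 13), (nat_lit 7), (nat_lit 11), (nat_lit 13), (nat_lit 11)],
  [(nat_lit 3), (nat_lit 7), (nat_lit 13), (nat_lit 11), (nat_lit 7), (nat_lit 13), (nat_lit 11)],
  [(nat_lit 3), (nat_lit 11), (nat_lit 7), (nat_lit 13), (nat_lit 7), (nat_lit 11), (nat_lit 13)],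
  [(nat_lit 1), (nat_lit 3), (nat_lit 1), (nat_lit 3), (nat_lit 1), (nat_lit 3), (nat_lit 1), (nat_lit 3)],
  [(nat_lit 1), (nat_lit 5), (nat_lit 11), (nat_lit 1), (nat_lit 13), (nat_lit 11), (nat_lit 5), (nat_lit 13)],
  [(nat_lit 1), (nat_lit 15), (nat_lit 1), (nat_lit 15), (nat_lit 1), (nat_lit 15), (nat_lit 1), (nat_lit 15)],
  [(nat_lit 1), (nat_lit 15), (nat_lit 9), (nat_lit 15), (nat_lit 1), (nat_lit 15), (nat_lit 9), (nat_lit 15)],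
  [(nat_lit 3), (nat_lit 5), (nat_lit 3), (nat_lit 5), (nat_lit 3), (nat_lit 5), (nat_lit 3), (nat_lit 5)],
  [(nat_lit 3), (nat_lit 5), (nat_lit 3), (nat_lit 15), (nat_lit 3), (nat_lit 5), (nat_lit 3), (nat_lit 15)],
  [(nat_lit 3), (nat_lit 5), (nat_lit 9), (nat_lit 15), (nat_lit 9), (nat_lit 5), (nat_lit 3), (nat_lit 15)],
  [(nat_lit 3), (nat_lit 7), (nat_lit 15), (nat_lit 3), (nat_lit 9), (nat_lit 15), (nat_lit 7), (nat_lit 9)],
  [(nat_lit 3), (nat_lit 9), (nat_lit 3), (nat_lit 9), (nat_lit 15), (nat_lit 3), (nat_lit 9), (nat_lit 15)],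
  [(nat_lit 3), (nat_lit 15), (nat_lit 3), (nat_lit 15), (nat_lit 3), (nat_lit 15), (nat_lit 3), (nat_lit 15)],
  [(nat_lit 3), (nat_lit 15), (nat_lit 3), (nat_lit 15), (nat_lit 9), (nat_lit 15), (nat_lit 9), (nat_lit 15)],
  [(nat_lit 5), (nat_lit 7), (nat_lit 5), (nat_lit 7), (nat_lit 5), (nat_lit 7), (nat_lit 5), (nat_lit 7)],
  [(nat_lit 5), (nat_lit 11), (nat_lit 5), (nat_lit 11), (nat_lit 13), (nat_lit 5), (nat_lit 11), (nat_lit 13)],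
  [(nat_lit 5), (nat_lit 13), (nat_lit 5), (nat_lit 13), (nat_lit 5), (nat_lit 13), (nat_lit 5), (nat_lit 13)],
  [(nat_lit 5), (nat_lit 13), (nat_lit 5), (nat_lit 13), (nat_lit 11), (nat_lit 13), (nat_lit 11), (nat_lit 13)],
  [(nat_lit 7), (nat_lit 13), (nat_lit 7), (nat_lit 13), (nat_lit 7), (nat_lit 13), (nat_lit 7), (nat_lit 13)],
  [(nat_lit 7), (nat_lit 13), (nat_lit 11), (nat_lit 13), (nat_lit 7), (nat_lit 13), (nat_lit 11), (nat_lit 13)],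
  [(nat_lit 9), (nat_lit 11), (nat_lit 9), (nat_lit 11), (nat_lit 9), (nat_lit 11), (nat_lit 9), (nat_lit 11)],
  [(nat_lit 1), (nat_lit 3), (nat_lit 1), (nat_lit 3), (nat_lit 9), (nat_lit 3), (nat_lit 1), (nat_lit 3), (nat_lit 9)],
  [(nat_lit 1), (nat_lit 3), (nat_lit 1), (nat_lit 3), (nat_lit 13), (nat_lit 1), (nat_lit 3), (nat_lit 1), (nat_lit 13)],
  [(nat_lit 1), (nat_lit 3), (nat_lit 1), (nat_lit 9), (nat_lit 3), (nat_lit 1), (nat_lit 9), (nat_lit 3), (nat_lit 9)],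
  [(nat_lit 1), (nat_lit 3), (nat_lit 7), (nat_lit 15), (nat_lit 3), (nat_lit 1), (nat_lit 5), (nat_lit 15), (nat_lit 7)],
  [(nat_lit 1), (nat_lit 3), (nat_lit 7), (nat_lit 15), (nat_lit 3), (nat_lit 1), (nat_lit 15), (nat_lit 5), (nat_lit 7)],
  [(nat_lit 1), (nat_lit 3), (nat_lit 13), (nat_lit 1), (nat_lit 3), (nat_lit 13), (nat_lit 1), (nat_lit 3), (nat_lit 13)],
  [(nat_lit 1), (nat_lit 3), (nat_lit 13), (nat_lit 1), (nat_lit 3), (nat_lit 13), (nat_lit 1), (nat_lit 13), (nat_lit 3)],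
  [(nat_lit 1), (nat_lit 5), (nat_lit 7), (nat_lit 1), (nat_lit 13), (nat_lit 3), (nat_lit 7), (nat_lit 5), (nat_lit 13)],
  [(nat_lit 1), (nat_lit 5), (nat_lit 7), (nat_lit 1), (nat_lit 13), (nat_lit 7), (nat_lit 3), (nat_lit 5), (nat_lit 13)],
  [(nat_lit 1), (nat_lit 5), (nat_lit 9), (nat_lit 15), (nat_lit 7), (nat_lit 1), (nat_lit 9), (nat_lit 7), (nat_lit 15)],
  [(nat_lit 1), (nat_lit 5), (nat_lit 15), (nat_lit 1), (nat_lit 15), (nat_lit 3), (nat_lit 15), (nat_lit 3), (nat_lit 15)],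
  [(nat_lit 1), (nat_lit 5), (nat_lit 15), (nat_lit 3), (nat_lit 15), (nat_lit 3), (nat_lit 15), (nat_lit 1), (nat_lit 15)],
  [(nat_lit 1), (nat_lit 15), (nat_lit 1), (nat_lit 15), (nat_lit 3), (nat_lit 15), (nat_lit 3), (nat_lit 5), (nat_lit 15)],
  [(nat_lit 3), (nat_lit 5), (nat_lit 3), (nat_lit 5), (nat_lit 9), (nat_lit 3), (nat_lit 5), (nat_lit 3), (nat_lit 9)],
  [(nat_lit 3), (nat_lit 5), (nat_lit 3), (nat_lit 5), (nat_lit 11), (nat_lit 5), (nat_lit 3), (nat_lit 5), (nat_lit 11)],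
  [(nat_lit 3), (nat_lit 5), (nat_lit 3), (nat_lit 11), (nat_lit 5), (nat_lit 3), (nat_lit 11), (nat_lit 5), (nat_lit 11)],
  [(nat_lit 3), (nat_lit 5), (nat_lit 9), (nat_lit 3), (nat_lit 5), (nat_lit 9), (nat_lit 3), (nat_lit 5), (nat_lit 9)],
  [(nat_lit 3), (nat_lit 5), (nat_lit 9), (nat_lit 3), (nat_lit 5), (nat_lit 9), (nat_lit 3), (nat_lit 9), (nat_lit 5)],
  [(nat_lit 3), (nat_lit 5), (nat_lit 13), (nat_lit 5), (nat_lit 13), (nat_lit 7), (nat_lit 13), (nat_lit 7), (nat_lit 13)],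
  [(nat_lit 3), (nat_lit 7), (nat_lit 13), (nat_lit 5), (nat_lit 13), (nat_lit 5), (nat_lit 13), (nat_lit 7), (nat_lit 13)],
  [(nat_lit 3), (nat_lit 7), (nat_lit 13), (nat_lit 7), (nat_lit 13), (nat_lit 5), (nat_lit 13), (nat_lit 5), (nat_lit 13)],
  [(nat_lit 3), (nat_lit 9), (nat_lit 3), (nat_lit 11), (nat_lit 9), (nat_lit 3), (nat_lit 11), (nat_lit 9), (nat_lit 11)],
  [(nat_lit 3), (nat_lit 9), (nat_lit 7), (nat_lit 5), (nat_lit 9), (nat_lit 13), (nat_lit 5), (nat_lit 7), (nat_lit 13)],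
  [(nat_lit 3), (nat_lit 9), (nat_lit 11), (nat_lit 9), (nat_lit 3), (nat_lit 9), (nat_lit 11), (nat_lit 9), (nat_lit 11)],
  [(nat_lit 5), (nat_lit 7), (nat_lit 5), (nat_lit 7), (nat_lit 11), (nat_lit 5), (nat_lit 7), (nat_lit 5), (nat_lit 11)],
  [(nat_lit 5), (nat_lit 7), (nat_lit 5), (nat_lit 7), (nat_lit 15), (nat_lit 7), (nat_lit 5), (nat_lit 7), (nat_lit 15)],
  [(nat_lit 5), (nat_lit 7), (nat_lit 5), (nat_lit 15), (nat_lit 7), (nat_lit 5), (nat_lit 15), (nat_lit 7), (nat_lit 15)],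
  [(nat_lit 5), (nat_lit 7), (nat_lit 11), (nat_lit 5), (nat_lit 7), (nat_lit 11), (nat_lit 5), (nat_lit 7), (nat_lit 11)],
  [(nat_lit 5), (nat_lit 7), (nat_lit 11), (nat_lit 5), (nat_lit 7), (nat_lit 11), (nat_lit 5), (nat_lit 11), (nat_lit 7)],
  [(nat_lit 1), (nat_lit 3), (nat_lit 1), (nat_lit 3), (nat_lit 7), (nat_lit 1), (nat_lit 3), (nat_lit 1), (nat_lit 3), (nat_lit 7)],
  [(nat_lit 1), (nat_lit 3), (nat_lit 1), (nat_lit 3), (nat_lit 11), (nat_lit 1), (nat_lit 3), (nat_lit 1), (nat_lit 3), (nat_lit 11)],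
  [(nat_lit 1), (nat_lit 3), (nat_lit 1), (nat_lit 13), (nat_lit 9), (nat_lit 3), (nat_lit 1), (nat_lit 3), (nat_lit 9), (nat_lit 13)],
  [(nat_lit 1), (nat_lit 3), (nat_lit 5), (nat_lit 3), (nat_lit 1), (nat_lit 3), (nat_lit 5), (nat_lit 15), (nat_lit 3), (nat_lit 15)],
  [(nat_lit 1), (nat_lit 3), (nat_lit 5), (nat_lit 3), (nat_lit 1), (nat_lit 3), (nat_lit 15), (nat_lit 5), (nat_lit 3), (nat_lit 15)],
  [(nat_lit 1), (nat_lit 3), (nat_lit 15), (nat_lit 3), (nat_lit 15), (nat_lit 1), (nat_lit 3), (nat_lit 15), (nat_lit 3), (nat_lit 15)],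
  [(nat_lit 1), (nat_lit 3), (nat_lit 15), (nat_lit 3), (nat_lit 15), (nat_lit 1), (nat_lit 9), (nat_lit 15), (nat_lit 9), (nat_lit 15)],
  [(nat_lit 1), (nat_lit 3), (nat_lit 15), (nat_lit 3), (nat_lit 15), (nat_lit 1), (nat_lit 15), (nat_lit 3), (nat_lit 15), (nat_lit 3)],
  [(nat_lit 1), (nat_lit 3), (nat_lit 15), (nat_lit 7), (nat_lit 13), (nat_lit 7), (nat_lit 5), (nat_lit 13), (nat_lit 1), (nat_lit 15)],
  [(nat_lit 1), (nat_lit 5), (nat_lit 7), (nat_lit 5), (nat_lit 7), (nat_lit 1), (nat_lit 5), (nat_lit 7), (nat_lit 5), (nat_lit 7)],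
  [(nat_lit 1), (nat_lit 9), (nat_lit 3), (nat_lit 15), (nat_lit 3), (nat_lit 15), (nat_lit 1), (nat_lit 15), (nat_lit 9), (nat_lit 15)],
  [(nat_lit 1), (nat_lit 11), (nat_lit 15), (nat_lit 3), (nat_lit 15), (nat_lit 1), (nat_lit 11), (nat_lit 15), (nat_lit 3), (nat_lit 15)],
  [(nat_lit 1), (nat_lit 11), (nat_lit 15), (nat_lit 3), (nat_lit 15), (nat_lit 11), (nat_lit 1), (nat_lit 15), (nat_lit 3), (nat_lit 15)],
  [(nat_lit 3), (nat_lit 5), (nat_lit 3), (nat_lit 5), (nat_lit 3), (nat_lit 13), (nat_lit 5), (nat_lit 3), (nat_lit 5), (nat_lit 13)],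
  [(nat_lit 3), (nat_lit 5), (nat_lit 3), (nat_lit 5), (nat_lit 13), (nat_lit 3), (nat_lit 5), (nat_lit 3), (nat_lit 5), (nat_lit 13)],
  [(nat_lit 3), (nat_lit 5), (nat_lit 3), (nat_lit 5), (nat_lit 15), (nat_lit 3), (nat_lit 5), (nat_lit 3), (nat_lit 5), (nat_lit 15)],
  [(nat_lit 3), (nat_lit 5), (nat_lit 3), (nat_lit 5), (nat_lit 15), (nat_lit 3), (nat_lit 5), (nat_lit 3), (nat_lit 15), (nat_lit 5)],
  [(nat_lit 3), (nat_lit 5), (nat_lit 3), (nat_lit 13), (nat_lit 15), (nat_lit 13), (nat_lit 5), (nat_lit 13), (nat_lit 15), (nat_lit 13)],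
  [(nat_lit 3), (nat_lit 5), (nat_lit 7), (nat_lit 5), (nat_lit 3), (nat_lit 5), (nat_lit 7), (nat_lit 13), (nat_lit 5), (nat_lit 13)],
  [(nat_lit 3), (nat_lit 5), (nat_lit 7), (nat_lit 5), (nat_lit 13), (nat_lit 3), (nat_lit 5), (nat_lit 13), (nat_lit 7), (nat_lit 5)],
  [(nat_lit 3), (nat_lit 5), (nat_lit 9), (nat_lit 15), (nat_lit 5), (nat_lit 3), (nat_lit 9), (nat_lit 3), (nat_lit 9), (nat_lit 15)],
  [(nat_lit 3), (nat_lit 5), (nat_lit 11), (nat_lit 5), (nat_lit 11), (nat_lit 13), (nat_lit 5), (nat_lit 3), (nat_lit 11), (nat_lit 13)],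
  [(nat_lit 3), (nat_lit 5), (nat_lit 13), (nat_lit 3), (nat_lit 15), (nat_lit 13), (nat_lit 5), (nat_lit 13), (nat_lit 15), (nat_lit 13)],
  [(nat_lit 3), (nat_lit 5), (nat_lit 13), (nat_lit 5), (nat_lit 3), (nat_lit 13), (nat_lit 5), (nat_lit 13), (nat_lit 5), (nat_lit 13)],
  [(nat_lit 3), (nat_lit 5), (nat_lit 15), (nat_lit 13), (nat_lit 15), (nat_lit 3), (nat_lit 15), (nat_lit 13), (nat_lit 5), (nat_lit 15)],
  [(nat_lit 3), (nat_lit 5), (nat_lit 15), (nat_lit 13), (nat_lit 15), (nat_lit 3), (nat_lit 15), (nat_lit 13), (nat_lit 15), (nat_lit 5)],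
  [(nat_lit 3), (nat_lit 9), (nat_lit 15), (nat_lit 3), (nat_lit 15), (nat_lit 9), (nat_lit 15), (nat_lit 3), (nat_lit 15), (nat_lit 9)],
  [(nat_lit 3), (nat_lit 13), (nat_lit 5), (nat_lit 13), (nat_lit 3), (nat_lit 15), (nat_lit 13), (nat_lit 5), (nat_lit 13), (nat_lit 15)],
  [(nat_lit 3), (nat_lit 13), (nat_lit 15), (nat_lit 13), (nat_lit 15), (nat_lit 3), (nat_lit 13), (nat_lit 15), (nat_lit 13), (nat_lit 15)],
  [(nat_lit 3), (nat_lit 13), (nat_lit 15), (nat_lit 13), (nat_lit 15), (nat_lit 13), (nat_lit 3), (nat_lit 15), (nat_lit 13), (nat_lit 15)],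
  [(nat_lit 3), (nat_lit 15), (nat_lit 5), (nat_lit 13), (nat_lit 15), (nat_lit 3), (nat_lit 15), (nat_lit 13), (nat_lit 5), (nat_lit 15)],
  [(nat_lit 5), (nat_lit 7), (nat_lit 5), (nat_lit 11), (nat_lit 15), (nat_lit 7), (nat_lit 5), (nat_lit 7), (nat_lit 15), (nat_lit 11)],
  [(nat_lit 5), (nat_lit 7), (nat_lit 5), (nat_lit 13), (nat_lit 5), (nat_lit 13), (nat_lit 7), (nat_lit 13), (nat_lit 5), (nat_lit 13)],
  [(nat_lit 5), (nat_lit 7), (nat_lit 13), (nat_lit 11), (nat_lit 13), (nat_lit 11), (nat_lit 7), (nat_lit 13), (nat_lit 5), (nat_lit 13)],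
  [(nat_lit 5), (nat_lit 11), (nat_lit 7), (nat_lit 13), (nat_lit 11), (nat_lit 13), (nat_lit 7), (nat_lit 13), (nat_lit 5), (nat_lit 13)],
  [(nat_lit 5), (nat_lit 13), (nat_lit 7), (nat_lit 9), (nat_lit 13), (nat_lit 5), (nat_lit 13), (nat_lit 7), (nat_lit 9), (nat_lit 13)],
  [(nat_lit 5), (nat_lit 13), (nat_lit 7), (nat_lit 9), (nat_lit 13), (nat_lit 5), (nat_lit 13), (nat_lit 9), (nat_lit 7), (nat_lit 13)],
  [(nat_lit 5), (nat_lit 13), (nat_lit 15), (nat_lit 13), (nat_lit 5), (nat_lit 15), (nat_lit 13), (nat_lit 15), (nat_lit 13), (nat_lit 15)],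
  [(nat_lit 1), (nat_lit 3), (nat_lit 7), (nat_lit 13), (nat_lit 1), (nat_lit 15), (nat_lit 13), (nat_lit 1), (nat_lit 15), (nat_lit 7), (nat_lit 13)],
  [(nat_lit 1), (nat_lit 7), (nat_lit 15), (nat_lit 1), (nat_lit 13), (nat_lit 7), (nat_lit 15), (nat_lit 13), (nat_lit 7), (nat_lit 5), (nat_lit 15)],
  [(nat_lit 1), (nat_lit 13), (nat_lit 15), (nat_lit 1), (nat_lit 15), (nat_lit 13), (nat_lit 1), (nat_lit 15), (nat_lit 3), (nat_lit 13), (nat_lit 15)],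
  [(nat_lit 5), (nat_lit 7), (nat_lit 15), (nat_lit 9), (nat_lit 15), (nat_lit 13), (nat_lit 7), (nat_lit 15), (nat_lit 13), (nat_lit 15), (nat_lit 9)],
  [(nat_lit 1), (nat_lit 3), (nat_lit 5), (nat_lit 1), (nat_lit 3), (nat_lit 5), (nat_lit 1), (nat_lit 3), (nat_lit 5), (nat_lit 1), (nat_lit 3), (nat_lit 5)],
  [(nat_lit 1), (nat_lit 3), (nat_lit 5), (nat_lit 3), (nat_lit 5), (nat_lit 1), (nat_lit 13), (nat_lit 9), (nat_lit 15), (nat_lit 9), (nat_lit 15), (nat_lit 13)],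
  [(nat_lit 1), (nat_lit 5), (nat_lit 11), (nat_lit 13), (nat_lit 1), (nat_lit 5), (nat_lit 11), (nat_lit 13), (nat_lit 1), (nat_lit 5), (nat_lit 11), (nat_lit 13)],
  [(nat_lit 1), (nat_lit 5), (nat_lit 13), (nat_lit 11), (nat_lit 1), (nat_lit 5), (nat_lit 13), (nat_lit 11), (nat_lit 1), (nat_lit 5), (nat_lit 13), (nat_lit 11)],
  [(nat_lit 1), (nat_lit 11), (nat_lit 5), (nat_lit 13), (nat_lit 1), (nat_lit 11), (nat_lit 5), (nat_lit 13), (nat_lit 1), (nat_lit 11), (nat_lit 5), (nat_lit 13)],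
  [(nat_lit 1), (nat_lit 13), (nat_lit 15), (nat_lit 13), (nat_lit 11), (nat_lit 13), (nat_lit 15), (nat_lit 13), (nat_lit 1), (nat_lit 15), (nat_lit 11), (nat_lit 15)],
  [(nat_lit 3), (nat_lit 5), (nat_lit 7), (nat_lit 3), (nat_lit 5), (nat_lit 7), (nat_lit 3), (nat_lit 5), (nat_lit 7), (nat_lit 3), (nat_lit 5), (nat_lit 7)],
  [(nat_lit 3), (nat_lit 5), (nat_lit 7), (nat_lit 3), (nat_lit 15), (nat_lit 11), (nat_lit 13), (nat_lit 11), (nat_lit 13), (nat_lit 15), (nat_lit 7), (nat_lit 5)],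
  [(nat_lit 3), (nat_lit 5), (nat_lit 13), (nat_lit 3), (nat_lit 5), (nat_lit 13), (nat_lit 3), (nat_lit 5), (nat_lit 13), (nat_lit 3), (nat_lit 5), (nat_lit 13)],
  [(nat_lit 3), (nat_lit 5), (nat_lit 13), (nat_lit 15), (nat_lit 11), (nat_lit 15), (nat_lit 3), (nat_lit 5), (nat_lit 13), (nat_lit 15), (nat_lit 11), (nat_lit 15)],
  [(nat_lit 3), (nat_lit 7), (nat_lit 9), (nat_lit 15), (nat_lit 3), (nat_lit 7), (nat_lit 9), (nat_lit 15), (nat_lit 3), (nat_lit 7), (nat_lit 9), (nat_lit 15)],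
  [(nat_lit 3), (nat_lit 7), (nat_lit 15), (nat_lit 9), (nat_lit 3), (nat_lit 7), (nat_lit 15), (nat_lit 9), (nat_lit 3), (nat_lit 7), (nat_lit 15), (nat_lit 9)],
  [(nat_lit 3), (nat_lit 9), (nat_lit 7), (nat_lit 15), (nat_lit 3), (nat_lit 9), (nat_lit 7), (nat_lit 15), (nat_lit 3), (nat_lit 9), (nat_lit 7), (nat_lit 15)],
  [(nat_lit 1), (nat_lit 3), (nat_lit 1), (nat_lit 5), (nat_lit 13), (nat_lit 15), (nat_lit 11), (nat_lit 15), (nat_lit 5), (nat_lit 13), (nat_lit 15), (nat_lit 11), (nat_lit 15)],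
  [(nat_lit 1), (nat_lit 3), (nat_lit 5), (nat_lit 13), (nat_lit 9), (nat_lit 1), (nat_lit 15), (nat_lit 9), (nat_lit 13), (nat_lit 15), (nat_lit 1), (nat_lit 13), (nat_lit 3)],
  [(nat_lit 1), (nat_lit 3), (nat_lit 5), (nat_lit 15), (nat_lit 3), (nat_lit 1), (nat_lit 13), (nat_lit 9), (nat_lit 15), (nat_lit 9), (nat_lit 15), (nat_lit 13), (nat_lit 15)],
  [(nat_lit 1), (nat_lit 3), (nat_lit 15), (nat_lit 11), (nat_lit 15), (nat_lit 7), (nat_lit 1), (nat_lit 13), (nat_lit 7), (nat_lit 15), (nat_lit 11), (nat_lit 15), (nat_lit 13)],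
  [(nat_lit 1), (nat_lit 3), (nat_lit 15), (nat_lit 13), (nat_lit 5), (nat_lit 1), (nat_lit 15), (nat_lit 13), (nat_lit 9), (nat_lit 5), (nat_lit 1), (nat_lit 9), (nat_lit 13)],
  [(nat_lit 1), (nat_lit 5), (nat_lit 7), (nat_lit 15), (nat_lit 1), (nat_lit 13), (nat_lit 11), (nat_lit 7), (nat_lit 11), (nat_lit 15), (nat_lit 13), (nat_lit 7), (nat_lit 15)],
  [(nat_lit 1), (nat_lit 5), (nat_lit 9), (nat_lit 13), (nat_lit 15), (nat_lit 7), (nat_lit 13), (nat_lit 9), (nat_lit 1), (nat_lit 13), (nat_lit 7), (nat_lit 15), (nat_lit 13)],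
  [(nat_lit 1), (nat_lit 7), (nat_lit 11), (nat_lit 5), (nat_lit 15), (nat_lit 7), (nat_lit 13), (nat_lit 15), (nat_lit 7), (nat_lit 13), (nat_lit 1), (nat_lit 15), (nat_lit 11)],
  [(nat_lit 1), (nat_lit 7), (nat_lit 15), (nat_lit 1), (nat_lit 13), (nat_lit 9), (nat_lit 13), (nat_lit 15), (nat_lit 7), (nat_lit 5), (nat_lit 13), (nat_lit 9), (nat_lit 13)],
  [(nat_lit 3), (nat_lit 5), (nat_lit 3), (nat_lit 13), (nat_lit 9), (nat_lit 13), (nat_lit 5), (nat_lit 7), (nat_lit 5), (nat_lit 7), (nat_lit 13), (nat_lit 9), (nat_lit 13)],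
  [(nat_lit 3), (nat_lit 5), (nat_lit 7), (nat_lit 5), (nat_lit 3), (nat_lit 9), (nat_lit 13), (nat_lit 3), (nat_lit 9), (nat_lit 7), (nat_lit 9), (nat_lit 13), (nat_lit 9)],
  [(nat_lit 3), (nat_lit 5), (nat_lit 7), (nat_lit 13), (nat_lit 15), (nat_lit 13), (nat_lit 11), (nat_lit 13), (nat_lit 11), (nat_lit 15), (nat_lit 7), (nat_lit 5), (nat_lit 13)],
  [(nat_lit 3), (nat_lit 5), (nat_lit 13), (nat_lit 15), (nat_lit 11), (nat_lit 15), (nat_lit 7), (nat_lit 13), (nat_lit 7), (nat_lit 15), (nat_lit 5), (nat_lit 11), (nat_lit 15)],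
  [(nat_lit 3), (nat_lit 5), (nat_lit 13), (nat_lit 15), (nat_lit 13), (nat_lit 9), (nat_lit 7), (nat_lit 13), (nat_lit 5), (nat_lit 7), (nat_lit 15), (nat_lit 13), (nat_lit 9)],
  [(nat_lit 3), (nat_lit 7), (nat_lit 5), (nat_lit 7), (nat_lit 13), (nat_lit 9), (nat_lit 13), (nat_lit 15), (nat_lit 3), (nat_lit 13), (nat_lit 9), (nat_lit 13), (nat_lit 15)],
  [(nat_lit 3), (nat_lit 7), (nat_lit 11), (nat_lit 15), (nat_lit 13), (nat_lit 7), (nat_lit 3), (nat_lit 15), (nat_lit 13), (nat_lit 5), (nat_lit 7), (nat_lit 15), (nat_lit 11)],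
  [(nat_lit 3), (nat_lit 7), (nat_lit 15), (nat_lit 13), (nat_lit 3), (nat_lit 7), (nat_lit 15), (nat_lit 13), (nat_lit 5), (nat_lit 11), (nat_lit 7), (nat_lit 11), (nat_lit 15)],
  [(nat_lit 5), (nat_lit 7), (nat_lit 15), (nat_lit 13), (nat_lit 7), (nat_lit 13), (nat_lit 15), (nat_lit 7), (nat_lit 13), (nat_lit 15), (nat_lit 11), (nat_lit 13), (nat_lit 11)],
  [(nat_lit 5), (nat_lit 13), (nat_lit 7), (nat_lit 15), (nat_lit 13), (nat_lit 11), (nat_lit 7), (nat_lit 11), (nat_lit 13), (nat_lit 15), (nat_lit 7), (nat_lit 13), (nat_lit 15)],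
  [(nat_lit 1), (nat_lit 9), (nat_lit 13), (nat_lit 9), (nat_lit 7), (nat_lit 13), (nat_lit 15), (nat_lit 9), (nat_lit 1), (nat_lit 13), (nat_lit 9), (nat_lit 7), (nat_lit 13), (nat_lit 15)],
  [(nat_lit 1), (nat_lit 11), (nat_lit 15), (nat_lit 7), (nat_lit 11), (nat_lit 13), (nat_lit 15), (nat_lit 11), (nat_lit 1), (nat_lit 15), (nat_lit 7), (nat_lit 11), (nat_lit 13), (nat_lit 15)],
  [(nat_lit 3), (nat_lit 9), (nat_lit 3), (nat_lit 13), (nat_lit 15), (nat_lit 9), (nat_lit 13), (nat_lit 9), (nat_lit 13), (nat_lit 9), (nat_lit 13), (nat_lit 9), (nat_lit 15), (nat_lit 13)],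
  [(nat_lit 5), (nat_lit 11), (nat_lit 5), (nat_lit 15), (nat_lit 13), (nat_lit 11), (nat_lit 15), (nat_lit 11), (nat_lit 15), (nat_lit 11), (nat_lit 15), (nat_lit 11), (nat_lit 13), (nat_lit 15)]]

/-- relators of the maximal subgroup -/
noncomputable def RHs : List (List Nat) := [[(nat_lit 1), (nat_lit 1)],
  [(nat_lit 3), (nat_lit 3)],
  [(nat_lit 5), (nat_lit 5)],
  [(nat_lit 7), (nat_lit 7)],
  [(nat_lit 11), (nat_lit 11)],
  [(nat_lit 13), (nat_lit 13)],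
  [(nat_lit 15), (nat_lit 15)],
  [(nat_lit 1), (nat_lit 5), (nat_lit 1), (nat_lit 5)],
  [(nat_lit 1), (nat_lit 7), (nat_lit 1), (nat_lit 7)],
  [(nat_lit 1), (nat_lit 11), (nat_lit 1), (nat_lit 11)],
  [(nat_lit 3), (nat_lit 7), (nat_lit 3), (nat_lit 7)],
  [(nat_lit 3), (nat_lit 11), (nat_lit 3), (nat_lit 11)],
  [(nat_lit 3), (nat_lit 13), (nat_lit 3), (nat_lit 13)],
  [(nat_lit 5), (nat_lit 15), (nat_lit 5), (nat_lit 15)],
  [(nat_lit 7), (nat_lit 11), (nat_lit 7), (nat_lit 11)],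
  [(nat_lit 1), (nat_lit 13), (nat_lit 1), (nat_lit 13), (nat_lit 1), (nat_lit 13)],
  [(nat_lit 5), (nat_lit 11), (nat_lit 5), (nat_lit 11), (nat_lit 5), (nat_lit 11)],
  [(nat_lit 5), (nat_lit 11), (nat_lit 13), (nat_lit 11), (nat_lit 5), (nat_lit 13)],
  [(nat_lit 7), (nat_lit 15), (nat_lit 7), (nat_lit 15), (nat_lit 7), (nat_lit 15)],
  [(nat_lit 1), (nat_lit 3), (nat_lit 15), (nat_lit 3), (nat_lit 1), (nat_lit 5), (nat_lit 15)],
  [(nat_lit 1), (nat_lit 3), (nat_lit 15), (nat_lit 3), (nat_lit 5), (nat_lit 1), (nat_lit 15)],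
  [(nat_lit 3), (nat_lit 5), (nat_lit 13), (nat_lit 5), (nat_lit 7), (nat_lit 13), (nat_lit 7)],
  [(nat_lit 3), (nat_lit 7), (nat_lit 5), (nat_lit 13), (nat_lit 5), (nat_lit 7), (nat_lit 13)],
  [(nat_lit 3), (nat_lit 7), (nat_lit 11), (nat_lit 13), (nat_lit 7), (nat_lit 11), (nat_lit 13)],
  [(nat_lit 3), (nat_lit 7), (nat_lit 11), (nat_lit 13), (nat_lit 11), (nat_lit 7), (nat_lit 13)],
  [(nat_lit 3), (nat_lit 7), (nat_lit 13), (nat_lit 7), (nat_lit 11), (nat_lit 13), (nat_lit 11)],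
  [(nat_lit 3), (nat_lit 7), (nat_lit 13), (nat_lit 11), (nat_lit 7), (nat_lit 13), (nat_lit 11)],
  [(nat_lit 3), (nat_lit 11), (nat_lit 7), (nat_lit 13), (nat_lit 7), (nat_lit 11), (nat_lit 13)],
  [(nat_lit 1), (nat_lit 3), (nat_lit 1), (nat_lit 3), (nat_lit 1), (nat_lit 3), (nat_lit 1), (nat_lit 3)],
  [(nat_lit 1), (nat_lit 5), (nat_lit 11), (nat_lit 1), (nat_lit 13), (nat_lit 11), (nat_lit 5), (nat_lit 13)],
  [(nat_lit 1), (nat_lit 15), (nat_lit 1), (nat_lit 15), (nat_lit 1), (nat_lit 15), (nat_lit 1), (nat_lit 15)],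
  [(nat_lit 3), (nat_lit 5), (nat_lit 3), (nat_lit 5), (nat_lit 3), (nat_lit 5), (nat_lit 3), (nat_lit 5)],
  [(nat_lit 3), (nat_lit 5), (nat_lit 3), (nat_lit 15), (nat_lit 3), (nat_lit 5), (nat_lit 3), (nat_lit 15)],
  [(nat_lit 3), (nat_lit 15), (nat_lit 3), (nat_lit 15), (nat_lit 3), (nat_lit 15), (nat_lit 3), (nat_lit 15)],
  [(nat_lit 5), (nat_lit 7), (nat_lit 5), (nat_lit 7), (nat_lit 5), (nat_lit 7), (nat_lit 5), (nat_lit 7)],
  [(nat_lit 5), (nat_lit 11), (nat_lit 5), (nat_lit 11), (nat_lit 13), (nat_lit 5), (nat_lit 11), (nat_lit 13)],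
  [(nat_lit 5), (nat_lit 13), (nat_lit 5), (nat_lit 13), (nat_lit 5), (nat_lit 13), (nat_lit 5), (nat_lit 13)],
  [(nat_lit 5), (nat_lit 13), (nat_lit 5), (nat_lit 13), (nat_lit 11), (nat_lit 13), (nat_lit 11), (nat_lit 13)],
  [(nat_lit 7), (nat_lit 13), (nat_lit 7), (nat_lit 13), (nat_lit 7), (nat_lit 13), (nat_lit 7), (nat_lit 13)],
  [(nat_lit 7), (nat_lit 13), (nat_lit 11), (nat_lit 13), (nat_lit 7), (nat_lit 13), (nat_lit 11), (nat_lit 13)],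
  [(nat_lit 1), (nat_lit 3), (nat_lit 1), (nat_lit 3), (nat_lit 13), (nat_lit 1), (nat_lit 3), (nat_lit 1), (nat_lit 13)],
  [(nat_lit 1), (nat_lit 3), (nat_lit 7), (nat_lit 15), (nat_lit 3), (nat_lit 1), (nat_lit 5), (nat_lit 15), (nat_lit 7)],
  [(nat_lit 1), (nat_lit 3), (nat_lit 7), (nat_lit 15), (nat_lit 3), (nat_lit 1), (nat_lit 15), (nat_lit 5), (nat_lit 7)],
  [(nat_lit 1), (nat_lit 3), (nat_lit 13), (nat_lit 1), (nat_lit 3), (nat_lit 13), (nat_lit 1), (nat_lit 3), (nat_lit 13)],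
  [(nat_lit 1), (nat_lit 3), (nat_lit 13), (nat_lit 1), (nat_lit 3), (nat_lit 13), (nat_lit 1), (nat_lit 13), (nat_lit 3)],
  [(nat_lit 1), (nat_lit 5), (nat_lit 7), (nat_lit 1), (nat_lit 13), (nat_lit 3), (nat_lit 7), (nat_lit 5), (nat_lit 13)],
  [(nat_lit 1), (nat_lit 5), (nat_lit 7), (nat_lit 1), (nat_lit 13), (nat_lit 7), (nat_lit 3), (nat_lit 5), (nat_lit 13)],
  [(nat_lit 1), (nat_lit 5), (nat_lit 15), (nat_lit 1), (nat_lit 15), (nat_lit 3), (nat_lit 15), (nat_lit 3), (nat_lit 15)],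
  [(nat_lit 1), (nat_lit 5), (nat_lit 15), (nat_lit 3), (nat_lit 15), (nat_lit 3), (nat_lit 15), (nat_lit 1), (nat_lit 15)],
  [(nat_lit 1), (nat_lit 15), (nat_lit 1), (nat_lit 15), (nat_lit 3), (nat_lit 15), (nat_lit 3), (nat_lit 5), (nat_lit 15)],
  [(nat_lit 3), (nat_lit 5), (nat_lit 3), (nat_lit 5), (nat_lit 11), (nat_lit 5), (nat_lit 3), (nat_lit 5), (nat_lit 11)],
  [(nat_lit 3), (nat_lit 5), (nat_lit 3), (nat_lit 11), (nat_lit 5), (nat_lit 3), (nat_lit 11), (nat_lit 5), (nat_lit 11)],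
  [(nat_lit 3), (nat_lit 5), (nat_lit 13), (nat_lit 5), (nat_lit 13), (nat_lit 7), (nat_lit 13), (nat_lit 7), (nat_lit 13)],
  [(nat_lit 3), (nat_lit 7), (nat_lit 13), (nat_lit 5), (nat_lit 13), (nat_lit 5), (nat_lit 13), (nat_lit 7), (nat_lit 13)],
  [(nat_lit 3), (nat_lit 7), (nat_lit 13), (nat_lit 7), (nat_lit 13), (nat_lit 5), (nat_lit 13), (nat_lit 5), (nat_lit 13)],
  [(nat_lit 5), (nat_lit 7), (nat_lit 5), (nat_lit 7), (nat_lit 11), (nat_lit 5), (nat_lit 7), (nat_lit 5), (nat_lit 11)],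
  [(nat_lit 5), (nat_lit 7), (nat_lit 5), (nat_lit 7), (nat_lit 15), (nat_lit 7), (nat_lit 5), (nat_lit 7), (nat_lit 15)],
  [(nat_lit 5), (nat_lit 7), (nat_lit 5), (nat_lit 15), (nat_lit 7), (nat_lit 5), (nat_lit 15), (nat_lit 7), (nat_lit 15)],
  [(nat_lit 5), (nat_lit 7), (nat_lit 11), (nat_lit 5), (nat_lit 7), (nat_lit 11), (nat_lit 5), (nat_lit 7), (nat_lit 11)],
  [(nat_lit 5), (nat_lit 7), (nat_lit 11), (nat_lit 5), (nat_lit 7), (nat_lit 11), (nat_lit 5), (nat_lit 11), (nat_lit 7)],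
  [(nat_lit 1), (nat_lit 3), (nat_lit 1), (nat_lit 3), (nat_lit 7), (nat_lit 1), (nat_lit 3), (nat_lit 1), (nat_lit 3), (nat_lit 7)],
  [(nat_lit 1), (nat_lit 3), (nat_lit 1), (nat_lit 3), (nat_lit 11), (nat_lit 1), (nat_lit 3), (nat_lit 1), (nat_lit 3), (nat_lit 11)],
  [(nat_lit 1), (nat_lit 3), (nat_lit 5), (nat_lit 3), (nat_lit 1), (nat_lit 3), (nat_lit 5), (nat_lit 15), (nat_lit 3), (nat_lit 15)],
  [(nat_lit 1), (nat_lit 3), (nat_lit 5), (nat_lit 3), (nat_lit 1), (nat_lit 3), (nat_lit 15), (nat_lit 5), (nat_lit 3), (nat_lit 15)],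
  [(nat_lit 1), (nat_lit 3), (nat_lit 15), (nat_lit 3), (nat_lit 15), (nat_lit 1), (nat_lit 3), (nat_lit 15), (nat_lit 3), (nat_lit 15)],
  [(nat_lit 1), (nat_lit 3), (nat_lit 15), (nat_lit 3), (nat_lit 15), (nat_lit 1), (nat_lit 15), (nat_lit 3), (nat_lit 15), (nat_lit 3)],
  [(nat_lit 1), (nat_lit 3), (nat_lit 15), (nat_lit 7), (nat_lit 13), (nat_lit 7), (nat_lit 5), (nat_lit 13), (nat_lit 1), (nat_lit 15)],
  [(nat_lit 1), (nat_lit 5), (nat_lit 7), (nat_lit 5), (nat_lit 7), (nat_lit 1), (nat_lit 5), (nat_lit 7), (nat_lit 5), (nat_lit 7)],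
  [(nat_lit 1), (nat_lit 11), (nat_lit 15), (nat_lit 3), (nat_lit 15), (nat_lit 1), (nat_lit 11), (nat_lit 15), (nat_lit 3), (nat_lit 15)],
  [(nat_lit 1), (nat_lit 11), (nat_lit 15), (nat_lit 3), (nat_lit 15), (nat_lit 11), (nat_lit 1), (nat_lit 15), (nat_lit 3), (nat_lit 15)],
  [(nat_lit 3), (nat_lit 5), (nat_lit 3), (nat_lit 5), (nat_lit 3), (nat_lit 13), (nat_lit 5), (nat_lit 3), (nat_lit 5), (nat_lit 13)],
  [(nat_lit 3), (nat_lit 5), (nat_lit 3), (nat_lit 5), (nat_lit 13), (nat_lit 3), (nat_lit 5), (nat_lit 3), (nat_lit 5), (nat_lit 13)],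
  [(nat_lit 3), (nat_lit 5), (nat_lit 3), (nat_lit 5), (nat_lit 15), (nat_lit 3), (nat_lit 5), (nat_lit 3), (nat_lit 5), (nat_lit 15)],
  [(nat_lit 3), (nat_lit 5), (nat_lit 3), (nat_lit 5), (nat_lit 15), (nat_lit 3), (nat_lit 5), (nat_lit 3), (nat_lit 15), (nat_lit 5)],
  [(nat_lit 3), (nat_lit 5), (nat_lit 3), (nat_lit 13), (nat_lit 15), (nat_lit 13), (nat_lit 5), (nat_lit 13), (nat_lit 15), (nat_lit 13)],
  [(nat_lit 3), (nat_lit 5), (nat_lit 7), (nat_lit 5), (nat_lit 3), (nat_lit 5), (nat_lit 7), (nat_lit 13), (nat_lit 5), (nat_lit 13)],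
  [(nat_lit 3), (nat_lit 5), (nat_lit 7), (nat_lit 5), (nat_lit 13), (nat_lit 3), (nat_lit 5), (nat_lit 13), (nat_lit 7), (nat_lit 5)],
  [(nat_lit 3), (nat_lit 5), (nat_lit 11), (nat_lit 5), (nat_lit 11), (nat_lit 13), (nat_lit 5), (nat_lit 3), (nat_lit 11), (nat_lit 13)],
  [(nat_lit 3), (nat_lit 5), (nat_lit 13), (nat_lit 3), (nat_lit 15), (nat_lit 13), (nat_lit 5), (nat_lit 13), (nat_lit 15), (nat_lit 13)],
  [(nat_lit 3), (nat_lit 5), (nat_lit 13), (nat_lit 5), (nat_lit 3), (nat_lit 13), (nat_lit 5), (nat_lit 13), (nat_lit 5), (nat_lit 13)],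
  [(nat_lit 3), (nat_lit 5), (nat_lit 15), (nat_lit 13), (nat_lit 15), (nat_lit 3), (nat_lit 15), (nat_lit 13), (nat_lit 5), (nat_lit 15)],
  [(nat_lit 3), (nat_lit 5), (nat_lit 15), (nat_lit 13), (nat_lit 15), (nat_lit 3), (nat_lit 15), (nat_lit 13), (nat_lit 15), (nat_lit 5)],
  [(nat_lit 3), (nat_lit 13), (nat_lit 5), (nat_lit 13), (nat_lit 3), (nat_lit 15), (nat_lit 13), (nat_lit 5), (nat_lit 13), (nat_lit 15)],
  [(nat_lit 3), (nat_lit 13), (nat_lit 15), (nat_lit 13), (nat_lit 15), (nat_lit 3), (nat_lit 13), (nat_lit 15), (nat_lit 13), (nat_lit 15)],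
  [(nat_lit 3), (nat_lit 13), (nat_lit 15), (nat_lit 13), (nat_lit 15), (nat_lit 13), (nat_lit 3), (nat_lit 15), (nat_lit 13), (nat_lit 15)],
  [(nat_lit 3), (nat_lit 15), (nat_lit 5), (nat_lit 13), (nat_lit 15), (nat_lit 3), (nat_lit 15), (nat_lit 13), (nat_lit 5), (nat_lit 15)],
  [(nat_lit 5), (nat_lit 7), (nat_lit 5), (nat_lit 11), (nat_lit 15), (nat_lit 7), (nat_lit 5), (nat_lit 7), (nat_lit 15), (nat_lit 11)],
  [(nat_lit 5), (nat_lit 7), (nat_lit 5), (nat_lit 13), (nat_lit 5), (nat_lit 13), (nat_lit 7), (nat_lit 13), (nat_lit 5), (nat_lit 13)],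
  [(nat_lit 5), (nat_lit 7), (nat_lit 13), (nat_lit 11), (nat_lit 13), (nat_lit 11), (nat_lit 7), (nat_lit 13), (nat_lit 5), (nat_lit 13)],
  [(nat_lit 5), (nat_lit 11), (nat_lit 7), (nat_lit 13), (nat_lit 11), (nat_lit 13), (nat_lit 7), (nat_lit 13), (nat_lit 5), (nat_lit 13)],
  [(nat_lit 5), (nat_lit 13), (nat_lit 15), (nat_lit 13), (nat_lit 5), (nat_lit 15), (nat_lit 13), (nat_lit 15), (nat_lit 13), (nat_lit 15)],
  [(nat_lit 1), (nat_lit 3), (nat_lit 7), (nat_lit 13), (nat_lit 1), (nat_lit 15), (nat_lit 13), (nat_lit 1), (nat_lit 15), (nat_lit 7), (nat_lit 13)],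
  [(nat_lit 1), (nat_lit 7), (nat_lit 15), (nat_lit 1), (nat_lit 13), (nat_lit 7), (nat_lit 15), (nat_lit 13), (nat_lit 7), (nat_lit 5), (nat_lit 15)],
  [(nat_lit 1), (nat_lit 13), (nat_lit 15), (nat_lit 1), (nat_lit 15), (nat_lit 13), (nat_lit 1), (nat_lit 15), (nat_lit 3), (nat_lit 13), (nat_lit 15)],
  [(nat_lit 1), (nat_lit 3), (nat_lit 5), (nat_lit 1), (nat_lit 3), (nat_lit 5), (nat_lit 1), (nat_lit 3), (nat_lit 5), (nat_lit 1), (nat_lit 3), (nat_lit 5)],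
  [(nat_lit 1), (nat_lit 5), (nat_lit 11), (nat_lit 13), (nat_lit 1), (nat_lit 5), (nat_lit 11), (nat_lit 13), (nat_lit 1), (nat_lit 5), (nat_lit 11), (nat_lit 13)],
  [(nat_lit 1), (nat_lit 5), (nat_lit 13), (nat_lit 11), (nat_lit 1), (nat_lit 5), (nat_lit 13), (nat_lit 11), (nat_lit 1), (nat_lit 5), (nat_lit 13), (nat_lit 11)],
  [(nat_lit 1), (nat_lit 11), (nat_lit 5), (nat_lit 13), (nat_lit 1), (nat_lit 11), (nat_lit 5), (nat_lit 13), (nat_lit 1), (nat_lit 11), (nat_lit 5), (nat_lit 13)],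
  [(nat_lit 1), (nat_lit 13), (nat_lit 15), (nat_lit 13), (nat_lit 11), (nat_lit 13), (nat_lit 15), (nat_lit 13), (nat_lit 1), (nat_lit 15), (nat_lit 11), (nat_lit 15)],
  [(nat_lit 3), (nat_lit 5), (nat_lit 7), (nat_lit 3), (nat_lit 5), (nat_lit 7), (nat_lit 3), (nat_lit 5), (nat_lit 7), (nat_lit 3), (nat_lit 5), (nat_lit 7)],
  [(nat_lit 3), (nat_lit 5), (nat_lit 7), (nat_lit 3), (nat_lit 15), (nat_lit 11), (nat_lit 13), (nat_lit 11), (nat_lit 13), (nat_lit 15), (nat_lit 7), (nat_lit 5)],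
  [(nat_lit 3), (nat_lit 5), (nat_lit 13), (nat_lit 3), (nat_lit 5), (nat_lit 13), (nat_lit 3), (nat_lit 5), (nat_lit 13), (nat_lit 3), (nat_lit 5), (nat_lit 13)],
  [(nat_lit 3), (nat_lit 5), (nat_lit 13), (nat_lit 15), (nat_lit 11), (nat_lit 15), (nat_lit 3), (nat_lit 5), (nat_lit 13), (nat_lit 15), (nat_lit 11), (nat_lit 15)],
  [(nat_lit 1), (nat_lit 3), (nat_lit 1), (nat_lit 5), (nat_lit 13), (nat_lit 15), (nat_lit 11), (nat_lit 15), (nat_lit 5), (nat_lit 13), (nat_lit 15), (nat_lit 11), (nat_lit 15)],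
  [(nat_lit 1), (nat_lit 3), (nat_lit 15), (nat_lit 11), (nat_lit 15), (nat_lit 7), (nat_lit 1), (nat_lit 13), (nat_lit 7), (nat_lit 15), (nat_lit 11), (nat_lit 15), (nat_lit 13)],
  [(nat_lit 1), (nat_lit 5), (nat_lit 7), (nat_lit 15), (nat_lit 1), (nat_lit 13), (nat_lit 11), (nat_lit 7), (nat_lit 11), (nat_lit 15), (nat_lit 13), (nat_lit 7), (nat_lit 15)],
  [(nat_lit 1), (nat_lit 7), (nat_lit 11), (nat_lit 5), (nat_lit 15), (nat_lit 7), (nat_lit 13), (nat_lit 15), (nat_lit 7), (nat_lit 13), (nat_lit 1), (nat_lit 15), (nat_lit 11)],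
  [(nat_lit 3), (nat_lit 5), (nat_lit 7), (nat_lit 13), (nat_lit 15), (nat_lit 13), (nat_lit 11), (nat_lit 13), (nat_lit 11), (nat_lit 15), (nat_lit 7), (nat_lit 5), (nat_lit 13)],
  [(nat_lit 3), (nat_lit 5), (nat_lit 13), (nat_lit 15), (nat_lit 11), (nat_lit 15), (nat_lit 7), (nat_lit 13), (nat_lit 7), (nat_lit 15), (nat_lit 5), (nat_lit 11), (nat_lit 15)],
  [(nat_lit 3), (nat_lit 7), (nat_lit 11), (nat_lit 15), (nat_lit 13), (nat_lit 7), (nat_lit 3), (nat_lit 15), (nat_lit 13), (nat_lit 5), (nat_lit 7), (nat_lit 15), (nat_lit 11)],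
  [(nat_lit 3), (nat_lit 7), (nat_lit 15), (nat_lit 13), (nat_lit 3), (nat_lit 7), (nat_lit 15), (nat_lit 13), (nat_lit 5), (nat_lit 11), (nat_lit 7), (nat_lit 11), (nat_lit 15)],
  [(nat_lit 5), (nat_lit 7), (nat_lit 15), (nat_lit 13), (nat_lit 7), (nat_lit 13), (nat_lit 15), (nat_lit 7), (nat_lit 13), (nat_lit 15), (nat_lit 11), (nat_lit 13), (nat_lit 11)],
  [(nat_lit 5), (nat_lit 13), (nat_lit 7), (nat_lit 15), (nat_lit 13), (nat_lit 11), (nat_lit 7), (nat_lit 11), (nat_lit 13), (nat_lit 15), (nat_lit 7), (nat_lit 13), (nat_lit 15)],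
  [(nat_lit 1), (nat_lit 11), (nat_lit 15), (nat_lit 7), (nat_lit 11), (nat_lit 13), (nat_lit 15), (nat_lit 11), (nat_lit 1), (nat_lit 15), (nat_lit 7), (nat_lit 11), (nat_lit 13), (nat_lit 15)],
  [(nat_lit 5), (nat_lit 11), (nat_lit 5), (nat_lit 15), (nat_lit 13), (nat_lit 11), (nat_lit 15), (nat_lit 11), (nat_lit 15), (nat_lit 11), (nat_lit 15), (nat_lit 11), (nat_lit 13), (nat_lit 15)]]


end CF.Held
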