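import Cfsg.Agent.Comp.Pres
import Cfsg.Agent.Held.Rels
import Cfsg.Agent.Held.ESD

set_option autoImplicit false
set_option maxRecDepth 1000000
set_option maxHeartbeats 0
set_option Elab.async false

namespace CF.Held

open CF.Comp

theorem eT_all : Cov eT_F 20 5 0 := by
  have h := Cov.zero eT_F 20
  have h := h.blk (b := 20) eT_k0_0 rfl
  have h := h.next (y := 1) rfl rfl
  have h := h.blk (b := 20) eT_k1_0 rfl
  have h := h.next (y := 2) rfl rfl
  have h := h.blk (b := 20) eT_k2_0 rfl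
  have h := h.next (y := 3) rfl rfl
  have h := h.blk (b := 20) eT_k3_0 rfl
  have h := h.next (y := 4) rfl rfl
  have h := h.blk (b := 20) eT_k4_0 rfl
  have h := h.next (y := 5) rfl rfl
  exact h

theorem eT : Enum RT [] GT 1024 :=
  ⟨eT_cols, eT_ch, eT_L, eT_H, eT_pb.1, eT_e.get, [(nat_lit 0), (nat_lit 1), (nat_lit 3), (nat_lit 5), (nat_lit 7)], (nat_lit 15), (nat_lit 8), eT_rots, eT_hcs,
    (nat_lit 1025), (nat_lit 5), (nat_lit 2048), (nat_lit 32), (nat_lit 65536), (nat_lit 131071), (nat_lit 8), (nat_lit 255), (nat_lit 22), (nat_lit 4194303), (nat_lit 5), (nat_lit 20),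
    fun _ _ => rfl, fun _ => rfl, fun _ _ => rfl, by decide +kernel, eT_all.1⟩

theorem eL1_all : Cov eL1_F 4 8 0 := by
  have h := Cov.zero eL1_F 4
  have h := h.blk (b := 4) eL1_k0_0 rfl
  have h := h.next (y := 1) rfl rfl
  have h := h.blk (b := 4) eL1_k1_0 rfl
  have h := h.next (y := 2) rfl rfl
  have h := h.blk (b := 4) eL1_k2_0 rfl
  have h := h.next (y := 3) rfl rfl
  have h := h.blk (b := 4) eL1_k3_0 rfl
  have h := h.next (y := 4) rfl rfl
  have h := h.blk (b := 4) eL1_k4_0 rfl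
  have h := h.next (y := 5) rfl rfl
  have h := h.blk (b := 4) eL1_k5_0 rfl
  have h := h.next (y := 6) rfl rfl
  have h := h.blk (b := 4) eL1_k6_0 rfl
  have h := h.next (y := 7) rfl rfl
  have h := h.blk (b := 4) eL1_k7_0 rfl
  have h := h.next (y := 8) rfl rfl
  exact h

theorem eL1 : Enum RLs GT GM1 63 :=
  ⟨eL1_cols, eL1_ch, eL1_L, eL1_H, eL1_pb.1, eL1_e.get, [(nat_lit 0), (nat_lit 1), (nat_lit 3), (nat_lit 5), (nat_lit 7), (nat_lit 11), (nat_lit 13), (nat_lit 15)], (nat_lit 239), (nat_lit 8), eL1_rots, eL1_hcs,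
    (nat_lit 64), (nat_lit 8), (nat_lit 64), (nat_lit 64), (nat_lit 4096), (nat_lit 4095), (nat_lit 8), (nat_lit 255), (nat_lit 16), (nat_lit 65535), (nat_lit 1), (nat_lit 4),
    fun _ _ => rfl, fun _ => rfl, fun _ _ => rfl, by decide +kernel, eL1_all.1⟩

theorem eM1_all : Cov eM1_F 4 8 0 := by
  have h := Cov.zero eM1_F 4
  have h := h.blk (b := 4) eM1_k0_0 rfl
  have h := h.next (y := 1) rfl rfl
  have h := h.blk (b := 4) eM1_k1_0 rfl
  have h := h.next (y := 2) rfl rfl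
  have h := h.blk (b := 4) eM1_k2_0 rfl
  have h := h.next (y := 3) rfl rfl
  have h := h.blk (b := 4) eM1_k3_0 rfl
  have h := h.next (y := 4) rfl rfl
  have h := h.blk (b := 4) eM1_k4_0 rfl
  have h := h.next (y := 5) rfl rfl
  have h := h.blk (b := 4) eM1_k5_0 rfl
  have h := h.next (y := 6) rfl rfl
  have h := h.blk (b := 4) eM1_k6_0 rfl
  have h := h.next (y := 7) rfl rfl
  have h := h.blk (b := 4) eM1_k7_0 rfl
  have h := h.next (y := 8) rfl rfl
  exact h

theorem eM1 : Enum RMs GT GM2 135 :=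
  ⟨eM1_cols, eM1_ch, eM1_L, eM1_H, eM1_pb.1, eM1_e.get, [(nat_lit 0), (nat_lit 1), (nat_lit 3), (nat_lit 5), (nat_lit 7), (nat_lit 9), (nat_lit 13), (nat_lit 15)], (nat_lit 223), (nat_lit 8), eM1_rots, eM1_hcs,
    (nat_lit 136), (nat_lit 8), (nat_lit 256), (nat_lit 128), (nat_lit 32768), (nat_lit 16383), (nat_lit 8), (nat_lit 255), (nat_lit 20), (nat_lit 1048575), (nat_lit 1), (nat_lit 4),
    fun _ _ => rfl, fun _ => rfl, fun _ _ => rfl, by decide +kernel, eM1_all.1⟩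

theorem eH1_all : Cov eH1_F 4 8 0 := by
  have h := Cov.zero eH1_F 4
  have h := h.blk (b := 4) eH1_k0_0 rfl
  have h := h.next (y := 1) rfl rfl
  have h := h.blk (b := 4) eH1_k1_0 rfl
  have h := h.next (y := 2) rfl rfl
  have h := h.blk (b := 4) eH1_k2_0 rfl
  have h := h.next (y := 3) rfl rfl
  have h := h.blk (b := 4) eH1_k3_0 rfl
  have h := h.next (y := 4) rfl rfl
  have h := h.blk (b := 4) eH1_k4_0 rfl
  have h := h.next (y := 5) rfl rfl
  have h := h.blk (b := 4) eH1_k5_0 rfl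
  have h := h.next (y := 6) rfl rfl
  have h := h.blk (b := 4) eH1_k6_0 rfl
  have h := h.next (y := 7) rfl rfl
  have h := h.blk (b := 4) eH1_k7_0 rfl
  have h := h.next (y := 8) rfl rfl
  exact h

theorem eH1 : Enum RHs GT GM1 135 :=
  ⟨eH1_cols, eH1_ch, eH1_L, eH1_H, eH1_pb.1, eH1_e.get, [(nat_lit 0), (nat_lit 1), (nat_lit 3), (nat_lit 5), (nat_lit 7), (nat_lit 11), (nat_lit 13), (nat_lit 15)], (nat_lit 239), (nat_lit 8), eH1_rots, eH1_hcs,
    (nat_lit 136), (nat_lit 8), (nat_lit 256), (nat_lit 128), (nat_lit 32768), (nat_lit 16383), (nat_lit 8), (nat_lit 255), (nat_lit 21), (nat_lit 2097151), (nat_lit 1), (nat_lit 4),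
    fun _ _ => rfl, fun _ => rfl, fun _ _ => rfl, by decide +kernel, eH1_all.1⟩

theorem eL2_all : Cov eL2_F 4 9 0 := by
  have h := Cov.zero eL2_F 4
  have h := h.blk (b := 4) eL2_k0_0 rfl
  have h := h.next (y := 1) rfl rfl
  have h := h.blk (b := 4) eL2_k1_0 rfl
  have h := h.next (y := 2) rfl rfl
  have h := h.blk (b := 4) eL2_k2_0 rfl
  have h := h.next (y := 3) rfl rfl
  have h := h.blk (b := 4) eL2_k3_0 rfl
  have h := h.next (y := 4) rfl rfl
  have h := h.blk (b := 4) eL2_k4_0 rfl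
  have h := h.next (y := 5) rfl rfl
  have h := h.blk (b := 4) eL2_k5_0 rfl
  have h := h.next (y := 6) rfl rfl
  have h := h.blk (b := 4) eL2_k6_0 rfl
  have h := h.next (y := 7) rfl rfl
  have h := h.blk (b := 4) eL2_k7_0 rfl
  have h := h.next (y := 8) rfl rfl
  have h := h.blk (b := 4) eL2_k8_0 rfl
  have h := h.next (y := 9) rfl rfl
  exact h

theorem eL2 : Enum RL GM1 (gensW 8) 155 :=
  ⟨eL2_cols, eL2_ch, eL2_L, eL2_H, eL2_pb.1, eL2_e.get, [(nat_lit 0), (nat_lit 1), (nat_lit 3), (nat_lit 5), (nat_lit 7), (nat_lit 9), (nat_lit 11), (nat_lit 13), (nat_lit 15)], (nat_lit 255), (nat_lit 8), eL2_rots, eL2_hcs,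
    (nat_lit 156), (nat_lit 9), (nat_lit 256), (nat_lit 128), (nat_lit 32768), (nat_lit 16383), (nat_lit 8), (nat_lit 255), (nat_lit 20), (nat_lit 1048575), (nat_lit 1), (nat_lit 4),
    fun _ _ => rfl, fun _ => rfl, fun _ _ => rfl, by decide +kernel, eL2_all.1⟩

theorem eM2_all : Cov eM2_F 28 9 0 := by
  have h := Cov.zero eM2_F 28
  have h := h.blk (b := 28) eM2_k0_0 rfl
  have h := h.next (y := 1) rfl rfl
  have h := h.blk (b := 28) eM2_k1_0 rfl
  have h := h.next (y := 2) rfl rfl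
  have h := h.blk (b := 28) eM2_k2_0 rfl
  have h := h.next (y := 3) rfl rfl
  have h := h.blk (b := 28) eM2_k3_0 rfl
  have h := h.next (y := 4) rfl rfl
  have h := h.blk (b := 28) eM2_k4_0 rfl
  have h := h.next (y := 5) rfl rfl
  have h := h.blk (b := 28) eM2_k5_0 rfl
  have h := h.next (y := 6) rfl rfl
  have h := h.blk (b := 28) eM2_k6_0 rfl
  have h := h.next (y := 7) rfl rfl
  have h := h.blk (b := 28) eM2_k7_0 rfl
  have h := h.next (y := 8) rfl rfl
  have h := h.blk (b := 28) eM2_k8_0 rfl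
  have h := h.next (y := 9) rfl rfl
  exact h

theorem eM2 : Enum RM GM2 (gensW 8) 1771 :=
  ⟨eM2_cols, eM2_ch, eM2_L, eM2_H, eM2_pb.1, eM2_e.get, [(nat_lit 0), (nat_lit 1), (nat_lit 3), (nat_lit 5), (nat_lit 7), (nat_lit 9), (nat_lit 11), (nat_lit 13), (nat_lit 15)], (nat_lit 255), (nat_lit 8), eM2_rots, eM2_hcs,
    (nat_lit 1772), (nat_lit 9), (nat_lit 2048), (nat_lit 256), (nat_lit 524288), (nat_lit 131071), (nat_lit 8), (nat_lit 255), (nat_lit 26), (nat_lit 67108863), (nat_lit 7), (nat_lit 28),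
    fun _ _ => rfl, fun _ => rfl, fun _ _ => rfl, by decide +kernel, eM2_all.1⟩


end CF.Held
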