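import Cfsg.Agent.Comp.Pres

set_option autoImplicit false
set_option maxRecDepth 1000000
set_option maxHeartbeats 0
set_option Elab.async false

namespace CF.Held

open CF.Comp

/-- relators of the complement -/
noncomputable def RP1 : List (List Nat) := [[(nat_lit 15), (nat_lit 15)],
  [(nat_lit 13), (nat_lit 13), (nat_lit 13), (nat_lit 13), (nat_lit 13), (nat_lit 13), (nat_lit 13)],
  [(nat_lit 15), (nat_lit 13), (nat_lit 15), (nat_lit 13), (nat_lit 15), (nat_lit 13)],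
  [(nat_lit 15), (nat_lit 13), (nat_lit 15), (nat_lit 14), (nat_lit 15), (nat_lit 13), (nat_lit 15), (nat_lit 14), (nat_lit 15), (nat_lit 13), (nat_lit 15), (nat_lit 14), (nat_lit 15), (nat_lit 13), (nat_lit 15), (nat_lit 14)]]

/-- relators of the extraspecial group -/
noncomputable def RP2 : List (List Nat) := [[(nat_lit 1), (nat_lit 1)],
  [(nat_lit 3), (nat_lit 3)],
  [(nat_lit 5), (nat_lit 5)],
  [(nat_lit 7), (nat_lit 7)],
  [(nat_lit 9), (nat_lit 9)],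
  [(nat_lit 11), (nat_lit 11)],
  [(nat_lit 1), (nat_lit 3), (nat_lit 1), (nat_lit 3)],
  [(nat_lit 1), (nat_lit 5), (nat_lit 1), (nat_lit 5)],
  [(nat_lit 1), (nat_lit 9), (nat_lit 1), (nat_lit 9)],
  [(nat_lit 1), (nat_lit 11), (nat_lit 1), (nat_lit 11)],
  [(nat_lit 3), (nat_lit 5), (nat_lit 3), (nat_lit 5)],
  [(nat_lit 3), (nat_lit 7), (nat_lit 3), (nat_lit 7)],
  [(nat_lit 3), (nat_lit 11), (nat_lit 3), (nat_lit 11)],
  [(nat_lit 5), (nat_lit 7), (nat_lit 5), (nat_lit 7)],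
  [(nat_lit 5), (nat_lit 9), (nat_lit 5), (nat_lit 9)],
  [(nat_lit 7), (nat_lit 9), (nat_lit 7), (nat_lit 9)],
  [(nat_lit 7), (nat_lit 11), (nat_lit 7), (nat_lit 11)],
  [(nat_lit 9), (nat_lit 11), (nat_lit 9), (nat_lit 11)],
  [(nat_lit 1), (nat_lit 7), (nat_lit 1), (nat_lit 7), (nat_lit 1), (nat_lit 7), (nat_lit 1), (nat_lit 7)],
  [(nat_lit 1), (nat_lit 7), (nat_lit 1), (nat_lit 7), (nat_lit 3), (nat_lit 9), (nat_lit 3), (nat_lit 9)],
  [(nat_lit 1), (nat_lit 7), (nat_lit 1), (nat_lit 7), (nat_lit 5), (nat_lit 11), (nat_lit 5), (nat_lit 11)]]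

/-- relators for the action -/
noncomputable def RP3 : List (List Nat) := [[(nat_lit 13), (nat_lit 1), (nat_lit 14), (nat_lit 5)],
  [(nat_lit 13), (nat_lit 3), (nat_lit 14), (nat_lit 3), (nat_lit 5)],
  [(nat_lit 13), (nat_lit 5), (nat_lit 14), (nat_lit 1), (nat_lit 3), (nat_lit 5)],
  [(nat_lit 13), (nat_lit 7), (nat_lit 14), (nat_lit 9), (nat_lit 11)],
  [(nat_lit 13), (nat_lit 9), (nat_lit 14), (nat_lit 7), (nat_lit 9)],
  [(nat_lit 13), (nat_lit 11), (nat_lit 14), (nat_lit 7)],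
  [(nat_lit 15), (nat_lit 1), (nat_lit 15), (nat_lit 1), (nat_lit 3)],
  [(nat_lit 15), (nat_lit 3), (nat_lit 15), (nat_lit 3)],
  [(nat_lit 15), (nat_lit 5), (nat_lit 15), (nat_lit 5)],
  [(nat_lit 15), (nat_lit 7), (nat_lit 15), (nat_lit 7)],
  [(nat_lit 15), (nat_lit 9), (nat_lit 15), (nat_lit 7), (nat_lit 9)],
  [(nat_lit 15), (nat_lit 11), (nat_lit 15), (nat_lit 11)]]

/-- all relators -/
noncomputable def RP : List (List Nat) := lapp RP1 (lapp RP2 RP3)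

/-- generators of the complement -/
noncomputable def GP : List (List Nat) := [[(nat_lit 13)],
  [(nat_lit 15)]]

noncomputable def eP1_c0 : BT (Bx Nat) := (BT.leaf (Bx.mk (nat_lit 0x0)))
noncomputable def eP1_c1 : BT (Bx Nat) := (BT.leaf (Bx.mk (nat_lit 0x45a389a435a5d59595a265996998d585e1a8959d65864ba7398b8b8fd574e1a695947575758c65a0599fd56e9b7a55a1d569d56899778b80d564d563297d85708b93d560758389879b7bd55de19e7590d55a99658b9ad557e19cd556d555ad6b8591e19bd552857299769b5bd54fe197e196d54dd54c9988856fd549e192d548d547e18e8581e18dd544e18ae189d5429554cb61e184d53fe182d53ed53de17fe17ee17cd53ae179e178d538a53ccb53e173d535e171d534d533e16de16ce16ad530e167e166d52eb962cb45d52ce15fe15ee15cd528e159e158d526a52acb3bd524e151e150e14ed520e14be14ad51eb946cb31d51ce143d51ae141e140d519a522cb29d517e139d515e137e136d514b932cb21d512e12fd510e12de12bd50ee127d50ce125e123d50ae11fd508e11de11bd507d506e118e116cb0fd504e113e111d503e10de10be109d501e105e1020000)))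
noncomputable def eP1_c2 : BT (Bx Nat) := (BT.leaf (Bx.mk (nat_lit 0xd4a0349dd4994ca674a75aa8aaa46c917a954494d482aa9fd47cd477747e7aa354a2d471d470e1a5aa987488d46a9a788c81749bd467d4658c96249cd463d462846d74857c9ee1a1d45e8a86d45c9a66748dd459d458148ad45784848492d455d454848e84748c97e19ad4509a75d44e9a899c6ce193d44bd44a9479d449e190e18fd447d446847fe18ce18ba444b45fe187d441d440e183d43f8473e180d43dd43ce17de17be17aaa60b451e176d437d436e172d435e16fe16ed433d432e16be169e168a430b443e164d42de161d42bd42ae15de15be15aba52b439e156d425e153d423d422e14fe14de14ca420b42fe148d41de145d41be142d41aba3ab427e13ed418e13bd416e138d415ba28b41fe134d413e131d411e12ed410e12ce129d40de126d40ce124e121d409e11ed408e11cb40be119d406e117d405e114d404e112e10fe10ed402e10ae107d401e1030000)))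
noncomputable def eP1_c3 : BT (Bx Nat) := (BT.leaf (Bx.mk (nat_lit 0xc7a1d69cc79ac896d692d690d68fb6a8d684d6826893d680e1a76697b6a6d673d671789bb6a5d66fd66e569ee1a4d669e1a3e1a29678b78b267ea68dc764ae6dd6619f83d65fd65ee1a08687e19fd65be19d9666388cc858b77a866ca67cc756ae8ed653af72d651d650e1999676e198d64de195e1949689977bc84ab768e191a66ac748ae7fd645b68ad643d642e188d641e186e185c840b75ae181a65cc73eb67dd63bb679d639d638e177d637e175e174c836b74ce170a64ec734b66bd631b667d62fd62ee165d62de163e162e160b65dd629b659d627d626e157d625e155e154e152b64fd621b64bd61fd61ee149d61de147e146e144c81bb724d619e13fd618e13de13ce13aa62bc717d614e135d613e133e132e130c811b62cd60fe12ae128b623c70ed60be122e120c809b61cd607e11ab616c70ad605e115b60db612d603e110d602e10cd601e108e106e1040000)))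
noncomputable def eP1_p : BT (Bx Nat) := (BT.leaf (Bx.mk (nat_lit 0x2a801a9c0e66419950a64839900e63c39850a61039820e60819800e5f01977061d028730e1c43871061c0186f0e1b8386e0a1a818690e1a428680a19c18650619028630a18c18620618438600a17c385e0e178185d0a170185b0e16828590616018570a15c18560a15428550615018530e14828510dd40375005d3c274e05d34374d09d30274b05d28174909d24174809d1c274705d1817450dd1027430dd08374209d04374105d00173f09cfc173e09cf4273d05cf0173b0dce827390dce0373809cdc3737058d81635098d41634098cc2633058c816310d8c0262f0d8b8362e098b4362d058b0262b058a816290d8a026270d89836260989436250589026230548815210d480251f0d478351e09474351d05470251b05468251a0546435190946035180545c25160545425150505034140904c34130504824110504024100503c340e09034140c09030140b0cc28230904c20230804c1c330708c18230604c1433050481022040480c3203088083202044043101084041000000000)))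
noncomputable def eP1_e : BT Nat := BT.leaf (nat_lit 0)
noncomputable def eP1_cols : List (BT (Bx Nat)) := [eP1_c0, eP1_c1, eP1_c2, eP1_c3]
noncomputable def eP1_ch (x j : Nat) : Bx Nat := chunkG eP1_cols (nat_lit 1) x j
noncomputable def eP1_L (x : Nat) : Bx (Nat → Nat) := lookG eP1_ch (nat_lit 8) (nat_lit 255) (nat_lit 16) (nat_lit 65535) x
noncomputable def eP1_pc (_ j : Nat) : Bx Nat := eP1_p.get j
noncomputable def eP1_pb : Bx (Nat → Nat) := lookG eP1_pc (nat_lit 8) (nat_lit 255) (nat_lit 18) (nat_lit 262143) (nat_lit 0)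
noncomputable def eP1_rots : BT CW := (BT.node (nat_lit 7) (BT.node (nat_lit 3) (BT.node (nat_lit 1) (BT.leaf ⟨[], (nat_lit 1000000), (nat_lit 0), (nat_lit 0), (nat_lit 0)⟩) (BT.node (nat_lit 2) (BT.leaf ⟨[], (nat_lit 1000000), (nat_lit 0), (nat_lit 0), (nat_lit 1)⟩) (BT.leaf ⟨[], (nat_lit 1000000), (nat_lit 0), (nat_lit 0), (nat_lit 2)⟩))) (BT.node (nat_lit 5) (BT.node (nat_lit 4) (BT.leaf ⟨[(nat_lit 2), (nat_lit 1)], (nat_lit 5), (nat_lit 1), (nat_lit 0), (nat_lit 3)⟩) (BT.leaf ⟨[(nat_lit 1), (nat_lit 2)], (nat_lit 5), (nat_lit 0), (nat_lit 0), (nat_lit 3)⟩)) (BT.node (nat_lit 6) (BT.leaf ⟨[(nat_lit 3), (nat_lit 3)], (nat_lit 0), (nat_lit 0), (nat_lit 0), (nat_lit 3)⟩) (BT.leaf ⟨[(nat_lit 3), (nat_lit 1), (nat_lit 3), (nat_lit 1), (nat_lit 3), (nat_lit 1)], (nat_lit 2), (nat_lit 0), (nat_lit 0), (nat_lit 3)⟩)))) (BT.node (nat_lit 11) (BT.node (nat_lit 9) (BT.node (nat_lit 8) (BT.leaf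 ⟨[(nat_lit 3), (nat_lit 2), (nat_lit 3), (nat_lit 2), (nat_lit 3), (nat_lit 2)], (nat_lit 14), (nat_lit 1), (nat_lit 0), (nat_lit 3)⟩) (BT.leaf ⟨[(nat_lit 1), (nat_lit 3), (nat_lit 1), (nat_lit 3), (nat_lit 1), (nat_lit 3)], (nat_lit 2), (nat_lit 1), (nat_lit 0), (nat_lit 3)⟩)) (BT.node (nat_lit 10) (BT.leaf ⟨[(nat_lit 2), (nat_lit 3), (nat_lit 2), (nat_lit 3), (nat_lit 2), (nat_lit 3)], (nat_lit 14), (nat_lit 0), (nat_lit 0), (nat_lit 3)⟩) (BT.leaf ⟨[(nat_lit 1), (nat_lit 1), (nat_lit 1), (nat_lit 1), (nat_lit 1), (nat_lit 1), (nat_lit 1)], (nat_lit 1), (nat_lit 0), (nat_lit 0), (nat_lit 3)⟩))) (BT.node (nat_lit 13) (BT.node (nat_lit 12) (BT.leaf ⟨[(nat_lit 2), (nat_lit 2), (nat_lit 2), (nat_lit 2), (nat_lit 2), (nat_lit 2), (nat_lit 2)], (nat_lit 13), (nat_lit 0), (nat_lit 0), (nat_lit 3)⟩) (BT.leaf ⟨[(nat_lit 1), (nat_lit 3), (nat_lit 2), (nat_lit 3), (nat_lit 1), (nat_lit 3),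 (nat_lit 2), (nat_lit 3), (nat_lit 1), (nat_lit 3), (nat_lit 2), (nat_lit 3), (nat_lit 1), (nat_lit 3), (nat_lit 2), (nat_lit 3)], (nat_lit 3), (nat_lit 1), (nat_lit 0), (nat_lit 3)⟩)) (BT.node (nat_lit 14) (BT.leaf ⟨[(nat_lit 3), (nat_lit 2), (nat_lit 3), (nat_lit 1), (nat_lit 3), (nat_lit 2), (nat_lit 3), (nat_lit 1), (nat_lit 3), (nat_lit 2), (nat_lit 3), (nat_lit 1), (nat_lit 3), (nat_lit 2), (nat_lit 3), (nat_lit 1)], (nat_lit 3), (nat_lit 2), (nat_lit 0), (nat_lit 3)⟩) (BT.leaf ⟨[(nat_lit 3), (nat_lit 1), (nat_lit 3), (nat_lit 2), (nat_lit 3), (nat_lit 1), (nat_lit 3), (nat_lit 2), (nat_lit 3), (nat_lit 1), (nat_lit 3), (nat_lit 2), (nat_lit 3), (nat_lit 1), (nat_lit 3), (nat_lit 2)], (nat_lit 3), (nat_lit 0), (nat_lit 0), (nat_lit 3)⟩)))))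
noncomputable def eP1_hcs : List CW := []
noncomputable def eP1_H (x j : Nat) : Bx (Nat → Nat → Nat) := mkH eP1_L eP1_pb.1 eP1_e.get (lmap CW.w eP1_hcs) (nat_lit 168) (nat_lit 169) (nat_lit 4) (nat_lit 256) (nat_lit 4096) (nat_lit 16383) x (eP1_rots.get j)
noncomputable def eP1_F (x b : Nat) : Bool := blkOK eP1_H eP1_ch (nat_lit 169) (nat_lit 256) (nat_lit 16) (nat_lit 8) (nat_lit 255) (nat_lit 16) (nat_lit 65535) x b

theorem eP1_k0_0 : allFrom (eP1_F (nat_lit 0)) (nat_lit 0) (nat_lit 4) = true := by decide +kernel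
theorem eP1_k1_0 : allFrom (eP1_F (nat_lit 1)) (nat_lit 0) (nat_lit 4) = true := by decide +kernel
theorem eP1_k2_0 : allFrom (eP1_F (nat_lit 2)) (nat_lit 0) (nat_lit 4) = true := by decide +kernel
theorem eP1_k3_0 : allFrom (eP1_F (nat_lit 3)) (nat_lit 0) (nat_lit 4) = true := by decide +kernel

noncomputable def eP2_c0 : BT (Bx Nat) := (BT.leaf (Bx.mk (nat_lit 0x0)))
noncomputable def eP2_c1 : BT (Bx Nat) := (BT.leaf (Bx.mk (nat_lit 0xa905359066584764215d604657046ff0440a8f6428467ea13f60f7e80459f043688d6898f614846ce903278d7bea12dc844d51071f042a70446c844a80473321785047f68e7ca0479d043ad043190472e9024e8f23eb0433847dc843ec843cc844888e75f041fc8e51c843788426c8433a0480f041cc0457d04385842eea11bd106d68d3db8449d0f69c214bd0e5aa902b7a16ae9017e8f16e045e7102580e2ff817ae0477d0e5c6044cd0d5b70429d8e63f0411d8d50d0e56f81748843490d35d0d54e0470d8d62f040e7844160f4fe046ed841aa0447f816b7903bd8f18d841990f5568442e0460e045ff040ad8413d8412f8158d8410d840ff8152e044ee0e2ce0d27d0428e0445e0444f04057040de1021e0f20f8139e101ee0f1df813078f14e9007e8f06f8122e8e04e8d03e040ce040bf8115e0409e0408f0401f810200000)))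
noncomputable def eP2_c2 : BT (Bx Nat) := (BT.leaf (Bx.mk (nat_lit 0xa92604856359a6dc12646055cf0541605583055df053f29a67c854df053680559c1f55f0535c8548c8545f052fe2c575057e6125a6853d69a3beb343f0526205779853a9923eb857d5127ff0523b9234a0580e3231eb14a39a7969f7cf05205856c89f7469a7ad856ed852cb8573f051dd8524d8522c1a2df051b59a39e2c38d1276c852ab8528e055ef0518d1f71f0516b0529d1270a922be056971221f817b7111ff8178905657116bf05126056aa1f665054fd854ed851af8175f8172b0561f050fd8517d855fd8515f816f99211b8551e1f56a0544d4d4cb9146c124bf050bf816888513e1253f8162e1a5268542f815b68540e920cf8154e910af8150e1f37f0506f8149e1232f8147e1a307050991f25f813c9052ee9207f8133e910589204e051ef8127e051c79f14f0502e0510f8119e050e8050df0501f8108f810300000)))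
noncomputable def eP2_c3 : BT (Bx Nat) := (BT.leaf (Bx.mk (nat_lit 0xb0666594535866918667f064281d5471b52f063f1065da9464b864a91d5f91b62f0635c0655f063249b6c98633c9d38eb74340670d1b4471b286147ea143421d7db9480f0625a0677f062488674e9c26e363a88675eb44d19b78f0621d8627db545d8623d8622c864ef061ec93727867b5067f6867af061bc1b2d58630d2e57e065ed064769b3bc1d76b0629f0617dcc4ce9c18d065ac866be066df817c8061d7061cf8179f06135062bd86196064bd8660d8615c066ef061090631f817398668a146ff817199c366144f99d0f8860eb8650f060c59b3dd0616b93496866ae1d5be0661f8165f8163e1459e1b58f815ce940be930af815689c4179340f8151f0607e1d3ce0646f8148d9c2ae1b3981408f813ee9406e9305f81379062f91d2e78603f812ce0620e061ff060278614f811ae0612e0611f060181d0df8109f810400000)))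
noncomputable def eP2_c4 : BT (Bx Nat) := (BT.leaf (Bx.mk (nat_lit 0xb206559556e994fc076861e707076b607766a06ab1e4ba95616a07a8076f8075bc206ed9e4ed87375877c89e75b8773d0739c16427a07b60779d0730c967d98734f0725a8780e9926d872cd8727a0777d073ed0733f07223873bc87458a074e9621e9520c874de07555077fea657b8744e961ec874ab8746b8749e077ed0772d2058d203ca8778d1e52c1e50d871ad8719c2051d205cc1554f0715b876ce073de9914b8728da060eaa41c874c4165de9613da06de0735e20719202fea638a1667d9e5fe9610e950fd9e6988736f070de0729e20639871dd2012ea62dc533fe1e62e0764f8166e960ce950bf815ee075ae0759f0709e0753a162bf0708ca618e2048e1e47c071be9607e9506f8143e0740e073ac872af0704e0732e0731f0703f812ee0724e0723f0702f811ff811ce0717e0716f0701f8111f810ef810af810500000)))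
noncomputable def eP2_c5 : BT (Bx Nat) := (BT.leaf (Bx.mk (nat_lit 0xf08505886e6ab5b508715184b7086d6084ca886338870a8860bb83c808586084f9b8569885c5987d42778a984d6187f7b87b3085dc08397392cf0827a083720832d882daa749da73ab3879d3930db83eb3977f0822d27333b96ca27726087ea3857f081f8b8759885a908739a721cb943a3938ca747ab848f81806d874ab945a086f6b87a4887cf0819a0865a0851c0852d881aa084ef0815c0854e083bf0814d883dba724d0861e2b40b0876ea842d0864cb86b98853a98688382e9881ee9810c885e2b967f080ec8862f080d78836e27666886a8881cd3811e0825e980cf8169d8813ea429b083ff080af815f90855f0809f8159a1835f08089182ba8817e3846f814aea807b4b1bf0805f8144f8141e4826f0804c882ae0834f0803f8131f812fe0828f0802f8123f8120f811de0818f0801f8116f8112f810ff810bf810600000)))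
noncomputable def eP2_c6 : BT (Bx Nat) := (BT.leaf (Bx.mk (nat_lit 0xa8952f094f58956f094c63a696096a64371ac96ba0962a895ff09378225183a6e8c35ba89545897af0930a894678974f092cc0940a09796ba7b5897cdc33ca9731d892e9894aca22ad3a39aa278b8933f0922b3a77d223e4973dca24380973f091f90957ca2489c9596497e88920b2272f091cb498078975ba247f817fbba44f091af817dc9727a4965d8919c0958b0950b436ff0915b094ec095cf0914e093bcc76cba223c895e4095dd0968ea941f0911c8963a892bf81768092dac31df090fc4961f090ea0967f8170d9729e22668a236f816db5038c0964d092ff090bc094bd8912e970df090ab093ff8160f090994955f815af0908a0935f8153b8916f814de4349ea906f0905c221bf8145f8142f0904e4726f813af0903f8134f8132e0925f0902f8128f8124f8121f811ef0901e0918f8117f8113f8110f810cf810700000)))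
noncomputable def eP2_c7 : BT (Bx Nat) := (BT.leaf (Bx.mk (nat_lit 0xba36248b75f0b4da418090b797417350b655447f48b6398b60bc44a70b5470b6f8c15848b7aa8b4738b6baa57288b4840b7ef0b2a78b5b50b4f50b6dd2d528c153a8b3130b78f0b247c1746c47bf0b22ac15f8c133d445e08b3a4ca7d8254648b3d7c441c415c4c46ccaf514c44058b6888b595c17cbc145bc170f0b1a50b71d0b43f0b1958b39c0b69d2d30c8b44c8b27f0b155d74c6d43c50b76bc164d0b26f0b13bc166f8177f0b12cc149f0b11a8b2360b568c45adad50f0b0f78b1f9c41c88b61ac12b98b1d50b2c78b348c410a8b32f816e8c120f0b0ba8b0eea52ef816af0b0af816778b36ea32fc0b3ef815d68b3b6c442f8157f815568b21b8b17f814ef814bf0b05dca16d8b0664437f0b04f813fcc428e410cf8138f8135d0b1e7c403f812df8129f812568b147c409f811bdc118e0b07e0b02e2d08f810df830100000)))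
noncomputable def eP2_c8 : BT (Bx Nat) := (BT.leaf (Bx.mk (nat_lit 0x98a7d48a794bb6d40a5c50a5260a62542729bb7c3d665f0a3e5bc4353b7f70a6368a7ba0a6f5d24eb0a507bc74f0a2c5bb6940a5743b70f0a27cd24a63c54f0a25b0a3f5bc7ab0a4253c78b0a8093b33a3b77a0a60c8a5ef0a21b8a588556b80a3893c5380a73f0a1e6d639f0a1d7bc7580a67c8a68c0a56d0a375bb6af0a1af817e50a45f0a19b0a76c0a3c9426eb3c7178a5bb0a51d3b48dd14d60a1f70a5940a55f0a13cbc2253b5a60a4473b2013b5d63b4bf0a1058a1583c24f0a0f83b2f80a5fb3b2db3b66c8a49e0a23e0a28f0a0c5bb30a0a32f816cf0a0bc0a12d3b47dbc41f0a0af8164b3c3af816173b1c80a2b83c35dbc0ea3c3190a34f0a07f814ff814cd0a06c3c1bd0a17f814673b09f8140f813df813b80a2ef8136b3b29f0a02d8a11f812af812670a08d8a03ebc05e4216f8118f811470a0debb04f0a0100000)))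
noncomputable def eP2_c9 : BT (Bx Nat) := (BT.leaf (Bx.mk (nat_lit 0xa408048c635be6db8c6860c5c53d7463e7aa0c7398c72ac061d407680c6f48c7babe79a3f78d3e71dc0458bd755bd6a50c7e6405aa3e5b50c6ed3f43c407d98c349be6694065b8c265407f98c54a0c77d3e60d3d33c405e38c556be7c98c6b58c6c5c041bc05858c3bc8c2c4405da3f62c8c24abf52bbe46bbd495be39b4f4bdc04dcbe3ca8c4eb3e4ab0c50dbe48dbd19b0c51d0c70a0c27c8c697402150c5973e1fb3f35dbe3e53f20c0c4c63e57dc03a50c4fbce28dbe3793e2fa8c3fa4067c8c5fdc032d8c0fd8c1588c369402ea0c29d3e56f0c0bd3e12abe2db0c38ac044c40648be25d40539bf1dcc02268c4248c3d68c40dc00c90c23dbf0ab8c18e3e1ad0c47c461be4017d8c06e453070c09e4013c8c2ae3f11e4010e4631e3f0e8400dd0c1ef812bd0c1c7be14d8c02ec007e4616ebf05ebe04ebd03e4508f830100000)))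
noncomputable def eP2_p : BT (Bx Nat) := (BT.leaf (Bx.mk (nat_lit 0x1140589e344d22260d10838821440061f870fc287c3c371a1b050d8186a1c350a19070c0685e142c1e160d0a888540c271e138b098284a3c2512128709088481c230a111108868442c2212108f0843840141f1a0f8b07c183c3c1e0e0e8f0742838341c058d86c6c2634431a1d8d0cc6486323b19158c04c5c362c1315218a8cc54562a2314198a0ac4c86263b130d8910c4826224311198882c4076201b0f21878ec3c661e130e19870ac38161a2b0d11860ec3036164b0b21858ec2c6616130a21850ec2866142b0a05848cc245612230819840ac20440e3a070d0304814840a32051502828108408320415020880c64062a0311010e80864042a0211010680822023101148088404320211010400000000)))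
noncomputable def eP2_e0 : BT Nat := (BT.node (nat_lit 73) (BT.leaf (nat_lit 2)) (BT.leaf (nat_lit 262146)))
noncomputable def eP2_e : BT Nat := eP2_e0
noncomputable def eP2_cols : List (BT (Bx Nat)) := [eP2_c0, eP2_c1, eP2_c2, eP2_c3, eP2_c4, eP2_c5, eP2_c6, eP2_c7, eP2_c8, eP2_c9]
noncomputable def eP2_ch (x j : Nat) : Bx Nat := chunkG eP2_cols (nat_lit 1) x j
noncomputable def eP2_L (x : Nat) : Bx (Nat → Nat) := lookG eP2_ch (nat_lit 8) (nat_lit 255) (nat_lit 20) (nat_lit 1048575) x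
noncomputable def eP2_pc (_ j : Nat) : Bx Nat := eP2_p.get j
noncomputable def eP2_pb : Bx (Nat → Nat) := lookG eP2_pc (nat_lit 8) (nat_lit 255) (nat_lit 17) (nat_lit 131071) (nat_lit 0)
noncomputable def eP2_rots : BT CW := (BT.node (nat_lit 44) (BT.node (nat_lit 22) (BT.node (nat_lit 11) (BT.node (nat_lit 5) (BT.node (nat_lit 2) (BT.node (nat_lit 1) (BT.leaf ⟨[], (nat_lit 1000000), (nat_lit 0), (nat_lit 0), (nat_lit 0)⟩) (BT.leaf ⟨[], (nat_lit 1000000), (nat_lit 0), (nat_lit 0), (nat_lit 1)⟩)) (BT.node (nat_lit 3) (BT.leaf ⟨[], (nat_lit 1000000), (nat_lit 0), (nat_lit 0), (nat_lit 2)⟩) (BT.node (nat_lit 4) (BT.leaf ⟨[(nat_lit 1), (nat_lit 1)], (nat_lit 4), (nat_lit 0), (nat_lit 0), (nat_lit 3)⟩) (BT.leaf ⟨[(nat_lit 2), (nat_lit 2)], (nat_lit 5), (nat_lit 0), (nat_lit 0), (nat_lit 3)⟩)))) (BT.node (nat_lit 8) (BT.node (nat_lit 6) (BT.leaf ⟨[(nat_lit 3), (nat_lit 3)], (nat_lit 6),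 (nat_lit 0), (nat_lit 0), (nat_lit 3)⟩) (BT.node (nat_lit 7) (BT.leaf ⟨[(nat_lit 4), (nat_lit 4)], (nat_lit 7), (nat_lit 0), (nat_lit 0), (nat_lit 3)⟩) (BT.leaf ⟨[(nat_lit 5), (nat_lit 5)], (nat_lit 8), (nat_lit 0), (nat_lit 0), (nat_lit 3)⟩))) (BT.node (nat_lit 9) (BT.leaf ⟨[(nat_lit 6), (nat_lit 6)], (nat_lit 9), (nat_lit 0), (nat_lit 0), (nat_lit 3)⟩) (BT.node (nat_lit 10) (BT.leaf ⟨[(nat_lit 8), (nat_lit 7)], (nat_lit 38), (nat_lit 1), (nat_lit 0), (nat_lit 3)⟩) (BT.leaf ⟨[(nat_lit 7), (nat_lit 8)], (nat_lit 38), (nat_lit 0), (nat_lit 0), (nat_lit 3)⟩))))) (BT.node (nat_lit 16) (BT.node (nat_lit 13) (BT.node (nat_lit 12) (BT.leaf ⟨[(nat_lit 9), (nat_lit 9)], (nat_lit 0), (nat_lit 0), (nat_lit 0), (nat_lit 3)⟩) (BT.leaf ⟨[(nat_lit 1), (nat_lit 2), (nat_lit 1), (nat_lit 2)], (nat_lit 10), (nat_lit 0), (nat_lit 0), (nat_lit 3)⟩)) (BT.node (nat_lit 14) (BT.leaf ⟨[(nat_lit 1), (nat_lit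 3), (nat_lit 1), (nat_lit 3)], (nat_lit 11), (nat_lit 0), (nat_lit 0), (nat_lit 3)⟩) (BT.node (nat_lit 15) (BT.leaf ⟨[(nat_lit 1), (nat_lit 5), (nat_lit 1), (nat_lit 5)], (nat_lit 12), (nat_lit 0), (nat_lit 0), (nat_lit 3)⟩) (BT.leaf ⟨[(nat_lit 1), (nat_lit 6), (nat_lit 1), (nat_lit 6)], (nat_lit 13), (nat_lit 0), (nat_lit 0), (nat_lit 3)⟩)))) (BT.node (nat_lit 19) (BT.node (nat_lit 17) (BT.leaf ⟨[(nat_lit 2), (nat_lit 4), (nat_lit 2), (nat_lit 4)], (nat_lit 15), (nat_lit 0), (nat_lit 0), (nat_lit 3)⟩) (BT.node (nat_lit 18) (BT.leaf ⟨[(nat_lit 2), (nat_lit 6), (nat_lit 2), (nat_lit 6)], (nat_lit 16), (nat_lit 0), (nat_lit 0), (nat_lit 3)⟩) (BT.leaf ⟨[(nat_lit 3), (nat_lit 4), (nat_lit 3), (nat_lit 4)], (nat_lit 17), (nat_lit 0), (nat_lit 0), (nat_lit 3)⟩))) (BT.node (nat_lit 20) (BT.leaf ⟨[(nat_lit 3), (nat_lit 5), (nat_lit 3), (nat_lit 5)], (nat_lit 18), (nat_lit 0), (nat_lit 0),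 (nat_lit 3)⟩) (BT.node (nat_lit 21) (BT.leaf ⟨[(nat_lit 4), (nat_lit 5), (nat_lit 4), (nat_lit 5)], (nat_lit 19), (nat_lit 0), (nat_lit 0), (nat_lit 3)⟩) (BT.leaf ⟨[(nat_lit 4), (nat_lit 6), (nat_lit 4), (nat_lit 6)], (nat_lit 20), (nat_lit 0), (nat_lit 0), (nat_lit 3)⟩)))))) (BT.node (nat_lit 33) (BT.node (nat_lit 27) (BT.node (nat_lit 24) (BT.node (nat_lit 23) (BT.leaf ⟨[(nat_lit 6), (nat_lit 8), (nat_lit 4), (nat_lit 7)], (nat_lit 30), (nat_lit 1), (nat_lit 0), (nat_lit 3)⟩) (BT.leaf ⟨[(nat_lit 5), (nat_lit 6), (nat_lit 5), (nat_lit 6)], (nat_lit 21), (nat_lit 0), (nat_lit 0), (nat_lit 3)⟩)) (BT.node (nat_lit 25) (BT.leaf ⟨[(nat_lit 4), (nat_lit 7), (nat_lit 6), (nat_lit 8)], (nat_lit 30), (nat_lit 3), (nat_lit 0), (nat_lit 3)⟩) (BT.node (nat_lit 26) (BT.leaf ⟨[(nat_lit 2), (nat_lit 1), (nat_lit 2), (nat_lit 1)], (nat_lit 10), (nat_lit 1), (nat_lit 0), (nat_lit 3)⟩) (BT.leaf ⟨[(nat_lit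 3), (nat_lit 1), (nat_lit 3), (nat_lit 1)], (nat_lit 11), (nat_lit 1), (nat_lit 0), (nat_lit 3)⟩)))) (BT.node (nat_lit 30) (BT.node (nat_lit 28) (BT.leaf ⟨[(nat_lit 3), (nat_lit 7), (nat_lit 1), (nat_lit 8)], (nat_lit 25), (nat_lit 3), (nat_lit 0), (nat_lit 3)⟩) (BT.node (nat_lit 29) (BT.leaf ⟨[(nat_lit 3), (nat_lit 2), (nat_lit 3), (nat_lit 2)], (nat_lit 14), (nat_lit 1), (nat_lit 0), (nat_lit 3)⟩) (BT.leaf ⟨[(nat_lit 4), (nat_lit 2), (nat_lit 4), (nat_lit 2)], (nat_lit 15), (nat_lit 1), (nat_lit 0), (nat_lit 3)⟩))) (BT.node (nat_lit 31) (BT.leaf ⟨[(nat_lit 2), (nat_lit 3), (nat_lit 2), (nat_lit 3)], (nat_lit 14), (nat_lit 0), (nat_lit 0), (nat_lit 3)⟩) (BT.node (nat_lit 32) (BT.leaf ⟨[(nat_lit 4), (nat_lit 3), (nat_lit 4), (nat_lit 3)], (nat_lit 17), (nat_lit 1), (nat_lit 0), (nat_lit 3)⟩) (BT.leaf ⟨[(nat_lit 1), (nat_lit 8), (nat_lit 3), (nat_lit 7)], (nat_lit 25), (nat_lit 1),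 (nat_lit 0), (nat_lit 3)⟩))))) (BT.node (nat_lit 38) (BT.node (nat_lit 35) (BT.node (nat_lit 34) (BT.leaf ⟨[(nat_lit 6), (nat_lit 4), (nat_lit 6), (nat_lit 4)], (nat_lit 20), (nat_lit 1), (nat_lit 0), (nat_lit 3)⟩) (BT.leaf ⟨[(nat_lit 7), (nat_lit 5), (nat_lit 8), (nat_lit 4), (nat_lit 5)], (nat_lit 29), (nat_lit 0), (nat_lit 0), (nat_lit 3)⟩)) (BT.node (nat_lit 36) (BT.leaf ⟨[(nat_lit 5), (nat_lit 8), (nat_lit 5), (nat_lit 4), (nat_lit 7)], (nat_lit 74), (nat_lit 3), (nat_lit 0), (nat_lit 3)⟩) (BT.node (nat_lit 37) (BT.leaf ⟨[(nat_lit 7), (nat_lit 4), (nat_lit 8), (nat_lit 5), (nat_lit 6)], (nat_lit 28), (nat_lit 0), (nat_lit 0), (nat_lit 3)⟩) (BT.leaf ⟨[(nat_lit 4), (nat_lit 8), (nat_lit 6), (nat_lit 5), (nat_lit 7)], (nat_lit 73), (nat_lit 3), (nat_lit 0), (nat_lit 3)⟩)))) (BT.node (nat_lit 41) (BT.node (nat_lit 39) (BT.leaf ⟨[(nat_lit 5), (nat_lit 4), (nat_lit 5), (nat_lit 4)],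 (nat_lit 19), (nat_lit 1), (nat_lit 0), (nat_lit 3)⟩) (BT.node (nat_lit 40) (BT.leaf ⟨[(nat_lit 5), (nat_lit 6), (nat_lit 7), (nat_lit 4), (nat_lit 8)], (nat_lit 28), (nat_lit 3), (nat_lit 0), (nat_lit 3)⟩) (BT.leaf ⟨[(nat_lit 6), (nat_lit 5), (nat_lit 7), (nat_lit 4), (nat_lit 8)], (nat_lit 73), (nat_lit 0), (nat_lit 0), (nat_lit 3)⟩))) (BT.node (nat_lit 42) (BT.leaf ⟨[(nat_lit 4), (nat_lit 5), (nat_lit 7), (nat_lit 5), (nat_lit 8)], (nat_lit 29), (nat_lit 3), (nat_lit 0), (nat_lit 3)⟩) (BT.node (nat_lit 43) (BT.leaf ⟨[(nat_lit 5), (nat_lit 4), (nat_lit 7), (nat_lit 5), (nat_lit 8)], (nat_lit 74), (nat_lit 0), (nat_lit 0), (nat_lit 3)⟩) (BT.leaf ⟨[(nat_lit 2), (nat_lit 8), (nat_lit 2), (nat_lit 3), (nat_lit 7)], (nat_lit 26), (nat_lit 1), (nat_lit 0), (nat_lit 3)⟩))))))) (BT.node (nat_lit 66) (BT.node (nat_lit 55) (BT.node (nat_lit 49) (BT.node (nat_lit 46) (BT.node (nat_lit 45)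 (BT.leaf ⟨[(nat_lit 7), (nat_lit 2), (nat_lit 8), (nat_lit 3), (nat_lit 2)], (nat_lit 71), (nat_lit 2), (nat_lit 0), (nat_lit 3)⟩) (BT.leaf ⟨[(nat_lit 3), (nat_lit 8), (nat_lit 1), (nat_lit 2), (nat_lit 3), (nat_lit 7)], (nat_lit 27), (nat_lit 1), (nat_lit 0), (nat_lit 3)⟩)) (BT.node (nat_lit 47) (BT.leaf ⟨[(nat_lit 7), (nat_lit 3), (nat_lit 8), (nat_lit 3), (nat_lit 2), (nat_lit 1)], (nat_lit 72), (nat_lit 3), (nat_lit 0), (nat_lit 3)⟩) (BT.node (nat_lit 48) (BT.leaf ⟨[(nat_lit 1), (nat_lit 4), (nat_lit 1), (nat_lit 4), (nat_lit 1), (nat_lit 4), (nat_lit 1), (nat_lit 4)], (nat_lit 22), (nat_lit 0), (nat_lit 0), (nat_lit 3)⟩) (BT.leaf ⟨[(nat_lit 2), (nat_lit 5), (nat_lit 2), (nat_lit 5), (nat_lit 1), (nat_lit 4), (nat_lit 1), (nat_lit 4)], (nat_lit 23), (nat_lit 4), (nat_lit 0), (nat_lit 3)⟩)))) (BT.node (nat_lit 52) (BT.node (nat_lit 50) (BT.leaf ⟨[(nat_lit 2), (nat_lit 5), (nat_lit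 2), (nat_lit 4), (nat_lit 1), (nat_lit 4), (nat_lit 1), (nat_lit 5)], (nat_lit 68), (nat_lit 1), (nat_lit 0), (nat_lit 3)⟩) (BT.node (nat_lit 51) (BT.leaf ⟨[(nat_lit 2), (nat_lit 4), (nat_lit 1), (nat_lit 4), (nat_lit 1), (nat_lit 5), (nat_lit 2), (nat_lit 5)], (nat_lit 68), (nat_lit 3), (nat_lit 0), (nat_lit 3)⟩) (BT.leaf ⟨[(nat_lit 3), (nat_lit 6), (nat_lit 3), (nat_lit 6), (nat_lit 1), (nat_lit 4), (nat_lit 1), (nat_lit 4)], (nat_lit 24), (nat_lit 4), (nat_lit 0), (nat_lit 3)⟩))) (BT.node (nat_lit 53) (BT.leaf ⟨[(nat_lit 3), (nat_lit 6), (nat_lit 1), (nat_lit 4), (nat_lit 1), (nat_lit 4), (nat_lit 3), (nat_lit 6)], (nat_lit 24), (nat_lit 6), (nat_lit 0), (nat_lit 3)⟩) (BT.node (nat_lit 54) (BT.leaf ⟨[(nat_lit 3), (nat_lit 6), (nat_lit 3), (nat_lit 4), (nat_lit 1), (nat_lit 4), (nat_lit 1), (nat_lit 6)], (nat_lit 69), (nat_lit 1), (nat_lit 0), (nat_lit 3)⟩) (BT.leaf ⟨[(nat_lit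 3), (nat_lit 4), (nat_lit 1), (nat_lit 4), (nat_lit 1), (nat_lit 6), (nat_lit 3), (nat_lit 6)], (nat_lit 69), (nat_lit 3), (nat_lit 0), (nat_lit 3)⟩))))) (BT.node (nat_lit 60) (BT.node (nat_lit 57) (BT.node (nat_lit 56) (BT.leaf ⟨[(nat_lit 5), (nat_lit 3), (nat_lit 5), (nat_lit 3)], (nat_lit 18), (nat_lit 1), (nat_lit 0), (nat_lit 3)⟩) (BT.leaf ⟨[(nat_lit 5), (nat_lit 1), (nat_lit 5), (nat_lit 1)], (nat_lit 12), (nat_lit 1), (nat_lit 0), (nat_lit 3)⟩)) (BT.node (nat_lit 58) (BT.leaf ⟨[(nat_lit 6), (nat_lit 1), (nat_lit 6), (nat_lit 1)], (nat_lit 13), (nat_lit 1), (nat_lit 0), (nat_lit 3)⟩) (BT.node (nat_lit 59) (BT.leaf ⟨[(nat_lit 8), (nat_lit 3), (nat_lit 7), (nat_lit 1)], (nat_lit 25), (nat_lit 2), (nat_lit 0), (nat_lit 3)⟩) (BT.leaf ⟨[(nat_lit 8), (nat_lit 4), (nat_lit 7), (nat_lit 6)], (nat_lit 30), (nat_lit 2), (nat_lit 0), (nat_lit 3)⟩)))) (BT.node (nat_lit 63) (BT.node (nat_lit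 61) (BT.leaf ⟨[(nat_lit 9), (nat_lit 2), (nat_lit 9), (nat_lit 2)], (nat_lit 32), (nat_lit 0), (nat_lit 0), (nat_lit 3)⟩) (BT.node (nat_lit 62) (BT.leaf ⟨[(nat_lit 9), (nat_lit 3), (nat_lit 9), (nat_lit 3)], (nat_lit 33), (nat_lit 0), (nat_lit 0), (nat_lit 3)⟩) (BT.leaf ⟨[(nat_lit 9), (nat_lit 4), (nat_lit 9), (nat_lit 4)], (nat_lit 34), (nat_lit 0), (nat_lit 0), (nat_lit 3)⟩))) (BT.node (nat_lit 64) (BT.leaf ⟨[(nat_lit 9), (nat_lit 6), (nat_lit 9), (nat_lit 6)], (nat_lit 36), (nat_lit 0), (nat_lit 0), (nat_lit 3)⟩) (BT.node (nat_lit 65) (BT.leaf ⟨[(nat_lit 7), (nat_lit 6), (nat_lit 8), (nat_lit 4)], (nat_lit 30), (nat_lit 0), (nat_lit 0), (nat_lit 3)⟩) (BT.leaf ⟨[(nat_lit 8), (nat_lit 4), (nat_lit 5), (nat_lit 7), (nat_lit 5)], (nat_lit 29), (nat_lit 2), (nat_lit 0), (nat_lit 3)⟩)))))) (BT.node (nat_lit 77) (BT.node (nat_lit 71) (BT.node (nat_lit 68) (BT.node (nat_lit 67) (BT.leaf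 ⟨[(nat_lit 6), (nat_lit 2), (nat_lit 6), (nat_lit 2)], (nat_lit 16), (nat_lit 1), (nat_lit 0), (nat_lit 3)⟩) (BT.leaf ⟨[(nat_lit 7), (nat_lit 1), (nat_lit 8), (nat_lit 3)], (nat_lit 25), (nat_lit 0), (nat_lit 0), (nat_lit 3)⟩)) (BT.node (nat_lit 69) (BT.leaf ⟨[(nat_lit 9), (nat_lit 1), (nat_lit 2), (nat_lit 9), (nat_lit 1)], (nat_lit 31), (nat_lit 2), (nat_lit 0), (nat_lit 3)⟩) (BT.node (nat_lit 70) (BT.leaf ⟨[(nat_lit 9), (nat_lit 4), (nat_lit 5), (nat_lit 9), (nat_lit 5)], (nat_lit 35), (nat_lit 2), (nat_lit 0), (nat_lit 3)⟩) (BT.leaf ⟨[(nat_lit 6), (nat_lit 7), (nat_lit 4), (nat_lit 8), (nat_lit 5)], (nat_lit 28), (nat_lit 4), (nat_lit 0), (nat_lit 3)⟩)))) (BT.node (nat_lit 74) (BT.node (nat_lit 72) (BT.leaf ⟨[(nat_lit 5), (nat_lit 7), (nat_lit 4), (nat_lit 8), (nat_lit 6)], (nat_lit 73), (nat_lit 1), (nat_lit 0), (nat_lit 3)⟩) (BT.node (nat_lit 73) (BT.leaf ⟨[(nat_lit 6), (nat_lit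 5), (nat_lit 6), (nat_lit 5)], (nat_lit 21), (nat_lit 1), (nat_lit 0), (nat_lit 3)⟩) (BT.leaf ⟨[(nat_lit 7), (nat_lit 5), (nat_lit 8), (nat_lit 5), (nat_lit 4)], (nat_lit 74), (nat_lit 2), (nat_lit 0), (nat_lit 3)⟩))) (BT.node (nat_lit 75) (BT.leaf ⟨[(nat_lit 5), (nat_lit 9), (nat_lit 5), (nat_lit 4), (nat_lit 9)], (nat_lit 80), (nat_lit 3), (nat_lit 0), (nat_lit 3)⟩) (BT.node (nat_lit 76) (BT.leaf ⟨[(nat_lit 3), (nat_lit 7), (nat_lit 2), (nat_lit 8), (nat_lit 2)], (nat_lit 26), (nat_lit 4), (nat_lit 0), (nat_lit 3)⟩) (BT.leaf ⟨[(nat_lit 2), (nat_lit 7), (nat_lit 2), (nat_lit 8), (nat_lit 3)], (nat_lit 71), (nat_lit 1), (nat_lit 0), (nat_lit 3)⟩))))) (BT.node (nat_lit 82) (BT.node (nat_lit 79) (BT.node (nat_lit 78) (BT.leaf ⟨[(nat_lit 9), (nat_lit 1), (nat_lit 9), (nat_lit 1), (nat_lit 2)], (nat_lit 31), (nat_lit 0), (nat_lit 0), (nat_lit 3)⟩) (BT.leaf ⟨[(nat_lit 9), (nat_lit 2),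 (nat_lit 1), (nat_lit 9), (nat_lit 1)], (nat_lit 76), (nat_lit 4), (nat_lit 0), (nat_lit 3)⟩)) (BT.node (nat_lit 80) (BT.leaf ⟨[(nat_lit 6), (nat_lit 9), (nat_lit 6), (nat_lit 9)], (nat_lit 36), (nat_lit 1), (nat_lit 0), (nat_lit 3)⟩) (BT.node (nat_lit 81) (BT.leaf ⟨[(nat_lit 8), (nat_lit 6), (nat_lit 5), (nat_lit 7), (nat_lit 4)], (nat_lit 73), (nat_lit 4), (nat_lit 0), (nat_lit 3)⟩) (BT.leaf ⟨[(nat_lit 8), (nat_lit 5), (nat_lit 6), (nat_lit 7), (nat_lit 4)], (nat_lit 28), (nat_lit 2), (nat_lit 0), (nat_lit 3)⟩)))) (BT.node (nat_lit 85) (BT.node (nat_lit 83) (BT.leaf ⟨[(nat_lit 4), (nat_lit 8), (nat_lit 5), (nat_lit 6), (nat_lit 7)], (nat_lit 28), (nat_lit 1), (nat_lit 0), (nat_lit 3)⟩) (BT.node (nat_lit 84) (BT.leaf ⟨[(nat_lit 7), (nat_lit 2), (nat_lit 8), (nat_lit 2), (nat_lit 3)], (nat_lit 26), (nat_lit 0), (nat_lit 0), (nat_lit 3)⟩) (BT.leaf ⟨[(nat_lit 8), (nat_lit 3), (nat_lit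 2), (nat_lit 7), (nat_lit 2)], (nat_lit 71), (nat_lit 4), (nat_lit 0), (nat_lit 3)⟩))) (BT.node (nat_lit 86) (BT.leaf ⟨[(nat_lit 8), (nat_lit 5), (nat_lit 4), (nat_lit 7), (nat_lit 5)], (nat_lit 74), (nat_lit 4), (nat_lit 0), (nat_lit 3)⟩) (BT.node (nat_lit 87) (BT.leaf ⟨[(nat_lit 7), (nat_lit 4), (nat_lit 8), (nat_lit 6), (nat_lit 5)], (nat_lit 73), (nat_lit 2), (nat_lit 0), (nat_lit 3)⟩) (BT.leaf ⟨[(nat_lit 5), (nat_lit 7), (nat_lit 5), (nat_lit 8), (nat_lit 4)], (nat_lit 29), (nat_lit 4), (nat_lit 0), (nat_lit 3)⟩))))))))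
noncomputable def eP2_hcs : List CW := [⟨[(nat_lit 7)], (nat_lit 0), (nat_lit 0), (nat_lit 0), (nat_lit 0)⟩, ⟨[(nat_lit 9)], (nat_lit 1), (nat_lit 0), (nat_lit 0), (nat_lit 0)⟩, ⟨[(nat_lit 8)], (nat_lit 2), (nat_lit 0), (nat_lit 0), (nat_lit 0)⟩, ⟨[(nat_lit 9)], (nat_lit 3), (nat_lit 0), (nat_lit 0), (nat_lit 0)⟩]
noncomputable def eP2_H (x j : Nat) : Bx (Nat → Nat → Nat) := mkH eP2_L eP2_pb.1 eP2_e.get (lmap CW.w eP2_hcs) (nat_lit 128) (nat_lit 129) (nat_lit 10) (nat_lit 256) (nat_lit 32768) (nat_lit 16383) x (eP2_rots.get j)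
noncomputable def eP2_F (x b : Nat) : Bool := blkOK eP2_H eP2_ch (nat_lit 129) (nat_lit 256) (nat_lit 128) (nat_lit 8) (nat_lit 255) (nat_lit 20) (nat_lit 1048575) x b

theorem eP2_k0_0 : allFrom (eP2_F (nat_lit 0)) (nat_lit 0) (nat_lit 4) = true := by decide +kernel
theorem eP2_k1_0 : allFrom (eP2_F (nat_lit 1)) (nat_lit 0) (nat_lit 4) = true := by decide +kernel
theorem eP2_k2_0 : allFrom (eP2_F (nat_lit 2)) (nat_lit 0) (nat_lit 4) = true := by decide +kernel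
theorem eP2_k3_0 : allFrom (eP2_F (nat_lit 3)) (nat_lit 0) (nat_lit 4) = true := by decide +kernel
theorem eP2_k4_0 : allFrom (eP2_F (nat_lit 4)) (nat_lit 0) (nat_lit 4) = true := by decide +kernel
theorem eP2_k5_0 : allFrom (eP2_F (nat_lit 5)) (nat_lit 0) (nat_lit 4) = true := by decide +kernel
theorem eP2_k6_0 : allFrom (eP2_F (nat_lit 6)) (nat_lit 0) (nat_lit 4) = true := by decide +kernel
theorem eP2_k7_0 : allFrom (eP2_F (nat_lit 7)) (nat_lit 0) (nat_lit 4) = true := by decide +kernel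
theorem eP2_k8_0 : allFrom (eP2_F (nat_lit 8)) (nat_lit 0) (nat_lit 4) = true := by decide +kernel
theorem eP2_k9_0 : allFrom (eP2_F (nat_lit 9)) (nat_lit 0) (nat_lit 4) = true := by decide +kernel

theorem eP1_all : Cov eP1_F 4 4 0 := by
  have h := Cov.zero eP1_F 4
  have h := h.blk (b := 4) eP1_k0_0 rfl
  have h := h.next (y := 1) rfl rfl
  have h := h.blk (b := 4) eP1_k1_0 rfl
  have h := h.next (y := 2) rfl rfl
  have h := h.blk (b := 4) eP1_k2_0 rfl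
  have h := h.next (y := 3) rfl rfl
  have h := h.blk (b := 4) eP1_k3_0 rfl
  have h := h.next (y := 4) rfl rfl
  exact h

theorem eP1 : Enum RP1 [] GP 168 :=
  ⟨eP1_cols, eP1_ch, eP1_L, eP1_H, eP1_pb.1, eP1_e.get, [(nat_lit 0), (nat_lit 13), (nat_lit 14), (nat_lit 15)], (nat_lit 128), (nat_lit 8), eP1_rots, eP1_hcs,
    (nat_lit 169), (nat_lit 4), (nat_lit 256), (nat_lit 16), (nat_lit 4096), (nat_lit 16383), (nat_lit 8), (nat_lit 255), (nat_lit 16), (nat_lit 65535), (nat_lit 1), (nat_lit 4),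
    fun _ _ => rfl, fun _ => rfl, fun _ _ => rfl, by decide +kernel, eP1_all.1⟩

theorem eP2_all : Cov eP2_F 4 10 0 := by
  have h := Cov.zero eP2_F 4
  have h := h.blk (b := 4) eP2_k0_0 rfl
  have h := h.next (y := 1) rfl rfl
  have h := h.blk (b := 4) eP2_k1_0 rfl
  have h := h.next (y := 2) rfl rfl
  have h := h.blk (b := 4) eP2_k2_0 rfl
  have h := h.next (y := 3) rfl rfl
  have h := h.blk (b := 4) eP2_k3_0 rfl
  have h := h.next (y := 4) rfl rfl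
  have h := h.blk (b := 4) eP2_k4_0 rfl
  have h := h.next (y := 5) rfl rfl
  have h := h.blk (b := 4) eP2_k5_0 rfl
  have h := h.next (y := 6) rfl rfl
  have h := h.blk (b := 4) eP2_k6_0 rfl
  have h := h.next (y := 7) rfl rfl
  have h := h.blk (b := 4) eP2_k7_0 rfl
  have h := h.next (y := 8) rfl rfl
  have h := h.blk (b := 4) eP2_k8_0 rfl
  have h := h.next (y := 9) rfl rfl
  have h := h.blk (b := 4) eP2_k9_0 rfl
  have h := h.next (y := 10) rfl rfl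
  exact h

theorem eP2 : Enum RP GP (gensW 8) 128 :=
  ⟨eP2_cols, eP2_ch, eP2_L, eP2_H, eP2_pb.1, eP2_e.get, [(nat_lit 0), (nat_lit 1), (nat_lit 3), (nat_lit 5), (nat_lit 7), (nat_lit 9), (nat_lit 11), (nat_lit 13), (nat_lit 14), (nat_lit 15)], (nat_lit 191), (nat_lit 8), eP2_rots, eP2_hcs,
    (nat_lit 129), (nat_lit 10), (nat_lit 256), (nat_lit 128), (nat_lit 32768), (nat_lit 16383), (nat_lit 8), (nat_lit 255), (nat_lit 20), (nat_lit 1048575), (nat_lit 1), (nat_lit 4),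
    fun _ _ => rfl, fun _ => rfl, fun _ _ => rfl, by decide +kernel, eP2_all.1⟩


theorem bndP {K : Type*} [Group K] {g : ℕ → K} (hr : ∀ r ∈ RP, ev g r = 1) : Bound g (gensW 8) 21504 :=
  eP2.bound hr (eP1.bound (rels_sub hr (by decide +kernel)) (bound_nil g))

end CF.Held
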