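import Cfsg.Agent.Comp.Pres
import Cfsg.Agent.LX.AffSL

/-! Matrices of degree five over the field with two elements as bit patterns, and the centralizer of a
transvection as a coded group. -/

set_option autoImplicit false
set_option maxRecDepth 100000

namespace CF.Held

open CF.Comp Matrix

/-- a column of the first matrix times a row of the second -/
noncomputable def tm (a b j k : ℕ) : ℕ :=
  Nat.mul (Nat.land (Nat.shiftRight a j) (nat_lit 1082401)) (Nat.land (Nat.shiftRight b k) (nat_lit 31))

/-- product of bit matrices -/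
noncomputable def mm (a b : ℕ) : ℕ := force a fun a => force b fun b =>
  Nat.xor (Nat.xor (Nat.xor (tm a b (nat_lit 0) (nat_lit 0)) (tm a b (nat_lit 1) (nat_lit 5)))
    (Nat.xor (tm a b (nat_lit 2) (nat_lit 10)) (tm a b (nat_lit 3) (nat_lit 15))))
    (tm a b (nat_lit 4) (nat_lit 20))

/-- a column pattern -/
def spr (b0 b1 b2 b3 b4 : Bool) : ℕ :=
  b0.toNat + 32 * b1.toNat + 1024 * b2.toNat + 32768 * b3.toNat + 1048576 * b4.toNat

theorem spr_spec : ∀ b0 b1 b2 b3 b4 : Bool, spr b0 b1 b2 b3 b4 < 2 ^ 25 ∧
    (∀ n < 25, (spr b0 b1 b2 b3 b4).testBit n = ((n == 0 && b0) || (n == 5 && b1) || (n == 10 && b2) ||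
      (n == 15 && b3) || (n == 20 && b4))) ∧ ∀ r < 32, spr b0 b1 b2 b3 b4 * r < 2 ^ 25 ∧
    ∀ i k : Fin 5, (spr b0 b1 b2 b3 b4 * r).testBit (5 * i + k) =
      (![b0, b1, b2, b3, b4] i && r.testBit k) := by decide +kernel

theorem land_eq_spr (x : ℕ) : x &&& 1082401 =
    spr (x.testBit 0) (x.testBit 5) (x.testBit 10) (x.testBit 15) (x.testBit 20) := by
  refine eq_of_testBit_lt (k := 25) (lt_of_le_of_lt Nat.and_le_right (by decide)) (spr_spec ..).1
    fun n hn => ?_
  rw [(spr_spec ..).2.1 n hn, Nat.testBit_and]
  interval_cases n <;> simp <;> exact fun _ => rfl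

theorem tm_spec (a b j k : ℕ) : tm a b j k < 2 ^ 25 ∧ ∀ i l : Fin 5,
    (tm a b j k).testBit (5 * i + l) = (a.testBit (5 * i + j) && b.testBit (k + l)) := by
  have hr : (b >>> k) &&& 31 < 32 := lt_of_le_of_lt Nat.and_le_right (by decide)
  have e : tm a b j k = ((a >>> j) &&& 1082401) * ((b >>> k) &&& 31) := rfl
  rw [e, land_eq_spr]
  refine ⟨((spr_spec ..).2.2 _ hr).1, fun i l => ?_⟩
  rw [((spr_spec ..).2.2 _ hr).2, Nat.testBit_and, Nat.testBit_shiftRight (x := b),
    show Nat.testBit 31 l = true by revert l; decide, Bool.and_true]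
  congr 1
  fin_cases i <;> simp [Nat.testBit_shiftRight, add_comm]

theorem mm_eq (a b : ℕ) : mm a b =
    ((tm a b 0 0 ^^^ tm a b 1 5) ^^^ (tm a b 2 10 ^^^ tm a b 3 15)) ^^^ tm a b 4 20 := by
  rw [mm, force_eq, force_eq]; rfl

theorem mm_lt (a b : ℕ) : mm a b < 2 ^ 25 := by
  rw [mm_eq]
  exact Nat.xor_lt_two_pow (Nat.xor_lt_two_pow (Nat.xor_lt_two_pow (tm_spec ..).1 (tm_spec ..).1)
    (Nat.xor_lt_two_pow (tm_spec ..).1 (tm_spec ..).1)) (tm_spec ..).1

/-- a truth value in the field -/
def bz (b : Bool) : ZMod 2 := if b then 1 else 0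

/-- the matrix of a code -/
def toM (a : ℕ) : Matrix (Fin 5) (Fin 5) (ZMod 2) := of fun i j => bz (a.testBit (5 * i + j))

theorem toM_mm (a b : ℕ) : toM (mm a b) = toM a * toM b := by
  ext i l
  have h : ∀ a0 a1 a2 a3 a4 b0 b1 b2 b3 b4 : Bool, bz ((((a0 && b0) ^^ (a1 && b1)) ^^
      ((a2 && b2) ^^ (a3 && b3))) ^^ (a4 && b4)) =
      bz a0 * bz b0 + bz a1 * bz b1 + bz a2 * bz b2 + bz a3 * bz b3 + bz a4 * bz b4 := by
    decide +kernel
  simp only [toM, mul_apply, Fin.sum_univ_five, of_apply, mm_eq, Nat.testBit_xor, (tm_spec ..).2, h]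
  rfl

theorem toM_inj {a b : ℕ} (ha : a < 2 ^ 25) (hb : b < 2 ^ 25) (h : toM a = toM b) : a = b :=
  eq_of_testBit_lt ha hb fun n hn => by
    have h1 : ∀ x y, bz x = bz y → x = y := by decide
    have := h1 _ _ (congrFun (congrFun h ⟨n / 5, by omega⟩) ⟨n % 5, by omega⟩)
    rwa [Nat.div_add_mod] at this

theorem toM_surj (M : Matrix (Fin 5) (Fin 5) (ZMod 2)) : ∃ c < 2 ^ 25, toM c = M := by
  have h : Function.Bijective fun c : Fin (2 ^ 25) => toM c :=
    (Nat.bijective_iff_injective_and_card _).2 ⟨fun a b e => Fin.ext (toM_inj a.2 b.2 e), by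
      simp [Matrix, Nat.card_fun]⟩
  obtain ⟨c, e⟩ := h.2 M
  exact ⟨c, c.2, e⟩

theorem toM_one : toM 17043521 = 1 := by decide +kernel

theorem toM_zero : toM 0 = 0 := by decide +kernel

/-- all patterns extending a base by bits from a list -/
noncomputable def allSub (f : ℕ → Bool) (l : List ℕ) : ℕ → Bool :=
  List.rec (motive := fun _ => ℕ → Bool) f
    (fun p _ ih b => Bool.rec false (force (Nat.lor b (Nat.shiftLeft (nat_lit 1) p)) ih) (ih b)) l

theorem allSub_of {f : ℕ → Bool} (h : ∀ x, f x = true) (l : List ℕ) (b : ℕ) : allSub f l b = true := by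
  induction l generalizing b with
  | nil => exact h b
  | cons p l ih => exact brec_and.2 ⟨ih b, (force_eq ..).trans (ih _)⟩

theorem allSub_spec {f : ℕ → Bool} {l : List ℕ} {b : ℕ} (h : allSub f l b = true) {x : ℕ}
    (h1 : ∀ i, b.testBit i = true → x.testBit i = true)
    (h2 : ∀ i, x.testBit i = true → b.testBit i = true ∨ i ∈ l) : f x = true := by
  induction l generalizing b with
  | nil =>
    have : x = b := Nat.eq_of_testBit_eq fun i => Bool.eq_iff_iff.2
      ⟨fun e => (h2 i e).resolve_right (by simp), h1 i⟩
    exact this ▸ h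
  | cons p l ih =>
    obtain ⟨k1, k2⟩ := brec_and.1 h
    rw [force_eq, one_shl] at k2
    have e : ∀ i, (Nat.lor b (2 ^ p)).testBit i = (b.testBit i || decide (p = i)) := fun i => by
      rw [← Nat.testBit_two_pow]; exact Nat.testBit_or ..
    by_cases hp : x.testBit p = true
    · refine ih k2 (fun i hi => ?_) fun i hi => ?_
      · rw [e, Bool.or_eq_true, decide_eq_true_eq] at hi
        exact hi.elim (h1 i) fun e => e ▸ hp
      · rw [e]; rcases h2 i hi with h | h
        · simp [h]
        · rcases List.mem_cons.1 h with rfl | h <;> simp [h]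
    · refine ih k1 h1 fun i hi => (h2 i hi).imp_right fun h => ?_
      exact (List.mem_cons.1 h).resolve_left fun e => hp (e ▸ hi)

/-- the mask of a list of positions -/
def mskOf (l : List ℕ) : ℕ := l.foldr (fun p r => 2 ^ p ||| r) 0

theorem mem_of_mskOf {l : List ℕ} {i : ℕ} (h : (mskOf l).testBit i = true) : i ∈ l := by
  induction l with
  | nil => simp [mskOf] at h
  | cons p l ih =>
    rw [show mskOf (p :: l) = 2 ^ p ||| mskOf l from rfl, Nat.testBit_or, Nat.testBit_two_pow,
      Bool.or_eq_true, decide_eq_true_eq] at h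
    exact h.elim (fun e => e ▸ List.mem_cons_self) fun h => List.mem_cons_of_mem _ (ih h)

/-- a shape: fixed part, mask and list of the free positions -/
structure Sh where
  b : ℕ
  m : ℕ
  l : List ℕ
  ok : m = mskOf l

/-- having the shape -/
noncomputable def Sh.has (σ : Sh) (x : ℕ) : Bool := Nat.beq (Nat.xor x (Nat.land x σ.m)) σ.b

theorem Sh.spec {σ : Sh} {f : ℕ → Bool} (h : allSub f σ.l σ.b = true) {x : ℕ} (hx : σ.has x = true) :
    f x = true := by
  have e : ∀ i, σ.b.testBit i = (x.testBit i ^^ (x.testBit i && σ.m.testBit i)) := fun i => by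
    rw [← beq_iff.1 hx, ← Nat.testBit_and]; exact Nat.testBit_xor ..
  refine allSub_spec h (fun i hi => ?_) fun i hi => ?_
  · rw [e] at hi; revert hi; cases x.testBit i <;> simp
  · rw [e, hi]
    cases hm : σ.m.testBit i
    · simp
    · exact .inr (mem_of_mskOf (σ.ok ▸ hm))

/-- block upper triangular shape -/
def σH : Sh := ⟨16777217, 1014750, [6, 7, 8, 11, 12, 13, 16, 17, 18, 1, 2, 3, 4, 9, 14, 19], by decide⟩

/-- the middle block as a number below 512 -/
noncomputable def bidx (v : ℕ) : ℕ :=
  Nat.lor (Nat.lor (Nat.land (Nat.shiftRight v (nat_lit 6)) (nat_lit 7))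
    (Nat.land (Nat.shiftRight v (nat_lit 8)) (nat_lit 56))) (Nat.land (Nat.shiftRight v (nat_lit 10)) (nat_lit 448))

/-- invertible middle block -/
noncomputable def binv (v : ℕ) : Bool := tb (nat_lit 0x3c5a66665a3c003c0096aa96aa3c005a9600cc965acc0066aacc0066aacc006696966600f0f0005aaa5aaaf000f0003c3cccccf0f000000000000000000000) (bidx v)

/-- inverses (or kernel vectors) of the middle blocks -/
noncomputable def tabD : ℕ := nat_lit 0x3000003000001800000c0000060000030000018000002000005000001a0e5303011981829cc0c0c260400001c00000200000541cc50400000d0130c18298e0800003a06608200000200000540865060451820000060000074082706047082000002000005418e5060c538200000e00000341823060c308200000200000540c450400001d0111c1828860800001a0e2082000002000005000003a065103013881828c40c1c220400000c00000200000200000100000080000040000020000010000008000002000003000002a0e3303012981819cc0c14260400001c000002000006000001800001800000c0000060000030000018000002838ca0800002800000d0128c100000741427060670820000028118a0800002a0461820000068118e0800003a046082000002819ca0800002800001d0129c1000003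41423060e30820000028308a0800002a0c238200000e830860800001a0c2082000002000007000002a067103012881838c40c14220400000c0000020000020000010000008000004000002000001000000800000200000341cc3040000150131418198e0800003a0a6082000002839460800001800001501194100000740c27060a7082000002000006000003000000c00000c00000600000300000180000028114c0c086604000014000006811cc0c08260400001c0000028194e0800003800001501394100000341c23060a308200000200000740c4704000015011141838860800001a0a2082000002831440c18e20400001400000e830c40c18220400000c00000200000200000100000080000040000020000010000008000002000003410a30608328200000a0000074102706087082000002821860800001a08628200000a8218e0800003a086082000002820cc0c10a60400000c00000a821cc0c10260400001c00000200000600000300000180000060000060000030000018000002000007410a70608728200000a00000341023060830820000028208e0800003a08228200000a820860800001a082082000002821c40c10a20400001c00000a820c40c10220400000c00000200000200000100000080000040000020000010000008000002000003418e3060c338200000e00000541825060c5082000002829c60800001800001d0119c100000540c25060e5082000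002828ce0800003800000d0138c100000541c250606508200000200000740867060471820000060000054082506045082000002000006000003000001800000c00000300000300000180000028288c0c0c46060e2303011181000005000001800001c000002829840c1cc206066103013081000005000003800000c00000200000200000100000080000040000020000010000008000002000003414830400001d0121c18190a0800002a0e4082000002831060800001a0c438200000e8310a0800002a0c4082000002000007414870400000d0120c18390a0800002a0640820000028110e0800003a0441820000068110a0800002a0440820000028190c0c1486060e4303012181000003000002800001c000002000006000003000001800000c0000060000018000018000002839040c148206064103012081000007000002800000c00000200000200000100000080000040000020000010000008000002000003000003a0a3203013901819480c1c2404000014000002000007000001a0a7203011901839480c0c2404000014000002830c80c18e40400000c00000e831480c182404000014000002811c80c08640400001c000006811480c082404000014000002819880c1cc4060a62030131010000030000038000014000002838880c0c44060a22030111010000070000018000014000002000006000003000001800000c000006000003000000c000002000002000001000000800000400000200000100000080000020000030000020000010000008000004000002000001000000200000400000180000100000080000040000020000010000002000004000002000000c00000800000400000200000100000020000040000020000010000006000004000002000001000000200000400000200000100000080000030000020000010000002000004000002000001000000800000400000180000100000020000040000020000010000008000004000002000000c00000200000200000100000080000040000020000010000008000002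

/-- the entry of the table -/
noncomputable def dinv (v : ℕ) : ℕ :=
  Nat.land (Nat.shiftRight tabD (Nat.mul (nat_lit 25) (bidx v))) (nat_lit 33554431)

/-- the inverse -/
noncomputable def iv (v : ℕ) : ℕ := force v fun v => force (dinv v) fun d => force (mm d v) fun n =>
  mm (Nat.xor (Nat.xor n (mm n n)) (nat_lit 17043521)) d

/-- codes of elements of the centralizer -/
noncomputable def good (v : ℕ) : Bool := force v fun v => Bool.rec false (binv v) (σH.has v)

theorem good_iff {v : ℕ} : good v = true ↔ σH.has v = true ∧ binv v = true := by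
  rw [good, force_eq]; exact brec_and

/-- the basic check -/
noncomputable def chk0 (v : ℕ) : Bool :=
  Bool.rec (force (dinv v) fun x => Bool.rec (Bool.rec false (Bool.rec
      (Nat.beq (mm (Nat.lor x (nat_lit 16)) v) (nat_lit 0)) true (Nat.beq (mm x v) (nat_lit 0)))
      (Nat.ble x (nat_lit 15))) false (Nat.beq x (nat_lit 0)))
    (force (iv v) fun w => Bool.rec false (Bool.rec false (good w) (Nat.beq (mm w v) (nat_lit 17043521)))
      (Bool.rec false (Nat.beq (mm v (nat_lit 17043537)) (mm (nat_lit 17043537) v))
        (Nat.ble v (nat_lit 33554431)))) (binv v)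

theorem chk0_all : allSub chk0 σH.l σH.b = true := by decide +kernel

theorem chk0_good {v : ℕ} (h : good v = true) : good (iv v) = true ∧ mm (iv v) v = 17043521 ∧
    mm v 17043537 = mm 17043537 v ∧ v < 2 ^ 25 := by
  obtain ⟨h1, h2⟩ := good_iff.1 h
  have := Sh.spec chk0_all h1
  rw [chk0, h2, force_eq, force_eq] at this
  obtain ⟨a, b⟩ := brec_and.1 this
  obtain ⟨c, d⟩ := brec_and.1 a
  obtain ⟨e, f⟩ := brec_and.1 b
  exact ⟨f, beq_iff.1 e, beq_iff.1 d, Nat.lt_succ_of_le (ble_iff.1 c)⟩

theorem good_of {v w : ℕ} (hv : v < 2 ^ 25) (h : toM v * toM w = 1)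
    (hc : toM v * toM 17043537 = toM 17043537 * toM v) : good v = true := by
  have z0 : ∀ {x : ℕ}, x < 2 ^ 25 → mm x v = 0 → x = 0 := fun {x} hx e =>
    toM_inj hx (by decide) (by
      rw [← mul_one (toM x), ← h, ← Matrix.mul_assoc, ← toM_mm, e, toM_zero, Matrix.zero_mul])
  have hz : toM 17043537 = 1 + single 0 4 1 := by decide +kernel
  rw [hz, mul_add, add_mul, mul_one, one_mul, add_right_inj] at hc
  have e := fun i j => congrFun (congrFun hc i) j
  have b0 : ∀ {x}, bz x = 0 → x = false := by decide
  have b1 : ∀ {x y}, bz x = bz y → x = y := by decide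
  have c1 : v.testBit 5 = false := b0 (by simpa [mul_apply, Fin.sum_univ_five, toM] using e 1 4)
  have c2 : v.testBit 10 = false := b0 (by simpa [mul_apply, Fin.sum_univ_five, toM] using e 2 4)
  have c3 : v.testBit 15 = false := b0 (by simpa [mul_apply, Fin.sum_univ_five, toM] using e 3 4)
  have c4 : v.testBit 20 = false := b0 (by simpa [mul_apply, Fin.sum_univ_five, toM] using e 4 4)
  have c5 : v.testBit 21 = false := b0 (by simpa [mul_apply, Fin.sum_univ_five, toM] using (e 0 1).symm)
  have c6 : v.testBit 22 = false := b0 (by simpa [mul_apply, Fin.sum_univ_five, toM] using (e 0 2).symm)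
  have c7 : v.testBit 23 = false := b0 (by simpa [mul_apply, Fin.sum_univ_five, toM] using (e 0 3).symm)
  have c8 : v.testBit 0 = v.testBit 24 := b1 (by simpa [mul_apply, Fin.sum_univ_five, toM] using e 0 4)
  have c9 : v.testBit 24 = true := by
    by_contra hh
    rw [Bool.not_eq_true] at hh
    have := congrFun (congrFun h 4) 4
    simp [mul_apply, Fin.sum_univ_five, toM, c4, c5, c6, c7, hh, bz] at this
  have h1 : σH.has v = true := beq_iff.2 (eq_of_testBit_lt (k := 25)
    (Nat.xor_lt_two_pow hv (lt_of_le_of_lt Nat.and_le_left hv)) (by decide) fun n hn => by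
      have : (Nat.xor v (Nat.land v σH.m)).testBit n =
          (v.testBit n ^^ (v.testBit n && Nat.testBit 1014750 n)) := by
        rw [← Nat.testBit_and]; exact Nat.testBit_xor ..
      rw [this]
      interval_cases n <;> (try simp only [c1, c2, c3, c4, c5, c6, c7, c8, c9]) <;>
        first | rfl | (generalize v.testBit _ = x; revert x; decide))
  refine good_iff.2 ⟨h1, ?_⟩
  have := Sh.spec chk0_all h1
  by_contra hh
  rw [chk0, Bool.eq_false_iff.2 hh, force_eq] at this
  obtain ⟨a, b⟩ := brec_not_and.1 this
  obtain ⟨c, d⟩ := brec_and.1 b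
  have c : dinv v ≤ 15 := ble_iff.1 c
  rcases brec_or.1 d with d | d
  · exact beq_false_iff.1 a (z0 (by omega) (beq_iff.1 d))
  · have := z0 (Nat.or_lt_two_pow (by omega) (by decide)) (beq_iff.1 d)
    have := congrArg (Nat.testBit · 4) this
    simp at this
    exact absurd this.2 (by decide)

/-- the centralizer of the transvection in position `(0, 4)` -/
structure HM : Type where
  v : ℕ
  ok : good v = true

namespace HM

theorem ext {a b : HM} (h : a.v = b.v) : a = b := by cases a; cases b; congr

theorem lt (a : HM) : a.v < 2 ^ 25 := (chk0_good a.ok).2.2.2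

theorem ext' {a b : HM} (h : toM a.v = toM b.v) : a = b := ext (toM_inj a.lt b.lt h)

theorem inv_mul' (a : HM) : toM (iv a.v) * toM a.v = 1 := by
  rw [← toM_mm, (chk0_good a.ok).2.1, toM_one]

theorem comm' (a : HM) : toM a.v * toM 17043537 = toM 17043537 * toM a.v := by
  rw [← toM_mm, (chk0_good a.ok).2.2.1, toM_mm]

noncomputable instance instDecEq : DecidableEq HM := fun a b =>
  decidable_of_iff (Nat.beq a.v b.v = true) ⟨fun h => ext (beq_iff.1 h), fun h => h ▸ beq_iff.2 rfl⟩

noncomputable instance instMul : Mul HM := ⟨fun a b => ⟨mm a.v b.v,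
  good_of (w := mm (iv b.v) (iv a.v)) (mm_lt ..) (by
    rw [toM_mm, toM_mm, Matrix.mul_assoc, ← Matrix.mul_assoc (toM b.v), mul_eq_one_comm.1 b.inv_mul',
      one_mul, mul_eq_one_comm.1 a.inv_mul']) (by
    rw [toM_mm, Matrix.mul_assoc, b.comm', ← Matrix.mul_assoc, a.comm', Matrix.mul_assoc])⟩⟩

noncomputable instance instInv : Inv HM := ⟨fun a => ⟨iv a.v, (chk0_good a.ok).1⟩⟩

instance instOne : One HM := ⟨⟨nat_lit 17043521, by decide +kernel⟩⟩

theorem toM_mul (a b : HM) : toM (a * b).v = toM a.v * toM b.v := toM_mm ..

noncomputable instance instGroup : Group HM := Group.ofLeftAxioms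
  (fun a b c => ext' (by simp only [toM_mul, Matrix.mul_assoc]))
  (fun a => ext' (by rw [toM_mul]; exact (congrArg (· * _) toM_one).trans (one_mul _)))
  (fun a => ext (chk0_good a.ok).2.1)

instance instFinite : Finite HM :=
  Finite.of_injective (fun a : HM => (⟨a.v, a.lt⟩ : Fin (2 ^ 25))) fun _ _ h => ext (congrArg Fin.val h)

/-- the element with a given code -/
noncomputable def mk' (v : ℕ) : HM := force v fun v => if h : good v = true then ⟨v, h⟩ else 1

theorem mk'_v (a : HM) : mk' a.v = a := by rw [mk', force_eq, dif_pos a.ok]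

/-- membership in a shape -/
def In (σ : Sh) (a : HM) : Prop := σ.has a.v = true

noncomputable instance instDecIn (σ : Sh) (a : HM) : Decidable (In σ a) := instDecidableEqBool _ _

/-- a test on codes -/
noncomputable def guard (p : HM → Bool) (v : ℕ) : Bool := if h : good v = true then p ⟨v, h⟩ else true

theorem guard_iff {p : HM → Bool} {σ : Sh} :
    allSub (guard fun a => Bool.rec true (p a) (σ.has a.v)) σ.l σ.b = true ↔
      ∀ a, In σ a → p a = true := by
  refine ⟨fun h a ha => ?_, fun h => allSub_of (fun x => ?_) ..⟩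
  · have := Sh.spec h ha
    rw [guard, dif_pos a.ok] at this
    exact brec_imp.1 this ha
  · rw [guard]; split_ifs with hx
    exacts [brec_imp.2 (h ⟨x, hx⟩), rfl]

theorem in_H (a : HM) : In σH a := (good_iff.1 a.ok).1

theorem binv_and (v : ℕ) : binv (v &&& 33013217) = binv v := by
  have h : ∀ k m, (33013217 >>> k) &&& m = m →
      Nat.land (Nat.shiftRight (v &&& 33013217) k) m = Nat.land (Nat.shiftRight v k) m := fun k m h => by
    show ((v &&& 33013217) >>> k) &&& m = (v >>> k) &&& m
    rw [Nat.shiftRight_and_distrib, Nat.and_assoc, h]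
  rw [binv, binv, bidx, bidx, h, h, h] <;> rfl

noncomputable instance instDecAll (P : HM → Prop) [DecidablePred P] : Decidable (∀ a, P a) :=
  decidable_of_iff (allSub (fun b => Bool.rec true (allSub (guard fun a => decide (P a))
      [nat_lit 1, nat_lit 2, nat_lit 3, nat_lit 4, nat_lit 9, nat_lit 14, nat_lit 19] b) (binv b))
      [nat_lit 6, nat_lit 7, nat_lit 8, nat_lit 11, nat_lit 12, nat_lit 13, nat_lit 16, nat_lit 17,
        nat_lit 18] (nat_lit 16777217) = true) (by
    refine ⟨fun h a => ?_, fun h => allSub_of (fun b => brec_imp.2 fun _ => allSub_of (fun x => ?_) ..) ..⟩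
    · have e : ∀ i, Nat.testBit 16777217 i = (a.v.testBit i ^^ (a.v.testBit i && Nat.testBit 1014750 i)) :=
        fun i => by
          rw [← Nat.testBit_and, ← Nat.testBit_xor]; exact congrArg (·.testBit i) (beq_iff.1 a.in_H).symm
      have l : ∀ i, a.v.testBit i = true → i < 25 := fun i hi => by
        by_contra hh
        rw [Nat.testBit_lt_two_pow (lt_of_lt_of_le a.lt (Nat.pow_le_pow_right (by decide)
          (not_lt.1 hh)))] at hi
        exact absurd hi (by decide)
      have h1 := allSub_spec h (x := a.v &&& 33013217) (fun i hi => by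
        have := e i
        rw [show Nat.testBit 16777217 i = true from hi] at this
        have h2 : a.v.testBit i = true := by revert this; cases a.v.testBit i <;> simp
        have := l i h2
        rw [Nat.testBit_and, h2]
        revert hi; interval_cases i <;> decide) fun i hi => by
        rw [Nat.testBit_and, Bool.and_eq_true] at hi
        have h4 := e i
        rw [hi.1] at h4
        have h3 := hi.2
        have := l i hi.1
        revert h3 h4; clear hi; interval_cases i <;> decide
      have h2 := allSub_spec (brec_imp.1 h1 ((binv_and _).trans (good_iff.1 a.ok).2)) (x := a.v)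
        (fun i hi => by rw [Nat.testBit_and, Bool.and_eq_true] at hi; exact hi.1) fun i hi => by
          rw [Nat.testBit_and, hi]
          have := l i hi
          interval_cases i <;> decide
      rw [guard, dif_pos a.ok] at h2
      exact of_decide_eq_true h2
    · rw [guard]; split_ifs with hx
      exacts [decide_eq_true (h _), rfl])

noncomputable instance instDecAllIn (σ : Sh) (P : HM → Prop) [DecidablePred P] :
    Decidable (∀ a, In σ a → P a) :=
  decidable_of_iff _ ((guard_iff (p := fun a => decide (P a)) (σ := σ)).trans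
    (by simp only [decide_eq_true_eq]))

noncomputable instance instDecExIn (σ : Sh) (P : HM → Prop) [DecidablePred P] :
    Decidable (∃ a, In σ a ∧ P a) :=
  decidable_of_iff (¬ ∀ a, In σ a → ¬ P a) (by simp)

/-- the list of all patterns -/
noncomputable def subL (l : List ℕ) : ℕ → List ℕ :=
  List.rec (motive := fun _ => ℕ → List ℕ) (fun b => [b])
    (fun p _ ih b => lapp (ih b) (force (Nat.lor b (Nat.shiftLeft (nat_lit 1) p)) ih)) l

theorem allSub_eq (f : ℕ → Bool) (l : List ℕ) (b : ℕ) : allSub f l b = (subL l b).all f := by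
  induction l generalizing b with
  | nil => exact (Bool.and_true _).symm
  | cons p l ih =>
    have e : subL (p :: l) b = subL l b ++ subL l (Nat.lor b (Nat.shiftLeft 1 p)) := by
      rw [← lapp_eq, ← force_eq (Nat.lor _ _) (subL l)]; rfl
    rw [e, List.all_append, ← ih, ← ih, ← force_eq (Nat.lor _ _) (allSub f l)]
    exact band_eq _ _

/-- the elements of a shape -/
noncomputable def els (σ : Sh) : List HM := lmap mk' (subL σ.l σ.b)

theorem mem_els {σ : Sh} {a : HM} (h : In σ a) : a ∈ els σ := by
  by_contra hh
  have : allSub (fun x => decide (x ≠ a.v)) σ.l σ.b = true := by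
    rw [allSub_eq, List.all_eq_true]
    intro x hx
    refine decide_eq_true fun e => hh ?_
    rw [els, lmap_eq]
    exact List.mem_map.2 ⟨x, hx, e ▸ mk'_v a⟩
  simpa using Sh.spec this h

/-- counting in a list -/
noncomputable def cnt {α : Type} (p : α → Bool) (l : List α) : ℕ → ℕ :=
  List.rec (motive := fun _ => ℕ → ℕ) (fun s => s)
    (fun a _ ih s => force (Bool.rec s (Nat.succ s) (p a)) ih) l

theorem cnt_eq {α : Type} (p : α → Bool) (l : List α) (s : ℕ) : cnt p l s = s + l.countP p := by
  induction l generalizing s with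
  | nil => rfl
  | cons a l ih =>
    rw [List.countP_cons, show cnt p (a :: l) s = force _ (cnt p l) from rfl, force_eq, ih]
    cases p a <;> simp <;> omega

theorem card_le_cnt {σ : Sh} {S : Subgroup HM} (p : HM → Prop) [DecidablePred p]
    (h : ∀ a ∈ S, In σ a ∧ p a) : Nat.card S ≤ cnt (fun a => decide (p a)) (els σ) 0 := by
  rw [cnt_eq, zero_add, List.countP_eq_length_filter]
  refine le_trans ?_ (List.toFinset_card_le _)
  rw [← Fintype.card_coe, ← Nat.card_eq_fintype_card]
  exact Nat.card_le_card_of_injective (fun a => ⟨a.1, by simp [mem_els (h _ a.2).1, (h _ a.2).2]⟩)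
    fun a b e => Subtype.ext (Subtype.mk.inj e)

theorem card_eq_of {σ : Sh} {S : Subgroup HM} (h : ∀ a, a ∈ S ↔ In σ a) (h1 : (els σ).Nodup)
    (h2 : ∀ a ∈ els σ, In σ a) : Nat.card S = (els σ).length := by
  rw [← List.toFinset_card_of_nodup h1, ← Fintype.card_coe, ← Nat.card_eq_fintype_card]
  exact Nat.card_congr (Equiv.subtypeEquivRight fun a => by
    rw [h, List.mem_toFinset]; exact ⟨mem_els, h2 a⟩)

end HM

/-- reordering of the coordinates -/
def π5 : Fin 5 ≃ Fin 5 := ⟨![0, 4, 1, 2, 3], ![0, 2, 3, 4, 1], by decide, by decide⟩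

/-- the matrix in `SL(5,2)` of an invertible code -/
def toSL (v w : ℕ) (h : toM v * toM w = 1) : SpecialLinearGroup (Fin 5) (ZMod 2) :=
  ⟨(toM v).submatrix π5 π5, by
    rw [det_submatrix_equiv_self]
    exact CF.LX.zmod_two_unit (isUnit_det_of_right_inverse h)⟩

theorem exists_equiv {s : SpecialLinearGroup (Fin 5) (ZMod 2)} (hs : s.1 = transvection 0 1 1) :
    Nonempty (HM ≃* Subgroup.centralizer ({s} : Set (SpecialLinearGroup (Fin 5) (ZMod 2)))) := by
  have hz : s.1 = (toM 17043537).submatrix π5 π5 := hs.trans (by decide +kernel)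
  let f : HM →* Subgroup.centralizer ({s} : Set (SpecialLinearGroup (Fin 5) (ZMod 2))) :=
    MonoidHom.mk' (fun a => ⟨toSL a.v _ (mul_eq_one_comm.1 a.inv_mul'),
      Subgroup.mem_centralizer_singleton_iff.2 (Subtype.ext (by
        show submatrix _ _ _ * s.1 = s.1 * submatrix _ _ _
        rw [hz, submatrix_mul_equiv, submatrix_mul_equiv, a.comm']))⟩)
      fun a b => Subtype.ext (Subtype.ext (by
        show submatrix _ _ _ = submatrix _ _ _ * submatrix _ _ _
        rw [submatrix_mul_equiv, HM.toM_mul]))
  refine ⟨MulEquiv.ofBijective f ⟨fun a b e => HM.ext' ?_, fun M => ?_⟩⟩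
  · have := congrArg (fun x => x.1.1.submatrix π5.symm π5.symm) e
    simpa [f, toSL] using this
  · obtain ⟨v, hv, e⟩ := toM_surj (M.1.1.submatrix π5.symm π5.symm)
    obtain ⟨w, -, e'⟩ := toM_surj ((M.1⁻¹).1.submatrix π5.symm π5.symm)
    have hc : (M.1.1 * s.1).submatrix π5.symm π5.symm = (s.1 * M.1.1).submatrix π5.symm π5.symm :=
      congrArg (fun x => x.1.submatrix π5.symm π5.symm)
        (Subgroup.mem_centralizer_singleton_iff.1 M.2)
    rw [← submatrix_mul_equiv _ _ _ π5.symm, ← submatrix_mul_equiv _ _ _ π5.symm, hz, ← e] at hc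
    simp only [submatrix_submatrix, Equiv.self_comp_symm, submatrix_id_id] at hc
    refine ⟨⟨v, good_of (w := w) hv ?_ hc⟩, Subtype.ext (Subtype.ext ?_)⟩
    · rw [e, e', submatrix_mul_equiv, show M.1.1 * (M.1⁻¹).1 = 1 from
        (Matrix.SpecialLinearGroup.coe_mul M.1 M.1⁻¹).symm.trans (by rw [mul_inv_cancel]; rfl)]; simp
    · simp [f, toSL, e]

end CF.Held
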