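import Cfsg.Agent.Held.Rels
import Cfsg.Agent.Comp.Mat
import Cfsg.Agent.Comp.MatG

/-! The relations hold in the Mathieu group. -/

set_option autoImplicit false
set_option maxRecDepth 100000

namespace CF.Held

open CF.Comp

/-- the generators in the Mathieu group -/
noncomputable def WM : List (List ℕ) := [[(nat_lit 9), (nat_lit 23), (nat_lit 6), (nat_lit 9), (nat_lit 1), (nat_lit 12)],
  [(nat_lit 31), (nat_lit 13), (nat_lit 4), (nat_lit 7), (nat_lit 21), (nat_lit 5), (nat_lit 1)],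
  [(nat_lit 7), (nat_lit 4), (nat_lit 27), (nat_lit 13), (nat_lit 3), (nat_lit 8)],
  [(nat_lit 14), (nat_lit 6), (nat_lit 6), (nat_lit 8), (nat_lit 13), (nat_lit 4), (nat_lit 17)],
  [(nat_lit 3), (nat_lit 11), (nat_lit 6), (nat_lit 25), (nat_lit 5), (nat_lit 12), (nat_lit 4)],
  [(nat_lit 14), (nat_lit 22), (nat_lit 3), (nat_lit 11), (nat_lit 29), (nat_lit 12), (nat_lit 5)],
  [(nat_lit 9), (nat_lit 2), (nat_lit 7), (nat_lit 3), (nat_lit 19), (nat_lit 11), (nat_lit 2)],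
  [(nat_lit 12), (nat_lit 4), (nat_lit 23), (nat_lit 16), (nat_lit 3), (nat_lit 11)]]

/-- and back -/
noncomputable def UM : List (List ℕ) := [[(nat_lit 3), (nat_lit 5), (nat_lit 9), (nat_lit 11), (nat_lit 5), (nat_lit 13), (nat_lit 9), (nat_lit 11), (nat_lit 13), (nat_lit 3), (nat_lit 9), (nat_lit 11), (nat_lit 1)],
  [(nat_lit 1), (nat_lit 11), (nat_lit 9), (nat_lit 11), (nat_lit 13), (nat_lit 1), (nat_lit 15), (nat_lit 9), (nat_lit 11), (nat_lit 9), (nat_lit 13), (nat_lit 5), (nat_lit 13), (nat_lit 15), (nat_lit 1), (nat_lit 3)]]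

noncomputable def NM_0 : Net := (Net.cons (nat_lit 1) (nat_lit 69888) (Net.cons (nat_lit 2) (nat_lit 1057280) (Net.cons (nat_lit 4) (nat_lit 197376) (Net.cons (nat_lit 8) (nat_lit 48) (Net.cons (nat_lit 16) (nat_lit 51) (Net.cons (nat_lit 8) (nat_lit 18) (Net.cons (nat_lit 4) (nat_lit 67842) (Net.cons (nat_lit 2) (nat_lit 1057280) (Net.cons (nat_lit 1) (nat_lit 332096) Net.nil)))))))))
noncomputable def NM_1 : Net := (Net.cons (nat_lit 1) (nat_lit 4194304) (Net.cons (nat_lit 2) (nat_lit 3154176) (Net.cons (nat_lit 4) (nat_lit 263680) (Net.cons (nat_lit 8) (nat_lit 4) (Net.cons (nat_lit 16) (nat_lit 84) (Net.cons (nat_lit 8) (nat_lit 6) (Net.cons (nat_lit 4) (nat_lit 397056) (Net.cons (nat_lit 2) (nat_lit 3154176) (Net.cons (nat_lit 1) (nat_lit 4199428) Net.nil)))))))))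
noncomputable def NM_2 : Net := (Net.cons (nat_lit 1) (nat_lit 4461568) (Net.cons (nat_lit 2) (nat_lit 139264) (Net.cons (nat_lit 4) (nat_lit 525312) (Net.cons (nat_lit 8) (nat_lit 128) (Net.cons (nat_lit 16) (nat_lit 130) (Net.cons (nat_lit 8) (nat_lit 156) (Net.cons (nat_lit 4) (nat_lit 525312) (Net.cons (nat_lit 2) (nat_lit 1253376) (Net.cons (nat_lit 1) (nat_lit 4461824) Net.nil)))))))))
noncomputable def NM_3 : Net := (Net.cons (nat_lit 1) (nat_lit 1052692) (Net.cons (nat_lit 2) (nat_lit 2162944) (Net.cons (nat_lit 4) (nat_lit 787968) (Net.cons (nat_lit 8) (nat_lit 64) (Net.cons (nat_lit 16) (nat_lit 120) (Net.cons (nat_lit 8) (nat_lit 70) (Net.cons (nat_lit 4) (nat_lit 790272) (Net.cons (nat_lit 2) (nat_lit 2162944) (Net.cons (nat_lit 1) (nat_lit 1052692) Net.nil)))))))))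
noncomputable def NM_4 : Net := (Net.cons (nat_lit 1) (nat_lit 4264208) (Net.cons (nat_lit 2) (nat_lit 1052704) (Net.cons (nat_lit 4) (nat_lit 262144) (Net.cons (nat_lit 8) (nat_lit 17) (Net.cons (nat_lit 16) (nat_lit 23) (Net.cons (nat_lit 8) (nat_lit 17) (Net.cons (nat_lit 4) (nat_lit 263688) (Net.cons (nat_lit 2) (nat_lit 1052704) (Net.cons (nat_lit 1) (nat_lit 4526352) Net.nil)))))))))
noncomputable def NM_5 : Net := (Net.cons (nat_lit 1) (nat_lit 5312512) (Net.cons (nat_lit 2) (nat_lit 3154176) (Net.cons (nat_lit 4) (nat_lit 722688) (Net.cons (nat_lit 8) (nat_lit 65) (Net.cons (nat_lit 16) (nat_lit 105) (Net.cons (nat_lit 8) (nat_lit 87) (Net.cons (nat_lit 4) (nat_lit 724736) (Net.cons (nat_lit 2) (nat_lit 3154176) (Net.cons (nat_lit 1) (nat_lit 5312512) Net.nil)))))))))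
noncomputable def NM_6 : Net := (Net.cons (nat_lit 1) (nat_lit 1315840) (Net.cons (nat_lit 2) (nat_lit 1192448) (Net.cons (nat_lit 4) (nat_lit 133632) (Net.cons (nat_lit 8) (nat_lit 32) (Net.cons (nat_lit 16) (nat_lit 50) (Net.cons (nat_lit 8) (nat_lit 108) (Net.cons (nat_lit 4) (nat_lit 657920) (Net.cons (nat_lit 2) (nat_lit 1192448) (Net.cons (nat_lit 1) (nat_lit 1332224) Net.nil)))))))))
noncomputable def NM_7 : Net := (Net.cons (nat_lit 1) (nat_lit 5263376) (Net.cons (nat_lit 2) (nat_lit 143392) (Net.cons (nat_lit 4) (nat_lit 327680) (Net.cons (nat_lit 8) (nat_lit 168) (Net.cons (nat_lit 16) (nat_lit 173) (Net.cons (nat_lit 8) (nat_lit 168) (Net.cons (nat_lit 4) (nat_lit 855048) (Net.cons (nat_lit 2) (nat_lit 143392) (Net.cons (nat_lit 1) (nat_lit 5263632) Net.nil)))))))))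
noncomputable def NM : List Net := [NM_0, NM_1, NM_2, NM_3, NM_4, NM_5, NM_6, NM_7]

theorem rels_of {K Ω : Type*} [Group K] [MulAction K Ω] {n : ℕ} {D : Dom Ω n} {N N' : List Net}
    {f : ℕ → K} {C : List Lvl} {H : Subgroup K} (h : Exact D N f C H) (hf : ∀ i, f i ∈ H)
    {W R : List (List ℕ)} (h' : Reps (D.pre le_rfl) N' (evs f W))
    (hc : lall (fun r => lall (fun L : Lvl => fixW N' L.b r) C) R = true) :
    ∀ r ∈ R, ev (evs f W) r = 1 := fun r hr =>
  h.eq_one (ev_mem (evs_mem fun w _ => ev_mem hf w) r) fun L hL =>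
    h'.fixW (chainOK_lt h.ok hL) (lall_iff.1 (lall_iff.1 hc r hr) L hL)

theorem gen_of {K Ω : Type*} [Group K] [MulAction K Ω] {n : ℕ} {D : Dom Ω n} {N : List Net} {f : ℕ → K}
    {C : List Lvl} {H : Subgroup K} (h : Exact D N f C H) (hf : ∀ i, f i ∈ H) {W : List (List ℕ)}
    {u : List ℕ} {i : ℕ} (hu : wordIn (gensW 8) u = true)
    (hc : lall (fun L : Lvl => fixW N L.b (lapp [2 * i + 2] (subst W u))) C = true) :
    f i ∈ clo (evs f W) (gensW 8) := by
  have := h.rels (rs := [lapp [2 * i + 2] (subst W u)]) (fun w _ => ev_mem hf w)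
    (lall_iff.2 fun r hr => List.mem_singleton.1 hr ▸ hc) _ List.mem_cons_self
  rw [ev_lapp, ← ev_evs, ev_cons, ev_nil, mul_one, evL_even, inv_mul_eq_one] at this
  exact this ▸ ev_mem_clo_of_wordIn hu

theorem relsM : ∀ r ∈ RM, ev (evs (Mat.el Mat.aN) WM) r = 1 :=
  rels_of (N' := NM) Mat.aExact Mat.aMem (Mat.aExact.reps.pre (k := 5) le_rfl (by decide)
    (wf_of_wfAll (by decide +kernel)) rfl (by decide +kernel)) (by decide +kernel)

theorem cloM : clo (evs (Mat.el Mat.aN) WM) (gensW 8) = Cfsg.M24 :=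
  le_antisymm (clo_le.2 fun w _ => ev_mem (evs_mem fun w _ => ev_mem Mat.aMem w) w) (Mat.M24_le
    (gen_of Mat.aExact Mat.aMem (u := nth [] UM 0) (by decide +kernel) (by decide +kernel))
    (gen_of Mat.aExact Mat.aMem (u := nth [] UM 1) (by decide +kernel) (by decide +kernel)))

end CF.Held
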